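import Cfsg.Agent.Lib.Sporadic.M11Order.Local

/-!
A simple group of order 7920: the principal `11`-block, in its two possible shapes.
-/

set_option autoImplicit false

namespace CfsgLib.M11Order

open Subgroup SmallOrder

universe u

variable {G : Type u} [Group G] [Fintype G] [IsSimpleGroup G]

/-- the sign of a character of degree `f` in the principal block -/
def sgn (f : ℕ) : ℤ := if f = 10 then 1 else -1

/-- The principal block at `11`: `n` characters of degree `10`, `4 - n` of degree `d`, two of degree `f0`. -/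
structure Eleven (G : Type u) [Group G] [Fintype G] (n d f0 : ℕ) where
  /-- the non-exceptional non-principal characters -/
  A : Finset (Cfsg.IrrCharacter G)
  /-- an exceptional character -/
  x1 : Cfsg.IrrCharacter G
  /-- the other exceptional character -/
  x2 : Cfsg.IrrCharacter G
  hne : x1 ≠ x2
  hx1 : Char.degree x1.1 = f0
  hx2 : Char.degree x2.1 = f0
  hpx : x1 ≠ Char.principalIrr ∧ x2 ≠ Char.principalIrr
  hpA : Char.principalIrr ∉ A
  hxA : x1 ∉ A ∧ x2 ∉ A
  hA : A.card = 4
  hA10 : (A.filter fun χ => Char.degree χ.1 = 10).card = n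
  hAd : (A.filter fun χ => Char.degree χ.1 = d).card = 4 - n
  hout : ∀ χ, χ ≠ Char.principalIrr → χ ∉ A → χ ≠ x1 → χ ≠ x2 → 11 ∣ Char.degree χ.1
  /-- orthogonality to an element of order prime to `11` -/
  orth : ∀ y : G, ¬ 11 ∣ orderOf y → x2.1 y = x1.1 y ∧
    -1 + (∑ χ ∈ A, (sgn (Char.degree χ.1) : ℂ) * χ.1 y) + x1.1 y = 0
  /-- no involution inverts an element of order `11` -/
  invol : ∀ y : G, y ≠ 1 → y ^ 2 = 1 →
    -1 + (∑ χ ∈ A, (sgn (Char.degree χ.1) : ℂ) * (χ.1 y ^ 2 / (Char.degree χ.1 : ℂ))) +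
      x1.1 y ^ 2 / (f0 : ℂ) = 0

/-- the test selecting the two possible shapes -/
def okEleven (W : ℤ) (f : ℕ) (l : List (ℤ × ℕ)) : Bool :=
  (decide (W = 1) && Nat.beq f 16 && Nat.beq l.length 4 && Nat.beq (l.count (1, 10)) 3 &&
    Nat.beq (l.count (-1, 45)) 1) ||
  (decide (W = 1) && Nat.beq f 5 && Nat.beq l.length 4 && Nat.beq (l.count (1, 10)) 2 &&
    Nat.beq (l.count (-1, 12)) 2)

theorem principal_degree : Char.degree (Char.principalIrr : Cfsg.IrrCharacter G).1 = 1 := by
  have h := Char.IsCharacter.degree_cast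
    (Char.IsIrrCharacter.isCharacter (Char.principalIrr : Cfsg.IrrCharacter G).2)
  rw [Char.principalIrr_apply] at h
  exact_mod_cast h

theorem exists_eleven (hG : Nat.card G = 7920) :
    Nonempty (Eleven G 3 45 16) ∨ Nonempty (Eleven G 2 12 5) := by
  classical
  have : Fact (Nat.Prime 11) := ⟨by norm_num⟩
  obtain ⟨P⟩ := (inferInstance : Nonempty (Sylow 11 G))
  have hP : Nat.card ↥(P : Subgroup G) = 11 := by
    simpa using card_sylow_eq (e := 1) (m := 720) (by rw [hG]; norm_num) (by norm_num) P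
  obtain ⟨S⟩ := exists_csplit P hP
  obtain ⟨hV, he⟩ := sylow_eleven hG P S
  obtain ⟨K⟩ := S.exists_census
  have := Fintype.ofFinite S.Orb
  have hO : Fintype.card S.Orb = 2 := S.card_orb (by rw [he])
  obtain ⟨o1, o2, ho, huniv⟩ := Finset.card_eq_two.1 (Finset.card_univ.trans hO)
  have hall : ∀ o, o = o1 ∨ o = o2 := fun o => by
    have := Finset.mem_univ o
    rw [huniv] at this
    simpa using this
  have : Nonempty S.Orb := ⟨o1⟩
  have hmodeq : ∀ χ : Cfsg.IrrCharacter G, (Char.degree χ.1 : ZMod 11) =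
      ((5 * ∑ o, S.vec χ o : ℤ) : ZMod 11) := fun χ => by
    rw [S.degree_cast hV, he, Int.cast_mul]; norm_num
  set A := Finset.univ.filter fun χ : Cfsg.IrrCharacter G =>
    K.w χ ≠ 0 ∧ χ ≠ Char.principalIrr ∧ χ ≠ K.μ o1 ∧ χ ≠ K.μ o2 with hAdef
  have hne : K.μ o1 ≠ K.μ o2 := fun h => ho (K.hμ h)
  have hAmem : ∀ χ ∈ A, K.w χ ≠ 0 ∧ χ ≠ Char.principalIrr ∧ χ ≠ K.μ o1 ∧ χ ≠ K.μ o2 := fun χ hχ =>
    (Finset.mem_filter.1 hχ).2
  have hsplit : ∀ g : Cfsg.IrrCharacter G → ℂ, (∀ χ, χ ∉ A → χ ≠ Char.principalIrr →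
      χ ≠ K.μ o1 → χ ≠ K.μ o2 → g χ = 0) →
      ∑ χ, g χ = g Char.principalIrr + (g (K.μ o1) + g (K.μ o2)) + ∑ χ ∈ A, g χ := by
    intro g hg
    rw [← Finset.sum_subset (Finset.subset_univ
      (({Char.principalIrr, K.μ o1, K.μ o2} : Finset (Cfsg.IrrCharacter G)) ∪ A)) (fun χ _ hχ => by
        simp only [Finset.mem_union, Finset.mem_insert, Finset.mem_singleton, not_or] at hχ
        exact hg χ hχ.2 hχ.1.1 hχ.1.2.1 hχ.1.2.2), Finset.sum_union, Finset.sum_insert,
      Finset.sum_insert, Finset.sum_singleton]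
    · simpa using hne
    · simp only [Finset.mem_insert, Finset.mem_singleton, not_or]
      exact ⟨(K.hμ1 o1).symm, (K.hμ1 o2).symm⟩
    · rw [Finset.disjoint_left]
      intro χ hχ hA'
      obtain ⟨-, h1, h2, h3⟩ := hAmem χ hA'
      simp only [Finset.mem_insert, Finset.mem_singleton] at hχ
      rcases hχ with h | h | h
      · exact h1 h
      · exact h2 h
      · exact h3 h
  have hw0 : ∀ χ, χ ∉ A → χ ≠ Char.principalIrr → χ ≠ K.μ o1 → χ ≠ K.μ o2 → K.w χ = 0 := by
    intro χ h h1 h2 h3
    by_contra hw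
    exact h (Finset.mem_filter.2 ⟨Finset.mem_univ _, hw, h1, h2, h3⟩)
  have hnμ : ∀ χ, χ ≠ K.μ o1 → χ ≠ K.μ o2 → ∀ o, χ ≠ K.μ o := fun χ h1 h2 o => by
    rcases hall o with rfl | rfl <;> assumption
  have hsv : ∀ χ, χ ≠ K.μ o1 → χ ≠ K.μ o2 → ∑ o, S.vec χ o = 2 * K.w χ := fun χ h1 h2 => by
    rw [K.sum_vec_of_ne (hnμ χ h1 h2), hO]; rfl
  set f0 := Char.degree (K.μ o1).1 with hf0
  have hf2 : Char.degree (K.μ o2).1 = f0 := K.degree_const o2 o1
  have hnorm : 1 + 2 * K.k ^ 2 + 2 * K.ε * K.k + ∑ χ ∈ A, K.w χ ^ 2 = 5 := by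
    have h := congrArg (Int.cast (R := ℂ)) (K.norm o1)
    rw [he] at h
    push_cast at h
    rw [hsplit _ (fun χ a b c d => by rw [hw0 χ a b c d]; simp), K.w_principal, K.hk, K.hk] at h
    apply Int.cast_injective (α := ℂ)
    push_cast at h ⊢
    simp only [pow_two]
    linear_combination h
  have hdeg : ∑ χ ∈ A, K.w χ * (Char.degree χ.1 : ℤ) + (2 * K.k + K.ε) * f0 = 1 := by
    have h := congrArg (Int.cast (R := ℂ)) (K.degree_eq o1)
    push_cast at h
    rw [hsplit _ (fun χ a b c d => by rw [hw0 χ a b c d]; simp), K.w_principal, K.hk, K.hk, hf2,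
      principal_degree, Finset.sum_congr rfl (fun χ _ => mul_comm _ _)] at h
    apply Int.cast_injective (α := ℂ)
    push_cast at h ⊢
    linear_combination h
  have h11 : (11 : ZMod 11) = 0 := rfl
  let s : DegreeSolution 7920 11 5 2 :=
    { l := A.toList.map fun χ => (K.w χ, Char.degree χ.1)
      ε := K.ε
      k := K.k
      f0 := f0
      hε := K.hε
      norm := by
        rw [List.map_map, Finset.sum_map_toList]
        simp only [Function.comp_apply]
        push_cast
        linarith
      degEq := by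
        rw [List.map_map, Finset.sum_map_toList]
        simp only [Function.comp_apply]
        push_cast
        linarith
      squares := by
        rw [List.map_map, Finset.sum_map_toList]
        simp only [Function.comp_apply]
        rw [← hG, ← Char.sum_degree_sq (G := G)]
        have h := Finset.sum_le_sum_of_subset (f := fun χ : Cfsg.IrrCharacter G => Char.degree χ.1 ^ 2)
          (Finset.subset_univ (insert Char.principalIrr (insert (K.μ o1) (insert (K.μ o2) A))))
        rw [Finset.sum_insert, Finset.sum_insert, Finset.sum_insert, principal_degree, hf2] at h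
        · rw [← hf0] at h
          linarith
        · exact fun h' => (hAmem _ h').2.2.2 rfl
        · simp only [Finset.mem_insert, not_or]
          exact ⟨hne, fun h' => (hAmem _ h').2.2.1 rfl⟩
        · simp only [Finset.mem_insert, not_or]
          exact ⟨(K.hμ1 o1).symm, (K.hμ1 o2).symm, fun h' => (hAmem _ h').2.1 rfl⟩
      others := by
        intro x hx
        obtain ⟨χ, hχ, rfl⟩ := List.mem_map.1 hx
        obtain ⟨h0, h1, h2, h3⟩ := hAmem χ (Finset.mem_toList.1 hχ)
        refine ⟨h0, he ▸ S.card_range_le_degree h1, hG ▸ degree_dvd_card χ, ?_⟩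
        rw [← ZMod.intCast_zmod_eq_zero_iff_dvd]
        have h := hmodeq χ
        rw [hsv χ h2 h3] at h
        push_cast at h ⊢
        rw [h]
        linear_combination (K.w χ : ZMod 11) * h11
      f0_le := he ▸ S.card_range_le_degree (K.hμ1 o1)
      f0_dvd := hG ▸ degree_dvd_card _
      f0_congr := by
        rw [← ZMod.intCast_zmod_eq_zero_iff_dvd]
        have h := hmodeq (K.μ o1)
        rw [K.sum_vec_μ, hO] at h
        push_cast at h ⊢
        rw [h]
        linear_combination (K.k : ZMod 11) * h11 }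
  have hcheck : solCheck 7920 11 5 2 88 (fun _ => true) okEleven = true := by decide +kernel
  have hok := s.of_solCheck (ok := okEleven) (fun W f a b hab => by
    simp only [okEleven, hab.length_eq, hab.count_eq]) (by norm_num) (by norm_num)
    (fun h => absurd h (by norm_num)) rfl (fun _ _ => rfl) hcheck
  simp only [okEleven, Bool.or_eq_true, Bool.and_eq_true, decide_eq_true_eq, Nat.beq_eq, s,
    List.length_map, Finset.length_toList, List.count_eq_countP, List.countP_map] at hok
  have hcount : ∀ (q : ℤ × ℕ), A.toList.countP ((fun x => x == q) ∘ fun χ => (K.w χ, Char.degree χ.1)) =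
      (A.filter fun χ => (K.w χ, Char.degree χ.1) = q).card := by
    intro q
    rw [List.countP_eq_length_filter, ← List.toFinset_card_of_nodup (A.nodup_toList.filter _)]
    congr 1
    ext χ
    simp
  simp only [hcount, Nat.cast_ofNat] at hok
  have build : ∀ n d : ℕ, n ≤ 4 → d ≠ 10 → 2 * K.k + K.ε = 1 → A.card = 4 →
      (A.filter fun χ => (K.w χ, Char.degree χ.1) = ((1 : ℤ), 10)).card = n →
      (A.filter fun χ => (K.w χ, Char.degree χ.1) = ((-1 : ℤ), d)).card = 4 - n →
      Nonempty (Eleven G n d f0) := by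
    intro n d hn hd hW hA hc1 hc2
    have hcover : ∀ χ ∈ A, (K.w χ, Char.degree χ.1) = ((1 : ℤ), 10) ∨
        (K.w χ, Char.degree χ.1) = ((-1 : ℤ), d) := by
      intro χ hχ
      have heq : (A.filter fun χ => (K.w χ, Char.degree χ.1) = ((1 : ℤ), 10)) ∪
          (A.filter fun χ => (K.w χ, Char.degree χ.1) = ((-1 : ℤ), d)) = A := by
        refine Finset.eq_of_subset_of_card_le
          (Finset.union_subset (Finset.filter_subset _ _) (Finset.filter_subset _ _)) ?_
        rw [Finset.card_union_of_disjoint, hc1, hc2, hA]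
        · omega
        · rw [Finset.disjoint_filter]
          intro χ _ h1 h2
          rw [h1] at h2
          simp at h2
      rw [← heq] at hχ
      simpa [Finset.mem_union, Finset.mem_filter, hχ] using
        (Finset.mem_union.1 hχ).imp (fun h => (Finset.mem_filter.1 h).2) (fun h => (Finset.mem_filter.1 h).2)
    have hw : ∀ χ ∈ A, K.w χ = sgn (Char.degree χ.1) := by
      intro χ hχ
      rcases hcover χ hχ with h | h <;> simp only [Prod.mk.injEq] at h <;> rw [sgn, h.2, h.1]
      · rw [if_pos rfl]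
      · rw [if_neg hd]
    have hlin : ∀ g : Cfsg.IrrCharacter G → ℂ,
        (∀ o : S.Orb, ∑ χ : Cfsg.IrrCharacter G, g χ * (S.vec χ o : ℂ) = 0) →
        g (K.μ o2) = g (K.μ o1) ∧
          -g Char.principalIrr + (∑ χ ∈ A, (sgn (Char.degree χ.1) : ℂ) * g χ) + g (K.μ o1) = 0 := by
      intro g hg
      refine ⟨K.const g hg o2 o1, ?_⟩
      have h := K.linear g hg o1
      rw [hsplit _ (fun χ a b c d => by rw [hw0 χ a b c d]; simp), K.w_principal, K.hk, K.hk,
        K.const g hg o2 o1, Finset.sum_congr rfl (g := fun χ => (sgn (Char.degree χ.1) : ℂ) * g χ)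
          (fun χ hχ => by rw [hw χ hχ, mul_comm])] at h
      have hW' : (2 * (K.k : ℂ) + K.ε) = 1 := by exact_mod_cast congrArg (Int.cast (R := ℂ)) hW
      push_cast at h
      linear_combination h - g (K.μ o1) * hW'
    refine ⟨⟨A, K.μ o1, K.μ o2, hne, rfl, hf2, ⟨K.hμ1 _, K.hμ1 _⟩, fun h => (hAmem _ h).2.1 rfl,
      ⟨fun h => (hAmem _ h).2.2.1 rfl, fun h => (hAmem _ h).2.2.2 rfl⟩, hA, ?_, ?_, ?_, ?_, ?_⟩⟩
    · rw [← hc1]
      congr 1
      refine Finset.filter_congr fun χ hχ => ?_
      rcases hcover χ hχ with h | h <;> rw [h] <;> simp only [Prod.mk.injEq] at h <;> simp [h.2, hd]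
    · rw [← hc2]
      congr 1
      refine Finset.filter_congr fun χ hχ => ?_
      rcases hcover χ hχ with h | h <;> rw [h] <;> simp only [Prod.mk.injEq] at h <;> simp [h.2, Ne.symm hd]
    · intro χ h1 h2 h3 h4
      have h := hmodeq χ
      rw [hsv χ h3 h4, hw0 χ h2 h1 h3 h4] at h
      exact (ZMod.natCast_eq_zero_iff _ _).1 (by rw [h]; simp)
    · intro y hy
      have h := hlin (fun χ => χ.1 y) (fun o => S.sum_value_mul_vec hy o)
      simp only [Char.principalIrr_apply] at h
      exact h
    · intro y hy1 hy2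
      have hN : Nat.card ↥(normalizer ((P : Subgroup G) : Set G)) = 55 := card_normalizer_eleven hG P
      have hno : ∀ s : G, s ∈ normalizer ((P : Subgroup G) : Set G) → IsConj y s → False := by
        intro s hs hys
        have hs2 : orderOf s = 2 := by
          obtain ⟨a, ha⟩ := isConj_iff.1 hys
          rw [← ha, show a * y * a⁻¹ = MulAut.conj a y from rfl, MulEquiv.orderOf_eq]
          exact orderOf_eq_prime hy2 hy1
        have := Subgroup.orderOf_dvd_natCard _ hs
        rw [hs2, hN] at this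
        norm_num at this
      have h := hlin (fun χ => χ.1 y ^ 2 / χ.1 1)
        (fun o => (S.other_involution_relations (by norm_num) hy1 hy2 hno o).2)
      have h2 := h.2
      simp only [Char.principalIrr_apply, ← Char.IsCharacter.degree_cast
        (Char.IsIrrCharacter.isCharacter (Subtype.prop _)), ← hf0] at h2
      simpa [principal_degree] using h2
  rcases hok with ⟨⟨⟨⟨hW, hf⟩, hl⟩, hc1⟩, hc2⟩ | ⟨⟨⟨⟨hW, hf⟩, hl⟩, hc1⟩, hc2⟩
  · exact Or.inl (hf ▸ build 3 45 (by norm_num) (by norm_num) hW hl hc1 hc2)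
  · exact Or.inr (hf ▸ build 2 12 (by norm_num) (by norm_num) hW hl hc1 hc2)

end CfsgLib.M11Order
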