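import Cfsg.Agent.Lib.SmallOrder.RefinedCheck
import Cfsg.Agent.Lib.SmallOrder.InvolutionCount

/-!
The complete distribution of the weights over all irreducible characters, and a degree search which
returns the solutions instead of refuting them.
-/

set_option autoImplicit false

open scoped ComplexConjugate

namespace CfsgLib.SmallOrder

universe u

namespace CSplit

open Subgroup

variable {G : Type u} [Group G] [Fintype G] {p : ℕ} [Fact p.Prime] {P : Sylow p G} (S : CSplit p P)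

/-- The weights of all irreducible characters. -/
structure Census (S : CSplit p P) where
  /-- the sign of the exceptional part -/
  ε : ℤ
  /-- the weight of the exceptional characters -/
  k : ℤ
  /-- the weights -/
  w : Cfsg.IrrCharacter G → ℤ
  /-- the exceptional characters -/
  μ : S.Orb → Cfsg.IrrCharacter G
  hε : ε = 1 ∨ ε = -1
  hμ : Function.Injective μ
  hμ1 : ∀ o, μ o ≠ Char.principalIrr
  hk : ∀ o, w (μ o) = k
  hone : (∀ o o' : S.Orb, o = o') → k + ε ≠ 0
  hvec : ∀ χ o, S.vec χ o = w χ + ε * if χ = μ o then 1 else 0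

theorem exists_census : Nonempty S.Census := by
  classical
  obtain ⟨ε, k, w, μ, hε, hμ, hμ1, hk, hvec, hvec0, hone⟩ := S.exists_structure
  refine ⟨⟨ε, k, w, μ, hε, hμ, hμ1, hk, hone, fun χ o => ?_⟩⟩
  split_ifs with h
  · subst h; rw [hvec0, hk, mul_one]
  · rw [hvec χ o h, mul_zero, add_zero]

namespace Census

variable {S} (K : S.Census)

/-- A linear relation on the vectors is one on the weights. -/
theorem linear (g : Cfsg.IrrCharacter G → ℂ) {c : ℂ}
    (h : ∀ o : S.Orb, ∑ χ : Cfsg.IrrCharacter G, g χ * (S.vec χ o : ℂ) = c) (o : S.Orb) :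
    ∑ χ : Cfsg.IrrCharacter G, g χ * (K.w χ : ℂ) + (K.ε : ℂ) * g (K.μ o) = c := by
  classical
  rw [← h o]
  simp only [K.hvec, Int.cast_add, Int.cast_mul, mul_add, Finset.sum_add_distrib]
  congr 1
  rw [Finset.sum_eq_single_of_mem (K.μ o) (Finset.mem_univ _) (fun χ _ hne => by simp [hne])]
  simp [mul_comm]

/-- A linear relation takes the same value at all exceptional characters. -/
theorem const (g : Cfsg.IrrCharacter G → ℂ) {c : ℂ}
    (h : ∀ o : S.Orb, ∑ χ : Cfsg.IrrCharacter G, g χ * (S.vec χ o : ℂ) = c) (o o' : S.Orb) :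
    g (K.μ o) = g (K.μ o') := by
  have h1 := add_left_cancel ((K.linear g h o).trans (K.linear g h o').symm)
  exact mul_left_cancel₀ (by rcases K.hε with h | h <;> simp [h]) h1

theorem degree_eq (o : S.Orb) :
    ∑ χ : Cfsg.IrrCharacter G, (Char.degree χ.1 : ℤ) * K.w χ +
      K.ε * (Char.degree (K.μ o).1 : ℤ) = 0 := by
  have h := K.linear (fun χ => ((Char.degree χ.1 : ℤ) : ℂ)) (c := ((0 : ℤ) : ℂ)) (fun o => by
    rw [← S.vec_degree o]; push_cast; rfl) o
  apply Int.cast_injective (α := ℂ)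
  push_cast at h ⊢
  exact h

theorem degree_const (o o' : S.Orb) : Char.degree (K.μ o).1 = Char.degree (K.μ o').1 := by
  have h := (K.degree_eq o).trans (K.degree_eq o').symm
  rcases K.hε with h' | h' <;> rw [h'] at h <;> omega

theorem norm (o : S.Orb) :
    ∑ χ : Cfsg.IrrCharacter G, K.w χ * K.w χ + 2 * K.ε * K.k = Nat.card S.act.range := by
  classical
  have h := S.vec_gram o o
  rw [if_pos rfl] at h
  simp only [K.hvec] at h
  simp only [add_mul, mul_add, Finset.sum_add_distrib, mul_ite, ite_mul, mul_one, mul_zero,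
    zero_mul, Finset.sum_ite_eq', Finset.mem_univ, if_true, K.hk] at h
  rcases K.hε with h' | h' <;> rw [h'] at h ⊢ <;> linarith

theorem w_principal [Nonempty S.Orb] : K.w Char.principalIrr = -1 := by
  obtain ⟨o⟩ := ‹Nonempty S.Orb›
  rw [← S.vec_principal o, K.hvec, if_neg (K.hμ1 o).symm, mul_zero, add_zero]

theorem sum_vec_of_ne [Fintype S.Orb] {χ : Cfsg.IrrCharacter G} (h : ∀ o, χ ≠ K.μ o) :
    ∑ o : S.Orb, S.vec χ o = (Fintype.card S.Orb : ℤ) * K.w χ := by
  rw [Finset.sum_congr rfl (g := fun _ => K.w χ) (fun o _ => by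
    rw [K.hvec, if_neg (h o), mul_zero, add_zero]), Finset.sum_const, Finset.card_univ, nsmul_eq_mul]

theorem sum_vec_μ [Fintype S.Orb] (o : S.Orb) :
    ∑ o' : S.Orb, S.vec (K.μ o) o' = (Fintype.card S.Orb : ℤ) * K.k + K.ε := by
  classical
  simp only [K.hvec, K.hμ.eq_iff, K.hk, Finset.sum_add_distrib, mul_ite, mul_one, mul_zero,
    Finset.sum_ite_eq, Finset.mem_univ, if_true]
  simp

end Census

theorem card_orb [Fintype S.Orb] {t : ℕ} (ht : Nat.card S.act.range * t = p - 1) :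
    Fintype.card S.Orb = t := by
  have h := Subgroup.card_mul_index S.act.range
  rw [Nat.card_eq_fintype_card (α := (ZMod p)ˣ), ZMod.card_units p, ← ht] at h
  rw [← Nat.card_eq_fintype_card]
  exact Nat.eq_of_mul_eq_mul_left Nat.card_pos h

/-- For `C(P) = P` the degree is determined modulo `p` by the weights. -/
theorem degree_cast [Fintype S.Orb] (hV : Nat.card S.V = 1) (χ : Cfsg.IrrCharacter G) :
    (Char.degree χ.1 : ZMod p) =
      (Nat.card S.act.range : ZMod p) * ((∑ o : S.Orb, S.vec χ o : ℤ) : ZMod p) := by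
  classical
  have : Fintype S.V := Fintype.ofFinite _
  have : Subsingleton S.V := (Nat.card_eq_one_iff_unique.1 hV).1
  have h := S.sum_mult χ
  rw [hV, Nat.cast_one, one_mul, Ssum, finsum_eq_sum_of_fintype,
    Fintype.sum_subsingleton _ (1 : S.V), OneMemClass.coe_one, mul_one, zpw_zero,
    ← Char.IsCharacter.degree_cast (Char.IsIrrCharacter.isCharacter χ.2)] at h
  rw [← Nat.cast_injective h]
  have h2 := S.tmult_cast χ
  rw [finsum_eq_sum_of_fintype] at h2
  exact h2

/-- An element of order prime to `p` is orthogonal to the weights. -/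
theorem sum_value_mul_vec {y : G} (hy : ¬ p ∣ orderOf y) (o : S.Orb) :
    ∑ χ : Cfsg.IrrCharacter G, χ.1 y * (S.vec χ o : ℂ) = 0 := by
  classical
  have := Fintype.ofFinite S.V
  rw [S.sum_mul_vec (fun χ => χ.1 y) 0, neg_zero, zero_div]
  intro i hi
  simp only [Ssum, finsum_eq_sum_of_fintype, Finset.mul_sum]
  rw [Finset.sum_comm]
  refine Finset.sum_eq_zero fun v _ => ?_
  rw [Finset.sum_congr rfl (g := fun χ : Cfsg.IrrCharacter G =>
    χ.1 y * conj (χ.1 (zpw S.z i * (v : G))⁻¹)) (fun χ _ => by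
      rw [Char.IsIrrCharacter.apply_inv χ.2, Complex.conj_conj]),
    Char.sum_mul_conj, if_neg]
  intro h
  apply hy
  obtain ⟨b, hb⟩ := isConj_iff.1 h
  have hord : orderOf y = orderOf (zpw S.z i * (v : G)) := by
    rw [← orderOf_inv (zpw S.z i * (v : G)), ← hb]
    exact ((MulAut.conj b).orderOf_eq y).symm
  rw [hord]
  have hcop : (orderOf (zpw S.z i)).Coprime (orderOf (v : G)) := by
    refine Nat.Coprime.coprime_dvd_left ?_ (S.coprime.coprime_dvd_right
      (Subgroup.orderOf_dvd_natCard _ v.2))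
    rw [zpw]
    exact (orderOf_pow_dvd _).trans S.hz.dvd
  rw [(S.commute i v.2).orderOf_mul_eq_mul_orderOf_of_coprime hcop]
  refine dvd_mul_of_dvd_left ?_ _
  have h1 : orderOf (zpw S.z i) ∣ p := by rw [zpw]; exact (orderOf_pow_dvd _).trans S.hz.dvd
  rcases (Nat.dvd_prime Fact.out).1 h1 with h1 | h1
  · rw [orderOf_eq_one_iff, ← zpw_zero (z := S.z) (p := p)] at h1
    exact absurd (zpw_injective S.hz h1) hi
  · rw [h1]

end CSplit

/-- all solutions of the degree equation with degrees in a given set pass a test -/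
def solCheck (N p e t R : ℕ) (D : ℕ → Bool) (ok : ℤ → ℕ → List (ℤ × ℕ) → Bool) : Bool :=
  Nat.blt N ((R + 1) * (R + 1)) &&
  [(1 : ℤ), -1].all fun ε => (intBox (e + 1)).all fun k =>
    let S : ℤ := (e : ℤ) - 1 - (t : ℤ) * (k * k) - 2 * ε * k
    decide (S < 0) || (Nat.beq t 1 && decide (k + ε = 0)) || ((degFs N e R).filter D).all fun f0 =>
      !(decide (((f0 : ℤ) - ((e : ℤ) * ε - k)) % (p : ℤ) = 0) && Nat.ble (1 + t * (f0 * f0)) N &&
        degSearchP ((degCands N p e R).filter fun x => D x.2) S.toNat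
          (1 - ((t : ℤ) * k + ε) * f0) (N - (1 + t * (f0 * f0))) []
          fun l => !ok ((t : ℤ) * k + ε) f0 l)

theorem DegreeSolution.of_solCheck {N p e t R : ℕ} {D : ℕ → Bool}
    {ok : ℤ → ℕ → List (ℤ × ℕ) → Bool} (hperm : ∀ W f a b, a.Perm b → ok W f a = ok W f b)
    (s : DegreeSolution N p e t) (ht : 1 ≤ t) (he : 2 ≤ e) (hone : t = 1 → s.k + s.ε ≠ 0)
    (hD0 : D s.f0 = true) (hD : ∀ x ∈ s.l, D x.2 = true)
    (h : solCheck N p e t R D ok = true) : ok ((t : ℤ) * s.k + s.ε) s.f0 s.l = true := by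
  by_contra htest
  rw [Bool.not_eq_true] at htest
  simp only [solCheck, Bool.and_eq_true, Nat.blt_eq] at h
  obtain ⟨hR, hall⟩ := h
  have hn2 : (((s.l.map fun x => x.1.natAbs * x.1.natAbs).sum : ℕ) : ℤ) =
      (s.l.map fun x => x.1 ^ 2).sum := by
    induction s.l with
    | nil => simp
    | cons a l ih =>
      simp only [List.map_cons, List.sum_cons, Nat.cast_add, ih, Nat.cast_mul]
      rw [← sq, Int.natAbs_sq]
  have hnorm := s.norm
  have hsq := s.squares
  have hsum0 : 0 ≤ (s.l.map fun x => x.1 ^ 2).sum :=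
    List.sum_nonneg fun y hy => by obtain ⟨z, _, rfl⟩ := List.mem_map.1 hy; exact sq_nonneg _
  have hle : (s.l.map fun x => x.1 ^ 2).sum ≤ (e : ℤ) := by
    have : s.k ^ 2 ≤ (t : ℤ) * s.k ^ 2 :=
      le_mul_of_one_le_left (sq_nonneg _) (by exact_mod_cast ht)
    rcases s.hε with hε | hε <;> rw [hε] at hnorm <;>
      nlinarith [sq_nonneg (s.k + 1), sq_nonneg (s.k - 1)]
  have hke : -((e + 1 : ℕ) : ℤ) ≤ s.k ∧ s.k ≤ ((e + 1 : ℕ) : ℤ) := by
    have he' : (2 : ℤ) ≤ e := by exact_mod_cast he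
    have ht' : s.k ^ 2 ≤ (t : ℤ) * s.k ^ 2 :=
      le_mul_of_one_le_left (sq_nonneg _) (by exact_mod_cast ht)
    rcases s.hε with hε | hε <;> rw [hε] at hnorm <;> constructor <;> push_cast <;>
      nlinarith [sq_nonneg (s.k - 1), sq_nonneg (s.k + 1)]
  have hmem : s.ε ∈ [(1 : ℤ), -1] := by rcases s.hε with h | h <;> simp [h]
  have hk := List.all_eq_true.1 (List.all_eq_true.1 hall s.ε hmem) s.k (mem_intBox hke.1 hke.2)
  simp only [Bool.or_eq_true, Bool.and_eq_true, decide_eq_true_eq, Nat.beq_eq] at hk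
  rcases hk with (hk | hk) | hk
  · nlinarith
  · exact hone hk.1 hk.2
  have hfs : s.f0 ∈ degFs N e R := by
    refine mem_degFs s.f0_le s.f0_dvd ?_
    have : 1 * (s.f0 * s.f0) ≤ t * s.f0 ^ 2 := by
      rw [pow_two]; exact Nat.mul_le_mul_right _ ht
    omega
  have h0 := List.all_eq_true.1 hk s.f0 (List.mem_filter.2 ⟨hfs, hD0⟩)
  have hc : ∀ x ∈ s.l, x ∈ (degCands N p e R).filter (fun x => D x.2) ∧ x.1 ≠ 0 := by
    intro x hx
    obtain ⟨hne, h1, h2, h3⟩ := s.others x hx
    have hf2 : x.2 * x.2 ≤ (s.l.map fun x => x.2 ^ 2).sum := by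
      rw [← pow_two]
      exact List.single_le_sum (fun y _ => Nat.zero_le y) _ (List.mem_map.2 ⟨x, hx, rfl⟩)
    have hb : x.1 * x.1 ≤ (e : ℤ) := by
      refine le_trans ?_ hle
      rw [← pow_two]
      exact List.single_le_sum (fun y hy => by
        obtain ⟨z, _, rfl⟩ := List.mem_map.1 hy; exact sq_nonneg _) _ (List.mem_map.2 ⟨x, hx, rfl⟩)
    have h1le : |x.1| ≤ (e : ℤ) := by
      have := abs_mul_abs_self x.1
      have := Int.one_le_abs hne
      nlinarith
    refine ⟨List.mem_filter.2 ⟨List.mem_flatMap.2 ⟨x.2, mem_degFs h1 h2 (by omega),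
      List.mem_map.2 ⟨x.1, List.mem_filter.2 ⟨mem_intBox (abs_le.1 h1le).1 (abs_le.1 h1le).2, ?_⟩,
        rfl⟩⟩, hD x hx⟩, hne⟩
    simp [hne, hb, Int.emod_eq_zero_of_dvd h3]
  have hsearch := degSearchP_spec (fun l => !ok ((t : ℤ) * s.k + s.ε) s.f0 l)
    (fun a b hab => congrArg not (hperm _ _ a b hab)) _ s.l
    ((e : ℤ) - 1 - (t : ℤ) * (s.k * s.k) - 2 * s.ε * s.k).toNat
    (1 - ((t : ℤ) * s.k + s.ε) * s.f0) (N - (1 + t * (s.f0 * s.f0))) [] hc ?_ ?_ ?_
    (by simp [htest])
  · have hle : 1 + t * (s.f0 * s.f0) ≤ N := by rw [← pow_two]; omega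
    have hb : Nat.ble (1 + t * (s.f0 * s.f0)) N = true := Nat.ble_eq.mpr hle
    simp [Int.emod_eq_zero_of_dvd s.f0_congr, hb, hsearch] at h0
  · have : (e : ℤ) - 1 - (t : ℤ) * (s.k * s.k) - 2 * s.ε * s.k =
        (((s.l.map fun x => x.1.natAbs * x.1.natAbs).sum : ℕ) : ℤ) := by
      rw [hn2, ← hnorm]; ring
    rw [this, Int.toNat_natCast]
  · have := s.degEq
    linarith
  · have e1 : (s.l.map fun x => x.2 ^ 2) = s.l.map fun x => x.2 * x.2 :=
      List.map_congr_left fun x _ => pow_two _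
    rw [e1, pow_two] at hsq
    omega

end CfsgLib.SmallOrder
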