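import Cfsg.Agent.Lib.Sporadic.M11Order.Five

/-!
A simple group of order 7920: the ten irreducible characters and the relations between their values.
-/

set_option autoImplicit false

open scoped ComplexConjugate

namespace CfsgLib.M11Order

open Subgroup SmallOrder

universe u

variable {G : Type u} [Group G] [Fintype G] [IsSimpleGroup G]

/-- The data at `5`: the weights in the principal block. -/
structure FiveData (G : Type u) [Group G] [Fintype G] where
  /-- the weight -/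
  W : Cfsg.IrrCharacter G → ℤ
  Wp : W Char.principalIrr = -1
  sq : ∑ χ, W χ ^ 2 = 5
  deg : ∑ χ, (Char.degree χ.1 : ℤ) * W χ = 0
  congr : ∀ χ, (5 : ℤ) ∣ (Char.degree χ.1 : ℤ) + W χ
  orth : ∀ y : G, ¬ 5 ∣ orderOf y → ∑ χ : Cfsg.IrrCharacter G, χ.1 y * (W χ : ℂ) = 0

/-- `C(x) = ⟨x⟩` for an element of order `5`. -/
theorem exists_five_of_structure (h : ∀ [Fact (Nat.Prime 5)] (P : Sylow 5 G) (S : CSplit 5 P),
    Nat.card S.V = 1 ∧ Nat.card S.act.range = 4) (hG : Nat.card G = 7920) :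
    Nonempty (FiveData G) := by
  classical
  have : Fact (Nat.Prime 5) := ⟨by norm_num⟩
  obtain ⟨P⟩ := (inferInstance : Nonempty (Sylow 5 G))
  have hP : Nat.card ↥(P : Subgroup G) = 5 := by
    simpa using card_sylow_eq (e := 1) (m := 1584) (by rw [hG]; norm_num) (by norm_num) P
  obtain ⟨S⟩ := exists_csplit P hP
  obtain ⟨hV, he⟩ := h P S
  have := Fintype.ofFinite S.Orb
  have hO : Fintype.card S.Orb = 1 := S.card_orb (by rw [he])
  obtain ⟨o, ho⟩ := Fintype.card_eq_one_iff.1 hO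
  refine ⟨⟨fun χ => S.vec χ o, S.vec_principal o, ?_, S.vec_degree o, fun χ => ?_,
    fun y hy => S.sum_value_mul_vec hy o⟩⟩
  · have h := S.vec_gram o o
    rw [if_pos rfl, he] at h
    simp only [pow_two]
    exact h
  · have h := S.degree_cast hV χ
    rw [Fintype.sum_eq_single o (fun o' ho' => absurd (ho o') ho'), he] at h
    change ((5 : ℕ) : ℤ) ∣ _
    rw [← ZMod.intCast_zmod_eq_zero_iff_dvd]
    push_cast at h ⊢
    rw [h]
    have h5 : (5 : ZMod 5) = 0 := rfl
    linear_combination (S.vec χ o : ZMod 5) * h5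

theorem FiveData.sq_le (F : FiveData G) {χ : Cfsg.IrrCharacter G} (hχ : χ ≠ Char.principalIrr) :
    F.W χ ^ 2 ≤ 4 := by
  classical
  have h := Finset.sum_le_sum_of_subset_of_nonneg
    (Finset.subset_univ ({Char.principalIrr, χ} : Finset (Cfsg.IrrCharacter G)))
    (f := fun φ => F.W φ ^ 2) (fun φ _ _ => sq_nonneg _)
  rw [Finset.sum_pair hχ.symm, F.Wp, F.sq] at h
  linarith

theorem not_eleven_two (hG : Nat.card G = 7920) (K : Eleven G 2 12 5) : False := by
  classical
  obtain ⟨F⟩ := exists_five_of_structure (fun P S => sylow_five_aux hG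
    [1, 10, 12, 5, 11, 22, 33, 44, 55, 66, 88] 12 (K.degree_mem hG (by norm_num) (by norm_num))
    (fun y hy1 hy2 => involution_zero_two hG K hy1 hy2) (by decide +kernel) (by decide +kernel) P S) hG
  obtain ⟨c1, c2, hc, htw⟩ := Finset.card_eq_two.1 K.hAd
  have hc1 := Finset.mem_filter.1 (htw.ge (by simp) : c1 ∈ K.A.filter fun χ => Char.degree χ.1 = 12)
  have hc2 := Finset.mem_filter.1 (htw.ge (by simp) : c2 ∈ K.A.filter fun χ => Char.degree χ.1 = 12)
  have big : ∀ χ ∈ K.A, Char.degree χ.1 = 12 → 4 ≤ F.W χ ^ 2 := by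
    intro χ hχ hd
    have h := F.congr χ
    rw [hd] at h
    have : F.W χ ≤ -2 ∨ 2 ≤ F.W χ := by omega
    rcases this with h' | h' <;> nlinarith
  have h := Finset.sum_le_sum_of_subset_of_nonneg
    (Finset.subset_univ ({Char.principalIrr, c1, c2} : Finset (Cfsg.IrrCharacter G)))
    (f := fun φ => F.W φ ^ 2) (fun φ _ _ => sq_nonneg _)
  rw [Finset.sum_insert (by
      simp [(K.ne_principal_of_mem hc1.1).symm, (K.ne_principal_of_mem hc2.1).symm]),
    Finset.sum_pair hc, F.Wp, F.sq] at h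
  have := big c1 hc1.1 hc1.2
  have := big c2 hc2.1 hc2.2
  linarith

/-- The character table data. -/
structure Table (G : Type u) [Group G] [Fintype G] where
  /-- a character of degree 10 -/
  a1 : Cfsg.IrrCharacter G
  /-- a character of degree 10 -/
  a2 : Cfsg.IrrCharacter G
  /-- a character of degree 10 -/
  a3 : Cfsg.IrrCharacter G
  /-- the character of degree 45 -/
  b : Cfsg.IrrCharacter G
  /-- a character of degree 16 -/
  e1 : Cfsg.IrrCharacter G
  /-- a character of degree 16 -/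
  e2 : Cfsg.IrrCharacter G
  /-- the character of degree 11 -/
  g : Cfsg.IrrCharacter G
  /-- the character of degree 44 -/
  h : Cfsg.IrrCharacter G
  /-- the character of degree 55 -/
  i : Cfsg.IrrCharacter G
  ha1 : Char.degree a1.1 = 10
  ha2 : Char.degree a2.1 = 10
  ha3 : Char.degree a3.1 = 10
  hb : Char.degree b.1 = 45
  he1 : Char.degree e1.1 = 16
  he2 : Char.degree e2.1 = 16
  hg : Char.degree g.1 = 11
  hh : Char.degree h.1 = 44
  hi : Char.degree i.1 = 55
  sum_eq : ∀ F : Cfsg.IrrCharacter G → ℂ, ∑ χ, F χ =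
    F Char.principalIrr + F a1 + F a2 + F a3 + F b + F e1 + F e2 + F g + F h + F i
  orth11 : ∀ y : G, ¬ 11 ∣ orderOf y →
    e2.1 y = e1.1 y ∧ -1 + a1.1 y + a2.1 y + a3.1 y - b.1 y + e1.1 y = 0
  orth5 : ∀ y : G, ¬ 5 ∣ orderOf y → -1 - e1.1 y - e2.1 y - g.1 y + h.1 y = 0
  invol : ∀ y : G, y ≠ 1 → y ^ 2 = 1 →
    -720 + 72 * (a1.1 y ^ 2 + a2.1 y ^ 2 + a3.1 y ^ 2) - 16 * b.1 y ^ 2 + 45 * e1.1 y ^ 2 = 0

theorem exists_table (hG : Nat.card G = 7920) : Nonempty (Table G) := by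
  classical
  obtain ⟨K⟩ : Nonempty (Eleven G 3 45 16) :=
    (exists_eleven hG).resolve_right fun ⟨K⟩ => not_eleven_two hG K
  obtain ⟨F⟩ := exists_five_of_structure (fun P S => sylow_five_aux hG
    [1, 10, 45, 16, 11, 22, 33, 44, 55, 66, 88] 16 (K.degree_mem hG (by norm_num) (by norm_num))
    (fun y hy1 hy2 => involution_zero_three hG K hy1 hy2) (by decide +kernel) (by decide +kernel) P S) hG
  obtain ⟨a1, a2, a3, h12, h13, h23, hten⟩ := Finset.card_eq_three.1 K.hA10
  obtain ⟨b, hb⟩ := Finset.card_eq_one.1 K.hAd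
  have h1 := Finset.mem_filter.1 (hten.ge (by simp) : a1 ∈ K.A.filter fun χ => Char.degree χ.1 = 10)
  have h2 := Finset.mem_filter.1 (hten.ge (by simp) : a2 ∈ K.A.filter fun χ => Char.degree χ.1 = 10)
  have h3 := Finset.mem_filter.1 (hten.ge (by simp) : a3 ∈ K.A.filter fun χ => Char.degree χ.1 = 10)
  have hb' := Finset.mem_filter.1 (hb.ge (Finset.mem_singleton_self b))
  have hne : ∀ {x y : Cfsg.IrrCharacter G} {m n : ℕ},
      Char.degree x.1 = m → Char.degree y.1 = n → m ≠ n → x ≠ y :=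
    fun hx hy hmn h' => hmn (by rw [← hx, ← hy, h'])
  have hA : K.A = {a1, a2, a3, b} := by
    refine (Finset.eq_of_subset_of_card_le ?_ ?_).symm
    · intro χ h
      simp only [Finset.mem_insert, Finset.mem_singleton] at h
      rcases h with rfl | rfl | rfl | rfl
      · exact h1.1
      · exact h2.1
      · exact h3.1
      · exact hb'.1
    · rw [Finset.card_insert_of_notMem (by simp [h12, h13, hne h1.2 hb'.2 (by norm_num)]),
        Finset.card_insert_of_notMem (by simp [h23, hne h2.2 hb'.2 (by norm_num)]),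
        Finset.card_pair (hne h3.2 hb'.2 (by norm_num)), K.hA]
  have hAsum : ∀ f : Cfsg.IrrCharacter G → ℂ, ∑ χ ∈ K.A, f χ = f a1 + f a2 + f a3 + f b := by
    intro f
    rw [hA, Finset.sum_insert (by simp [h12, h13, hne h1.2 hb'.2 (by norm_num)]),
      Finset.sum_insert (by simp [h23, hne h2.2 hb'.2 (by norm_num)]),
      Finset.sum_pair (hne h3.2 hb'.2 (by norm_num))]
    ring
  -- the remaining characters
  set known : Finset (Cfsg.IrrCharacter G) := insert Char.principalIrr (insert K.x1 (insert K.x2 K.A))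
    with hknown
  set R := Finset.univ \ known with hR
  have hsplit : ∀ {M : Type} [AddCommMonoid M] (f : Cfsg.IrrCharacter G → M), ∑ χ, f χ =
      f Char.principalIrr + (f K.x1 + (f K.x2 + ∑ χ ∈ K.A, f χ)) + ∑ χ ∈ R, f χ := by
    intro M _ f
    rw [← Finset.sum_sdiff (Finset.subset_univ known), add_comm (∑ χ ∈ Finset.univ \ known, f χ)]
    congr 1
    rw [hknown, Finset.sum_insert, Finset.sum_insert, Finset.sum_insert]
    · exact K.hxA.2
    · simp [K.hne, K.hxA.1]
    · simp [K.hpx.1.symm, K.hpx.2.symm, K.hpA]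
  have hRmem : ∀ χ ∈ R, χ ≠ Char.principalIrr ∧ χ ≠ K.x1 ∧ χ ≠ K.x2 ∧ χ ∉ K.A := by
    intro χ hχ
    simpa [hR, hknown] using hχ
  have hWx : ∀ χ, χ ≠ Char.principalIrr → Char.degree χ.1 = 16 → F.W χ = -1 := by
    intro χ hp hd
    have h := F.congr χ
    rw [hd] at h
    have h' := F.sq_le hp
    have : -2 ≤ F.W χ ∧ F.W χ ≤ 2 := ⟨by nlinarith, by nlinarith⟩
    omega
  have hW0 : ∀ χ, χ ≠ Char.principalIrr → 5 ∣ Char.degree χ.1 → F.W χ = 0 := by
    intro χ hp hd
    have h := F.congr χ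
    have h' := F.sq_le hp
    have : -2 ≤ F.W χ ∧ F.W χ ≤ 2 := ⟨by nlinarith, by nlinarith⟩
    omega
  have wA : ∀ χ ∈ K.A, F.W χ = 0 := fun χ hχ => hW0 χ (K.ne_principal_of_mem hχ) (by
    rcases K.degree_cases (by norm_num) (by norm_num) hχ with h | h <;> omega)
  have w1 := hWx K.x1 K.hpx.1 K.hx1
  have w2 := hWx K.x2 K.hpx.2 K.hx2
  have hRsq : ∑ χ ∈ R, F.W χ ^ 2 = 2 := by
    have h := hsplit fun χ => F.W χ ^ 2
    simp only [F.sq, F.Wp, w1, w2] at h
    rw [Finset.sum_eq_zero (s := K.A) (fun χ hχ => by rw [wA χ hχ]; norm_num)] at h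
    linarith
  have hRdeg : ∑ χ ∈ R, (Char.degree χ.1 : ℤ) * F.W χ = 33 := by
    have h := hsplit fun χ => (Char.degree χ.1 : ℤ) * F.W χ
    simp only [F.deg, F.Wp, w1, w2, principal_degree, K.hx1, K.hx2] at h
    rw [Finset.sum_eq_zero (s := K.A) (fun χ hχ => by rw [wA χ hχ, mul_zero])] at h
    push_cast at h
    linarith
  have hRdd : ∑ χ ∈ R, Char.degree χ.1 ^ 2 = 5082 := by
    have h := hsplit fun χ => Char.degree χ.1 ^ 2
    have hA2 : ∑ χ ∈ K.A, Char.degree χ.1 ^ 2 = 2325 := by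
      have := hAsum fun χ => ((Char.degree χ.1 ^ 2 : ℕ) : ℂ)
      simp only [h1.2, h2.2, h3.2, hb'.2] at this
      rw [← Nat.cast_sum] at this
      exact_mod_cast this.trans (by norm_num : _ = ((2325 : ℕ) : ℂ))
    rw [Char.sum_degree_sq, hG, principal_degree, K.hx1, K.hx2, hA2] at h
    omega
  have hRd : ∀ χ ∈ R, Char.degree χ.1 ∈ [11, 22, 33, 44, 55, 66] := by
    intro χ hχ
    obtain ⟨hp, hx, hy, hA'⟩ := hRmem χ hχ
    have h11 := K.hout χ hp hA' hx hy
    have hle : Char.degree χ.1 ^ 2 ≤ 5082 := by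
      rw [← hRdd]
      exact Finset.single_le_sum (f := fun φ : Cfsg.IrrCharacter G => Char.degree φ.1 ^ 2)
        (fun _ _ => Nat.zero_le _) hχ
    have := K.degree_mem hG (by norm_num) (by norm_num) χ
    simp only [List.mem_cons, List.not_mem_nil, or_false] at this
    rcases this with h | h | h | h | h | h | h | h | h | h | h <;> rw [h] at h11 hle ⊢ <;>
      first
        | omega
        | simp
  set R1 := R.filter fun χ => F.W χ ≠ 0 with hR1
  have hR1sq : ∀ χ ∈ R1, F.W χ = 1 ∨ F.W χ = -1 := by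
    intro χ hχ
    obtain ⟨hχR, hne0⟩ := Finset.mem_filter.1 hχ
    have hle : F.W χ ^ 2 ≤ 2 := hRsq ▸
      Finset.single_le_sum (f := fun φ => F.W φ ^ 2) (fun φ _ => sq_nonneg _) hχR
    have : -1 ≤ F.W χ ∧ F.W χ ≤ 1 := ⟨by nlinarith, by nlinarith⟩
    omega
  have hR1card : R1.card = 2 := by
    have h : ∑ χ ∈ R1, F.W χ ^ 2 = 2 := by
      rw [hR1, Finset.sum_filter_of_ne (p := fun χ => F.W χ ≠ 0)
        (fun χ _ h h0 => h (by rw [h0]; norm_num))]
      exact hRsq
    rw [Finset.sum_congr rfl (g := fun _ => (1 : ℤ)) (fun χ hχ => by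
      rcases hR1sq χ hχ with h | h <;> rw [h] <;> norm_num), Finset.sum_const, nsmul_one] at h
    exact_mod_cast h
  obtain ⟨u, v, huv, hR1eq⟩ := Finset.card_eq_two.1 hR1card
  have hu : u ∈ R1 := hR1eq.ge (by simp)
  have hv : v ∈ R1 := hR1eq.ge (by simp)
  have hpair : (Char.degree u.1 : ℤ) * F.W u + (Char.degree v.1 : ℤ) * F.W v = 33 := by
    rw [← hRdeg, ← Finset.sum_filter_of_ne (s := R) (p := fun χ => F.W χ ≠ 0)
      (fun χ _ h h0 => h (by rw [h0, mul_zero])), ← hR1, hR1eq, Finset.sum_pair huv]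
  have hcases : ∀ χ ∈ R1, (Char.degree χ.1 = 11 ∧ F.W χ = -1) ∨ (Char.degree χ.1 = 44 ∧ F.W χ = 1) ∨
      (Char.degree χ.1 = 66 ∧ F.W χ = -1) := by
    intro χ hχ
    have h := F.congr χ
    have hd := hRd χ (Finset.mem_filter.1 hχ).1
    simp only [List.mem_cons, List.not_mem_nil, or_false] at hd
    rcases hR1sq χ hχ with hw | hw <;> omega
  obtain ⟨g, h, hgh, hgR, hhR, hgd, hgw, hhd, hhw, hgh'⟩ : ∃ g h : Cfsg.IrrCharacter G, g ≠ h ∧ g ∈ R1 ∧
      h ∈ R1 ∧ Char.degree g.1 = 11 ∧ F.W g = -1 ∧ Char.degree h.1 = 44 ∧ F.W h = 1 ∧ R1 = {g, h} := by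
    rcases hcases u hu with ⟨h1, w1⟩ | ⟨h1, w1⟩ | ⟨h1, w1⟩ <;>
      rcases hcases v hv with ⟨h2, w2⟩ | ⟨h2, w2⟩ | ⟨h2, w2⟩ <;>
      rw [h1, w1, h2, w2] at hpair <;> norm_num at hpair
    · exact ⟨u, v, huv, hu, hv, h1, w1, h2, w2, hR1eq⟩
    · exact ⟨v, u, huv.symm, hv, hu, h2, w2, h1, w1, hR1eq.trans (Finset.pair_comm u v)⟩
  set R0 := R.filter fun χ => ¬ F.W χ ≠ 0 with hR0
  have hR0d : ∀ χ ∈ R0, Char.degree χ.1 = 55 := by
    intro χ hχ
    obtain ⟨hχR, hw⟩ := Finset.mem_filter.1 hχ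
    have h := F.congr χ
    rw [not_not.1 hw] at h
    have hd := hRd χ hχR
    simp only [List.mem_cons, List.not_mem_nil, or_false] at hd
    omega
  have hR0card : R0.card = 1 := by
    have h := Finset.sum_filter_add_sum_filter_not R (fun χ => F.W χ ≠ 0)
      (fun χ : Cfsg.IrrCharacter G => Char.degree χ.1 ^ 2)
    rw [← hR1, ← hR0, hgh', Finset.sum_pair hgh, hgd, hhd,
      Finset.sum_congr rfl (g := fun _ => 55 ^ 2) (fun χ hχ => by rw [hR0d χ hχ]),
      Finset.sum_const, smul_eq_mul, hRdd] at h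
    omega
  obtain ⟨i, hi⟩ := Finset.card_eq_one.1 hR0card
  have hid : Char.degree i.1 = 55 := hR0d i (hi.ge (Finset.mem_singleton_self i))
  have hiw : F.W i = 0 := not_not.1 (Finset.mem_filter.1 (hi.ge (Finset.mem_singleton_self i))).2
  have hRsum : ∀ f : Cfsg.IrrCharacter G → ℂ, ∑ χ ∈ R, f χ = f g + f h + f i := by
    intro f
    rw [← Finset.sum_filter_add_sum_filter_not R (fun χ => F.W χ ≠ 0), ← hR1, ← hR0, hgh', hi,
      Finset.sum_pair hgh, Finset.sum_singleton]
  have hsum : ∀ f : Cfsg.IrrCharacter G → ℂ, ∑ χ, f χ =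
      f Char.principalIrr + f a1 + f a2 + f a3 + f b + f K.x1 + f K.x2 + f g + f h + f i := by
    intro f
    rw [hsplit f, hAsum, hRsum]
    ring
  refine ⟨⟨a1, a2, a3, b, K.x1, K.x2, g, h, i, h1.2, h2.2, h3.2, hb'.2, K.hx1, K.hx2, hgd, hhd, hid,
    hsum, fun y hy => ?_, fun y hy => ?_, fun y hy1 hy2 => ?_⟩⟩
  · obtain ⟨hx, ho⟩ := K.orth y hy
    rw [hAsum] at ho
    simp only [sgn, h1.2, h2.2, h3.2, hb'.2, if_true] at ho
    norm_num at ho
    exact ⟨hx, by linear_combination ho⟩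
  · have ho := F.orth y hy
    rw [hsum] at ho
    simp only [F.Wp, wA a1 h1.1, wA a2 h2.1, wA a3 h3.1, wA b hb'.1, w1, w2, hgw, hhw, hiw,
      Char.principalIrr_apply] at ho
    push_cast at ho
    linear_combination ho
  · have ho := K.invol y hy1 hy2
    rw [hAsum] at ho
    simp only [sgn, h1.2, h2.2, h3.2, hb'.2, if_true] at ho
    norm_num at ho
    linear_combination (720 : ℂ) * ho

/-- No element commutes with an element of order `5` except its powers. -/
theorem card_centralizer_five (hG : Nat.card G = 7920) [Fact (Nat.Prime 5)] (P : Sylow 5 G) :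
    Nat.card ↥(centralizer ((P : Subgroup G) : Set G)) = 5 := by
  obtain ⟨K⟩ : Nonempty (Eleven G 3 45 16) :=
    (exists_eleven hG).resolve_right fun ⟨K⟩ => not_eleven_two hG K
  have hP : Nat.card ↥(P : Subgroup G) = 5 := by
    simpa using card_sylow_eq (e := 1) (m := 1584) (by rw [hG]; norm_num) (by norm_num) P
  obtain ⟨S⟩ := exists_csplit P hP
  obtain ⟨hV, -⟩ := sylow_five_aux hG
    [1, 10, 45, 16, 11, 22, 33, 44, 55, 66, 88] 16 (K.degree_mem hG (by norm_num) (by norm_num))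
    (fun y hy1 hy2 => involution_zero_three hG K hy1 hy2) (by decide +kernel) (by decide +kernel) P S
  rw [S.card_centralizer, hV]

end CfsgLib.M11Order
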