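import Cfsg.Agent.Lib.Sharp.Jordan
import Cfsg.Agent.Lib.Steiner.Witt12Aut

/-!
A sharply four-transitive group of degree 11 is the automorphism group of a Steiner system
`S(4, 5, 11)`, hence unique up to isomorphism.
-/

set_option autoImplicit false

open scoped Pointwise

namespace CfsgLib.SharpEleven

open Cfsg MulAction CfsgLib.Sharp.Jordan

universe u v

variable {G : Type u} {α : Type v} [Group G] [MulAction G α]

/-- Five points of a block: an involution interchanging the first two fixes the other three. -/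
def Blk (G : Type u) {α : Type v} [Group G] [MulAction G α] (v : Fin 5 → α) : Prop :=
  Function.Injective v ∧
    ∃ τ : G, τ • v 0 = v 1 ∧ τ • v 1 = v 0 ∧ τ • v 2 = v 2 ∧ τ • v 3 = v 3 ∧ τ • v 4 = v 4

theorem Blk.smul {v : Fin 5 → α} (h : Blk G v) (g : G) : Blk G (g • v) := by
  obtain ⟨hv, τ, h0, h1, h2, h3, h4⟩ := h
  refine ⟨fun i j e => hv (smul_left_cancel g e), g * τ * g⁻¹, ?_, ?_, ?_, ?_, ?_⟩ <;>
    simp only [Pi.smul_apply, mul_smul, inv_smul_smul, h0, h1, h2, h3, h4]

theorem sq_eq_one (hS : Sharp 4 G α) {τ : G} {a b c d : α} (hab : a ≠ b) (hac : a ≠ c) (had : a ≠ d)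
    (hbc : b ≠ c) (hbd : b ≠ d) (hcd : c ≠ d) (h0 : τ • a = b) (h1 : τ • b = a) (h2 : τ • c = c)
    (h3 : τ • d = d) : τ * τ = 1 :=
  eq_one4 hS hab hac had hbc hbd hcd (by rw [mul_smul, h0, h1]) (by rw [mul_smul, h1, h0])
    (by rw [mul_smul, h2, h2]) (by rw [mul_smul, h3, h3])

theorem eq_of_four (hS : Sharp 4 G α) {g h : G} {a b c d : α} (hab : a ≠ b) (hac : a ≠ c)
    (had : a ≠ d) (hbc : b ≠ c) (hbd : b ≠ d) (hcd : c ≠ d) (ha : g • a = h • a) (hb : g • b = h • b)
    (hc : g • c = h • c) (hd : g • d = h • d) : g = h := by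
  have := eq_one4 hS hab hac had hbc hbd hcd (g := h⁻¹ * g) (by rw [mul_smul, ha, inv_smul_smul])
    (by rw [mul_smul, hb, inv_smul_smul]) (by rw [mul_smul, hc, inv_smul_smul])
    (by rw [mul_smul, hd, inv_smul_smul])
  exact (inv_mul_eq_one.1 this).symm

variable [Finite G] [Finite α]

/-- Four points determine the fifth. -/
theorem Blk.unique (hS : Sharp 4 G α) {v w : Fin 5 → α} (hv : Blk G v) (hw : Blk G w)
    (h : ∀ i : Fin 5, i ≠ 4 → v i = w i) : v 4 = w 4 := by
  obtain ⟨hv, τ, a0, a1, a2, a3, a4⟩ := hv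
  obtain ⟨hw, σ, b0, b1, b2, b3, b4⟩ := hw
  have ne : ∀ i j : Fin 5, i ≠ j → v i ≠ v j := fun i j hij e => hij (hv e)
  obtain rfl : τ = σ := by
    refine eq_of_four hS (ne 0 1 (by decide)) (ne 0 2 (by decide)) (ne 0 3 (by decide))
      (ne 1 2 (by decide)) (ne 1 3 (by decide)) (ne 2 3 (by decide)) ?_ ?_ ?_ ?_
    · rw [a0, h 0 (by decide), b0, h 1 (by decide)]
    · rw [a1, h 1 (by decide), b1, h 0 (by decide)]
    · rw [a2, h 2 (by decide), b2]
    · rw [a3, h 3 (by decide), b3]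
  by_contra hne
  have h24 : v 2 ≠ w 4 := by rw [h 2 (by decide)]; exact fun e => absurd (hw e) (by decide)
  have h34 : v 3 ≠ w 4 := by rw [h 3 (by decide)]; exact fun e => absurd (hw e) (by decide)
  have h1 := eq_one4 hS (ne 2 3 (by decide)) (ne 2 4 (by decide)) h24 (ne 3 4 (by decide)) h34 hne
    a2 a3 a4 b4
  rw [h1, one_smul] at a0
  exact ne 0 1 (by decide) a0

/-- Any four points extend to a block. -/
theorem exists_blk (hS : Sharp 4 G α) (hα : Nat.card α = 11) {a b c d : α} (hab : a ≠ b)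
    (hac : a ≠ c) (had : a ≠ d) (hbc : b ≠ c) (hbd : b ≠ d) (hcd : c ≠ d) :
    ∃ e, Blk G ![a, b, c, d, e] := by
  obtain ⟨τ, h0, h1, h2, h3⟩ := exists4 hS hab hac had hbc hbd hcd hab.symm hbc hbd hac had hcd
  have hτ := sq_eq_one hS hab hac had hbc hbd hcd h0 h1 h2 h3
  have hτ1 : τ ≠ 1 := fun e => hab (by rw [← h0, e, one_smul])
  obtain ⟨e, hec, hed, he⟩ := (fixed_parity hS hτ hτ1 hcd h2 h3).2 (by rw [hα]; decide)
  have hea : e ≠ a := fun x => hab (by rw [x, h0] at he; exact he.symm)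
  have heb : e ≠ b := fun x => hab (by rw [x, h1] at he; exact he)
  refine ⟨e, ?_, τ, h0, h1, h2, h3, he⟩
  intro i j hij
  fin_cases i <;> fin_cases j <;> simp_all

theorem Blk.swap01 {v : Fin 5 → α} (h : Blk G v) : Blk G (v ∘ Equiv.swap 0 1) := by
  obtain ⟨hv, τ, h0, h1, h2, h3, h4⟩ := h
  exact ⟨hv.comp (Equiv.injective _), τ, by simpa using h1, by simpa using h0,
    by simpa [Equiv.swap_apply_of_ne_of_ne] using h2, by simpa [Equiv.swap_apply_of_ne_of_ne] using h3,
    by simpa [Equiv.swap_apply_of_ne_of_ne] using h4⟩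

theorem Blk.swap23 {v : Fin 5 → α} (h : Blk G v) : Blk G (v ∘ Equiv.swap 2 3) := by
  obtain ⟨hv, τ, h0, h1, h2, h3, h4⟩ := h
  exact ⟨hv.comp (Equiv.injective _), τ, by simpa [Equiv.swap_apply_of_ne_of_ne] using h0,
    by simpa [Equiv.swap_apply_of_ne_of_ne] using h1, by simpa using h3, by simpa using h2,
    by simpa [Equiv.swap_apply_of_ne_of_ne] using h4⟩

theorem Blk.swap34 {v : Fin 5 → α} (h : Blk G v) : Blk G (v ∘ Equiv.swap 3 4) := by
  obtain ⟨hv, τ, h0, h1, h2, h3, h4⟩ := h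
  exact ⟨hv.comp (Equiv.injective _), τ, by simpa [Equiv.swap_apply_of_ne_of_ne] using h0,
    by simpa [Equiv.swap_apply_of_ne_of_ne] using h1,
    by simpa [Equiv.swap_apply_of_ne_of_ne] using h2, by simpa using h4, by simpa using h3⟩

/-- The cyclic rotation of the first three points: an element of order three fixing the fourth
point and the fifth is normalised by the transpositions. -/
theorem Blk.swap12 (hS : Sharp 4 G α) (hα : Nat.card α = 11) {v : Fin 5 → α} (h : Blk G v) :
    Blk G (v ∘ Equiv.swap 1 2) := by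
  classical
  letI := Fintype.ofFinite α
  obtain ⟨hv, τ, h0, h1, h2, h3, h4⟩ := h
  have ne : ∀ i j : Fin 5, i ≠ j → v i ≠ v j := fun i j hij e => hij (hv e)
  have hab := ne 0 1 (by decide)
  have hac := ne 0 2 (by decide)
  have had := ne 0 3 (by decide)
  have hbc := ne 1 2 (by decide)
  have hbd := ne 1 3 (by decide)
  have hcd := ne 2 3 (by decide)
  obtain ⟨σ, s0, s1, s2, s3⟩ := exists4 hS hab hac had hbc hbd hcd hbc hab.symm hbd hac.symm hcd had
  have hσ3 : σ ^ 3 = 1 := by
    refine eq_one4 hS hab hac had hbc hbd hcd ?_ ?_ ?_ ?_ <;>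
      simp only [pow_succ, pow_zero, one_mul, mul_smul, s0, s1, s2, s3]
  have hσ1 : σ ≠ 1 := fun e => hab (by rw [← s0, e, one_smul])
  set F : Finset α := Finset.univ.filter fun x => σ • x = x with hF
  have hmod := Equiv.Perm.card_fixedPoints_modEq (f := fun x : α => σ • x) (p := 3) (n := 1)
    (hp := ⟨Nat.prime_three⟩) (funext fun x => show σ • σ • σ • x = x by
      rw [← mul_smul, ← mul_smul, ← pow_three', hσ3, one_smul])
  have hFc : Fintype.card (Function.fixedPoints (fun x : α => σ • x)) = F.card := by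
    refine Fintype.card_of_subtype _ fun x => ?_
    simp [F, Function.mem_fixedPoints, Function.IsFixedPt]
  rw [hFc, ← Nat.card_eq_fintype_card, hα] at hmod
  have hdF : v 3 ∈ F := Finset.mem_filter.2 ⟨Finset.mem_univ _, s3⟩
  have hle : F.card ≤ 3 := by
    by_contra hgt
    obtain ⟨T, hT, hTc⟩ := Finset.exists_subset_card_eq (show 4 ≤ F.card by omega)
    let x : Fin 4 ↪ α := (T.equivFinOfCardEq hTc).symm.toEmbedding.trans ⟨_, Subtype.val_injective⟩
    obtain ⟨_, -, hu⟩ := hS x x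
    have hσx : σ • x = x := Function.Embedding.ext fun i =>
      (Finset.mem_filter.1 (hT ((T.equivFinOfCardEq hTc).symm i).2)).2
    exact hσ1 ((hu σ hσx).trans (hu 1 (one_smul _ _)).symm)
  have hF2 : F.card = 2 := by
    rw [Nat.ModEq] at hmod
    omega
  obtain ⟨e, heF⟩ : ∃ e, F.erase (v 3) = {e} :=
    Finset.card_eq_one.1 (by rw [Finset.card_erase_of_mem hdF, hF2])
  obtain ⟨hed, hes⟩ : e ≠ v 3 ∧ σ • e = e := by
    have h' := heF.ge (Finset.mem_singleton_self e)
    rw [Finset.mem_erase, Finset.mem_filter] at h'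
    exact ⟨h'.1, h'.2.2⟩
  have hinv : ∀ {ρ : G}, ρ * σ * ρ⁻¹ = σ * σ → ρ • v 3 = v 3 → ρ • e = e := by
    intro ρ hρ hρd
    have hρσ : (σ * σ) • (ρ • e) = ρ • e := by rw [← hρ, mul_smul, mul_smul, inv_smul_smul, hes]
    have hfix : σ • (ρ • e) = ρ • e := by
      conv_lhs => rw [← hρσ, ← mul_smul, ← pow_three, hσ3, one_smul]
    have hmem : ρ • e ∈ F.erase (v 3) := Finset.mem_erase.2
      ⟨fun x => hed (smul_left_cancel ρ (x.trans hρd.symm)), Finset.mem_filter.2 ⟨Finset.mem_univ _, hfix⟩⟩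
    rw [heF, Finset.mem_singleton] at hmem
    exact hmem
  have hτ := sq_eq_one hS hab hac had hbc hbd hcd h0 h1 h2 h3
  have hτi : τ⁻¹ = τ := inv_eq_of_mul_eq_one_right hτ
  have hτe : τ • e = e := by
    refine hinv (eq_of_four hS hab hac had hbc hbd hcd ?_ ?_ ?_ ?_) h3 <;>
      simp only [hτi, mul_smul, h0, h1, h2, h3, s0, s1, s2, s3]
  have hea : e ≠ v 0 := fun x => hab (by rw [x, s0] at hes; exact hes.symm)
  have heb : e ≠ v 1 := fun x => hbc (by rw [x, s1] at hes; exact hes.symm)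
  have hec : e ≠ v 2 := fun x => hac (by rw [x, s2] at hes; exact hes)
  -- the fifth point is the second fixed point of the three-cycle
  obtain rfl : e = v 4 := by
    by_contra hne
    exact hab (by
      rw [← h0, eq_one4 hS hcd hec.symm (ne 2 4 (by decide)) hed.symm (ne 3 4 (by decide)) hne
        h2 h3 hτe h4, one_smul])
  obtain ⟨π, p0, p2, p1, p3⟩ := exists4 hS hab hac had hbc hbd hcd hbc.symm hac.symm hcd hab.symm hbd had
  have hππ := sq_eq_one hS hac hab had hbc.symm hcd hbd p0 p1 p2 p3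
  have hπi : π⁻¹ = π := inv_eq_of_mul_eq_one_right hππ
  have hπe : π • v 4 = v 4 := by
    refine hinv (eq_of_four hS hab hac had hbc hbd hcd ?_ ?_ ?_ ?_) p3 <;>
      simp only [hπi, mul_smul, p0, p1, p2, p3, s0, s1, s2, s3]
  refine ⟨hv.comp (Equiv.injective _), π, ?_, ?_, ?_, ?_, ?_⟩ <;>
    simp [Equiv.swap_apply_of_ne_of_ne, p0, p1, p2, p3, hπe]

theorem Blk.perm (hS : Sharp 4 G α) (hα : Nat.card α = 11) {v : Fin 5 → α} (h : Blk G v)
    (σ : Equiv.Perm (Fin 5)) : Blk G (v ∘ σ) := by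
  let S : Submonoid (Equiv.Perm (Fin 5)) :=
    { carrier := {σ | ∀ v : Fin 5 → α, Blk G v → Blk G (v ∘ σ)}
      one_mem' := fun v hv => hv
      mul_mem' := fun {σ π} hσ hπ v hv => hπ _ (hσ v hv) }
  have hgen : ∀ i : Fin 4, Equiv.swap i.castSucc i.succ ∈ S := by
    intro i v hv
    fin_cases i
    · exact hv.swap01
    · exact hv.swap12 hS hα
    · exact hv.swap23
    · exact hv.swap34
  have hle : Submonoid.closure (Set.range fun i : Fin 4 => Equiv.swap i.castSucc i.succ) ≤ S := by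
    rw [Submonoid.closure_le]
    rintro _ ⟨i, rfl⟩
    exact hgen i
  rw [Equiv.Perm.mclosure_swap_castSucc_succ] at hle
  exact hle (Submonoid.mem_top σ) v h

variable [DecidableEq α]

/-- The blocks. -/
def blocks (G : Type u) {α : Type v} [Group G] [MulAction G α] [DecidableEq α] : Set (Finset α) :=
  {B | ∃ v : Fin 5 → α, Blk G v ∧ B = Finset.univ.image v}

omit [Finite α] [Finite G] in
theorem card_block {B : Finset α} (hB : B ∈ blocks G) : B.card = 5 := by
  obtain ⟨v, hv, rfl⟩ := hB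
  rw [Finset.card_image_of_injective _ hv.1, Finset.card_univ, Fintype.card_fin]

theorem steiner (hS : Sharp 4 G α) (hα : Nat.card α = 11) :
    IsSteinerSystem 4 5 (blocks G : Set (Finset α)) := by
  refine ⟨fun b hb => card_block hb, fun s hs => ?_⟩
  let x : Fin 4 ↪ α := (s.equivFinOfCardEq hs).symm.toEmbedding.trans ⟨_, Subtype.val_injective⟩
  have hxs : ∀ i, x i ∈ s := fun i => ((s.equivFinOfCardEq hs).symm i).2
  have hsx : ∀ y ∈ s, ∃ i, x i = y := fun y hy =>
    ⟨s.equivFinOfCardEq hs ⟨y, hy⟩, by simp [x]⟩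
  have ne : ∀ i j : Fin 4, i ≠ j → x i ≠ x j := fun i j hij e => hij (x.injective e)
  obtain ⟨e, he⟩ := exists_blk hS hα (ne 0 1 (by decide)) (ne 0 2 (by decide)) (ne 0 3 (by decide))
    (ne 1 2 (by decide)) (ne 1 3 (by decide)) (ne 2 3 (by decide))
  refine ⟨Finset.univ.image ![x 0, x 1, x 2, x 3, e], ⟨⟨_, he, rfl⟩, ?_⟩, ?_⟩
  · intro y hy
    obtain ⟨i, rfl⟩ := hsx y hy
    rw [Finset.mem_image]
    exact ⟨i.castSucc, Finset.mem_univ _, by fin_cases i <;> rfl⟩
  · rintro _ ⟨⟨w, hw, rfl⟩, hsub⟩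
    have hx : ∀ i, ∃ j, w j = x i := fun i => by
      obtain ⟨j, -, hj⟩ := Finset.mem_image.1 (hsub (hxs i))
      exact ⟨j, hj⟩
    choose j hj using hx
    have hjinj : Function.Injective j := fun a b e => x.injective (by rw [← hj, ← hj, e])
    obtain ⟨σ, hσ⟩ := Equiv.Perm.exists_extending_pair Fin.castSucc j
      (Fin.castSucc_injective 4) hjinj
    have hw' := hw.perm hS hα σ
    have h4 : (w ∘ σ) 4 = e := by
      refine Blk.unique hS hw' he fun i hi => ?_
      obtain ⟨i, rfl⟩ : ∃ k : Fin 4, k.castSucc = i :=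
        ⟨⟨i, by have := i.isLt; have : (i : ℕ) ≠ 4 := fun h => hi (Fin.ext h); omega⟩, rfl⟩
      show w (σ i.castSucc) = _
      rw [hσ, hj]
      fin_cases i <;> rfl
    ext y
    simp only [Finset.mem_image, Finset.mem_univ, true_and]
    constructor
    · rintro ⟨i, rfl⟩
      obtain ⟨i, rfl⟩ := σ.surjective i
      by_cases hi : i = 4
      · subst hi
        exact ⟨4, by rw [show (w ∘ σ) 4 = w (σ 4) from rfl] at h4; rw [h4]; rfl⟩
      · obtain ⟨k, rfl⟩ : ∃ k : Fin 4, k.castSucc = i :=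
          ⟨⟨i, by have := i.isLt; have : (i : ℕ) ≠ 4 := fun h => hi (Fin.ext h); omega⟩, rfl⟩
        exact ⟨k.castSucc, by rw [hσ, hj]; fin_cases k <;> rfl⟩
    · rintro ⟨i, rfl⟩
      fin_cases i
      · exact ⟨j 0, hj 0⟩
      · exact ⟨j 1, hj 1⟩
      · exact ⟨j 2, hj 2⟩
      · exact ⟨j 3, hj 3⟩
      · exact ⟨σ 4, h4⟩

variable [Fintype α]

/-- A sharply four-transitive group of degree 11 is the automorphism group of its blocks. -/
theorem exists_mulEquiv_aut (hS : Sharp 4 G α) (hα : Nat.card α = 11) :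
    Nonempty (G ≃* setSystemAut (blocks G : Set (Finset α))) := by
  have hmem : ∀ g : G, MulAction.toPermHom G α g ∈ setSystemAut (blocks G : Set (Finset α)) := by
    intro g
    rw [MulAction.mem_stabilizer_set']
    · rintro _ ⟨v, hv, rfl⟩
      refine ⟨g • v, hv.smul g, ?_⟩
      rw [Finset.smul_finset_def, Finset.image_image]
      rfl
    · exact Set.toFinite _
  let φ : G →* setSystemAut (blocks G : Set (Finset α)) :=
    (MulAction.toPermHom G α).codRestrict _ hmem
  have hinj : Function.Injective φ := by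
    intro g h e
    have e' : ∀ x : α, g • x = h • x := fun x =>
      Equiv.congr_fun (congrArg Subtype.val e) x
    obtain ⟨x⟩ : Nonempty (Fin 4 ↪ α) := Function.Embedding.nonempty_of_card_le
      (by rw [Fintype.card_fin, ← Nat.card_eq_fintype_card, hα]; norm_num)
    obtain ⟨_, -, hu⟩ := hS x (h • x)
    exact (hu g (Function.Embedding.ext fun i => e' (x i))).trans (hu h rfl).symm
  have hcardG : Nat.card G = 7920 := by
    obtain ⟨x⟩ : Nonempty (Fin 4 ↪ α) := Function.Embedding.nonempty_of_card_le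
      (by rw [Fintype.card_fin, ← Nat.card_eq_fintype_card, hα]; norm_num)
    have hbij : Function.Bijective fun g : G => g • x := by
      refine ⟨fun g h e => ?_, fun y => ?_⟩
      · obtain ⟨_, -, hu⟩ := hS x (h • x)
        exact (hu g e).trans (hu h rfl).symm
      · obtain ⟨g, hg, -⟩ := hS x y
        exact ⟨g, hg⟩
    rw [Nat.card_congr (Equiv.ofBijective _ hbij), Nat.card_eq_fintype_card,
      Fintype.card_embedding_eq, Fintype.card_fin, ← Nat.card_eq_fintype_card, hα]
    rfl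
  have hA := (CfsgLib.Steiner.Witt12.aut_facts11 (by rw [← Nat.card_eq_fintype_card, hα]) (steiner hS hα)).1
  exact ⟨MulEquiv.ofBijective φ ((Nat.bijective_iff_injective_and_card _).2
    ⟨hinj, hcardG.trans hA.2.symm⟩)⟩

/-- Two sharply four-transitive groups of degree 11 are isomorphic. -/
theorem unique {H : Type*} {β : Type*} [Group H] [MulAction H β] [Finite H] [Fintype β] [DecidableEq β]
    (hS : Sharp 4 G α) (hα : Nat.card α = 11) (hT : Sharp 4 H β) (hβ : Nat.card β = 11) :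
    Nonempty (G ≃* H) := by
  obtain ⟨φ⟩ := exists_mulEquiv_aut hS hα
  obtain ⟨ψ⟩ := exists_mulEquiv_aut hT hβ
  obtain ⟨f, hf⟩ := CfsgLib.Steiner.Witt12.iso11 (by rw [← Nat.card_eq_fintype_card, hα])
    (by rw [← Nat.card_eq_fintype_card, hβ]) (steiner hS hα) (steiner hT hβ)
  have hf' : ∀ b : Finset α, b ∈ blocks G ↔ b.map f.toEmbedding ∈ (blocks H : Set (Finset β)) := by
    intro b
    have h : b.map f.toEmbedding = b.image f := Finset.map_eq_image _ _
    rw [← hf, h]
    refine ⟨fun hb => ⟨b, hb, rfl⟩, ?_⟩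
    rintro ⟨c, hc, e⟩
    exact (Finset.image_injective f.injective e) ▸ hc
  have hmap : (setSystemAut (blocks G : Set (Finset α))).map f.permCongrHom.toMonoidHom =
      setSystemAut (blocks H : Set (Finset β)) := by
    ext π
    rw [Subgroup.mem_map_equiv, ← CfsgLib.Steiner.Witt12.conj_mem_iff f hf']
    rw [show f.permCongr (f.permCongrHom.symm π) = π from Equiv.ext fun x => by
      simp [Equiv.permCongrHom, Equiv.permCongr_apply]]
  exact ⟨φ.trans (((setSystemAut (blocks G : Set (Finset α))).equivMapOfInjective _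
    f.permCongrHom.injective).trans ((MulEquiv.subgroupCongr hmap).trans ψ.symm))⟩

end CfsgLib.SharpEleven
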