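import Cfsg.Agent.Lib.Sporadic.M11Order.Cliques
import Cfsg.Agent.Lib.Sporadic.M11Order.SharpEleven

/-!
Any two simple groups of order 7920 are isomorphic.
-/

set_option autoImplicit false

namespace CfsgLib.M11Order

open CfsgLib.Sharp.Jordan
open scoped Pointwise

universe u v

/-- A simple group of order 7920 acts sharply four-transitively on eleven points. -/
theorem exists_sharp_action {G : Type u} [Group G] [Finite G] [IsSimpleGroup G]
    (hG : Nat.card G = 7920) :
    ∃ (α : Type u) (_ : MulAction G α), Nat.card α = 11 ∧ Sharp 4 G α := by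
  classical
  haveI : Fact (Nat.Prime 3) := ⟨Nat.prime_three⟩
  letI := Fintype.ofFinite G
  exact ⟨↥(tens G), inferInstance, card_tens hG, sharp_tens hG⟩

/-- Simple groups of order 7920 are isomorphic. -/
theorem nonempty_mulEquiv {G : Type u} [Group G] [Finite G] [IsSimpleGroup G] {H : Type v} [Group H]
    [Finite H] [IsSimpleGroup H] (hG : Nat.card G = 7920) (hH : Nat.card H = 7920) :
    Nonempty (G ≃* H) := by
  classical
  obtain ⟨α, hα, hcα, hSα⟩ := exists_sharp_action hG
  obtain ⟨β, hβ, hcβ, hSβ⟩ := exists_sharp_action hH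
  haveI : Finite α := Nat.finite_of_card_ne_zero (by omega)
  haveI : Finite β := Nat.finite_of_card_ne_zero (by omega)
  letI := Fintype.ofFinite α
  letI := Fintype.ofFinite β
  exact CfsgLib.SharpEleven.unique hSα hcα hSβ hcβ

end CfsgLib.M11Order
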