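import Cfsg.Agent.Lib.Sporadic.M11Order.Spectral
import Cfsg.Agent.Lib.Sharp.Jordan

/-!
The eleven cliques of size 10: a simple group of order 7920 is sharply four-transitive of degree 11.
-/

set_option autoImplicit false

open scoped Pointwise

namespace CfsgLib.M11Order

open Subgroup SmallOrder

universe u

variable {G : Type u} [Group G] [Fintype G] [IsSimpleGroup G] [Fact (Nat.Prime 3)]

/-- Ten pairwise adjacent vertices. -/
def IsTen (C : Finset (Sylow 3 G)) : Prop :=
  C.card = 10 ∧ ∀ S ∈ C, ∀ T ∈ C, S ≠ T → Adj S T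

namespace Frame

variable (F : Frame G) [DecidableEq (Sylow 3 G)]

/-- The clique of the second point. -/
noncomputable def C1 : Finset (Sylow 3 G) := insert F.Q F.O

/-- The clique of the third point. -/
noncomputable def C2 : Finset (Sylow 3 G) := insert F.Q F.O'

theorem Q_not_mem_O : F.Q ∉ F.O := by
  intro h
  obtain ⟨x, hx, e⟩ := F.mem_O.1 h
  exact not_adj_self F.Q (by
    have h' := F.adj_R.smul x
    rwa [Sylow.smul_eq_iff_mem_normalizer.2 (Subgroup.le_normalizer hx), e] at h')

theorem Q_not_mem_O' : F.Q ∉ F.O' := by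
  intro h
  obtain ⟨x, hx, e⟩ := F.mem_O'.1 h
  exact not_adj_self F.Q (by
    have h' := F.adj_R'.smul x
    rwa [Sylow.smul_eq_iff_mem_normalizer.2 (Subgroup.le_normalizer hx), e] at h')

theorem isTen_C1 (hG : Nat.card G = 7920) : IsTen F.C1 := by
  obtain ⟨ha, -⟩ := F.alpha_not_beta hG
  refine ⟨by rw [C1, Finset.card_insert_of_notMem F.Q_not_mem_O, F.card_O hG], fun S hS T hT hne => ?_⟩
  rw [C1, Finset.mem_insert, F.mem_O] at hS hT
  rcases hS with rfl | ⟨x, hx, rfl⟩ <;> rcases hT with rfl | ⟨y, hy, rfl⟩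
  · exact absurd rfl hne
  · exact (F.adj_iff hG _).2 ⟨y, hy, Or.inl rfl⟩
  · exact ((F.adj_iff hG _).2 ⟨x, hx, Or.inl rfl⟩).symm
  · exact (F.adj_OO hG hx hy).2 ⟨fun e => hne (by rw [e]), ha⟩

theorem isTen_C2 (hG : Nat.card G = 7920) : IsTen F.C2 := by
  obtain ⟨ha, -⟩ := F.alpha_not_beta hG
  refine ⟨by rw [C2, Finset.card_insert_of_notMem F.Q_not_mem_O', F.card_O' hG], fun S hS T hT hne => ?_⟩
  rw [C2, Finset.mem_insert, F.mem_O'] at hS hT
  rcases hS with rfl | ⟨x, hx, rfl⟩ <;> rcases hT with rfl | ⟨y, hy, rfl⟩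
  · exact absurd rfl hne
  · exact (F.adj_iff hG _).2 ⟨y, hy, Or.inr rfl⟩
  · exact ((F.adj_iff hG _).2 ⟨x, hx, Or.inr rfl⟩).symm
  · exact (F.adj_O'O' hG hx hy).2 ⟨fun e => hne (by rw [e]), ha⟩

theorem C1_inter_C2 (hG : Nat.card G = 7920) {S : Sylow 3 G} (h1 : S ∈ F.C1) (h2 : S ∈ F.C2) :
    S = F.Q := by
  rw [C1, Finset.mem_insert] at h1
  rw [C2, Finset.mem_insert] at h2
  rcases h1 with h1 | h1
  · exact h1
  rcases h2 with h2 | h2
  · exact h2
  · exact absurd h2 (Finset.disjoint_left.1 (F.disjoint_O hG) h1)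

theorem ten_cases (hG : Nat.card G = 7920) {C : Finset (Sylow 3 G)} (hC : IsTen C) (hQ : F.Q ∈ C) :
    C = F.C1 ∨ C = F.C2 := by
  obtain ⟨-, hb⟩ := F.alpha_not_beta hG
  have hsub : ∀ S ∈ C, S ≠ F.Q → S ∈ F.O ∨ S ∈ F.O' := fun S hS hne => by
    rw [← Finset.mem_union, ← F.nbr_eq hG, mem_nbr]
    exact hC.2 _ hQ _ hS hne.symm
  by_cases h1 : ∀ S ∈ C, S ≠ F.Q → S ∈ F.O
  · refine Or.inl (Finset.eq_of_subset_of_card_le (fun S hS => ?_) ?_)
    · rw [C1, Finset.mem_insert]
      by_cases e : S = F.Q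
      · exact Or.inl e
      · exact Or.inr (h1 S hS e)
    · rw [C1, Finset.card_insert_of_notMem F.Q_not_mem_O, F.card_O hG, hC.1]
  push Not at h1
  obtain ⟨S, hS, hSQ, hSO⟩ := h1
  obtain ⟨y, hy, rfl⟩ := F.mem_O'.1 ((hsub S hS hSQ).resolve_left hSO)
  refine Or.inr (Finset.eq_of_subset_of_card_le (fun T hT => ?_) ?_)
  · rw [C2, Finset.mem_insert]
    by_cases e : T = F.Q
    · exact Or.inl e
    refine Or.inr ((hsub T hT e).resolve_left fun hTO => ?_)
    -- at most two points of the clique besides `Q` when both orbits occur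
    obtain ⟨x, hx, rfl⟩ := F.mem_O.1 hTO
    have hsub' : C ⊆ {F.Q, x • F.R, x • F.R'} := by
      intro P hP
      simp only [Finset.mem_insert, Finset.mem_singleton]
      by_cases eP : P = F.Q
      · exact Or.inl eP
      have hxy : x = y :=
        ((F.adj_OO' hG hx hy).1 (hC.2 _ hT _ hS (F.orbit_disjoint hG hx hy))).resolve_right hb
      rcases hsub P hP eP with hPO | hPO
      · obtain ⟨z, hz, rfl⟩ := F.mem_O.1 hPO
        have hzy : z = y :=
          ((F.adj_OO' hG hz hy).1 (hC.2 _ hP _ hS (F.orbit_disjoint hG hz hy))).resolve_right hb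
        exact Or.inr (Or.inl (by rw [hzy, hxy]))
      · obtain ⟨z, hz, rfl⟩ := F.mem_O'.1 hPO
        have hxz : x = z :=
          ((F.adj_OO' hG hx hz).1 (hC.2 _ hT _ hP (F.orbit_disjoint hG hx hz))).resolve_right hb
        exact Or.inr (Or.inr (by rw [hxz]))
    have h := (Finset.card_le_card hsub').trans Finset.card_le_three
    rw [hC.1] at h
    omega
  · rw [C2, Finset.card_insert_of_notMem F.Q_not_mem_O', F.card_O' hG, hC.1]

end Frame

section

variable (G)
variable [DecidableEq (Sylow 3 G)]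

/-- The cliques of size ten. -/
def tens : SubMulAction G (Finset (Sylow 3 G)) where
  carrier := {C | IsTen C}
  smul_mem' := fun g C hC => by
    refine ⟨(Finset.card_smul_finset g C).trans hC.1, fun S hS T hT hne => ?_⟩
    rw [← Finset.inv_smul_mem_iff] at hS hT
    exact (adj_smul_iff g⁻¹).1 (hC.2 _ hS _ hT fun e => hne (smul_left_cancel g⁻¹ e))

variable {G}

open Classical in
/-- The cliques through a vertex. -/
noncomputable def through (Q : Sylow 3 G) : Finset (Finset (Sylow 3 G)) :=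
  Finset.univ.filter fun C => IsTen C ∧ Q ∈ C

omit [IsSimpleGroup G] in
theorem mem_through {Q : Sylow 3 G} {C : Finset (Sylow 3 G)} :
    C ∈ through Q ↔ IsTen C ∧ Q ∈ C := by
  classical
  simp [through]

theorem card_through (hG : Nat.card G = 7920) (Q : Sylow 3 G) : (through Q).card = 2 := by
  classical
  obtain ⟨R, hR⟩ := exists_adj hG Q
  obtain ⟨F, rfl, -⟩ := exists_frame_of_adj hG hR
  have he : through F.Q = {F.C1, F.C2} := by
    ext C
    rw [mem_through, Finset.mem_insert, Finset.mem_singleton]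
    constructor
    · exact fun h => F.ten_cases hG h.1 h.2
    · rintro (rfl | rfl)
      · exact ⟨F.isTen_C1 hG, Finset.mem_insert_self _ _⟩
      · exact ⟨F.isTen_C2 hG, Finset.mem_insert_self _ _⟩
  rw [he, Finset.card_pair]
  intro e
  have h1 : F.R ∈ F.C2 := e ▸ Finset.mem_insert_of_mem F.R_mem_O
  exact F.hQR (F.C1_inter_C2 hG (Finset.mem_insert_of_mem F.R_mem_O) h1).symm

theorem inter_unique (hG : Nat.card G = 7920) {C D : Finset (Sylow 3 G)} (hC : IsTen C)
    (hD : IsTen D) (hne : C ≠ D) {Q S : Sylow 3 G} (hQC : Q ∈ C) (hQD : Q ∈ D) (hSC : S ∈ C)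
    (hSD : S ∈ D) : S = Q := by
  obtain ⟨R, hR⟩ := exists_adj hG Q
  obtain ⟨F, rfl, -⟩ := exists_frame_of_adj hG hR
  rcases F.ten_cases hG hC hQC with rfl | rfl <;> rcases F.ten_cases hG hD hQD with rfl | rfl
  · exact absurd rfl hne
  · exact F.C1_inter_C2 hG hSC hSD
  · exact F.C1_inter_C2 hG hSD hSC
  · exact absurd rfl hne

theorem card_tens (hG : Nat.card G = 7920) : Nat.card (tens G) = 11 := by
  classical
  set K := (Finset.univ : Finset (Finset (Sylow 3 G))).filter IsTen with hK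
  have hKc : Nat.card (tens G) = K.card := by
    rw [hK, ← Fintype.card_subtype, ← Nat.card_eq_fintype_card]
    rfl
  have h1 : ∑ C ∈ K, C.card = 10 * K.card := by
    rw [Finset.sum_congr rfl (fun C hC => (Finset.mem_filter.1 hC).2.1), Finset.sum_const,
      smul_eq_mul, mul_comm]
  have h2 : ∑ C ∈ K, C.card = ∑ Q : Sylow 3 G, (through Q).card := by
    calc ∑ C ∈ K, C.card = ∑ C ∈ K, ∑ Q : Sylow 3 G, if Q ∈ C then 1 else 0 := by
          refine Finset.sum_congr rfl fun C _ => ?_
          simp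
      _ = ∑ Q : Sylow 3 G, ∑ C ∈ K, if Q ∈ C then 1 else 0 := Finset.sum_comm
      _ = _ := by
          refine Finset.sum_congr rfl fun Q _ => ?_
          rw [Finset.sum_boole, Nat.cast_id]
          congr 1
          ext C
          simp [hK, mem_through, Finset.mem_filter]
  rw [Finset.sum_congr rfl (fun Q _ => card_through hG Q), Finset.sum_const, Finset.card_univ,
    ← Nat.card_eq_fintype_card, card_sylow hG, h1, smul_eq_mul] at h2
  omega

theorem exists_mem_both (hG : Nat.card G = 7920) {C D : Finset (Sylow 3 G)} (hC : IsTen C)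
    (hD : IsTen D) (hne : C ≠ D) : ∃ Q, Q ∈ C ∧ Q ∈ D := by
  classical
  set K := (Finset.univ : Finset (Finset (Sylow 3 G))).filter IsTen with hK
  have hKc : K.card = 11 := by
    rw [hK, ← Fintype.card_subtype, ← Nat.card_eq_fintype_card]
    exact card_tens hG
  have hinj : Function.Injective (through (G := G)) := by
    intro Q S e
    obtain ⟨C, D, hne, hCD⟩ := Finset.card_eq_two.1 (card_through hG Q)
    have hC := mem_through.1 (hCD.ge (Finset.mem_insert_self _ _))
    have hD := mem_through.1 (hCD.ge (Finset.mem_insert_of_mem (Finset.mem_singleton_self _)))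
    rw [e] at hCD
    have hC' := mem_through.1 (hCD.ge (Finset.mem_insert_self _ _))
    have hD' := mem_through.1 (hCD.ge (Finset.mem_insert_of_mem (Finset.mem_singleton_self _)))
    exact inter_unique hG hC.1 hD.1 hne hC'.2 hD'.2 hC.2 hD.2
  have himg : Finset.univ.image (through (G := G)) = K.powersetCard 2 := by
    refine Finset.eq_of_subset_of_card_le ?_ ?_
    · intro P hP
      obtain ⟨Q, -, rfl⟩ := Finset.mem_image.1 hP
      refine Finset.mem_powersetCard.2 ⟨fun C hC => ?_, card_through hG Q⟩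
      exact Finset.mem_filter.2 ⟨Finset.mem_univ _, (mem_through.1 hC).1⟩
    · rw [Finset.card_powersetCard, hKc, Finset.card_image_of_injective _ hinj, Finset.card_univ,
        ← Nat.card_eq_fintype_card, card_sylow hG]
      decide
  have hmem : ({C, D} : Finset (Finset (Sylow 3 G))) ∈ K.powersetCard 2 := by
    refine Finset.mem_powersetCard.2 ⟨?_, Finset.card_pair hne⟩
    intro P hP
    rw [Finset.mem_insert, Finset.mem_singleton] at hP
    rcases hP with rfl | rfl
    · exact Finset.mem_filter.2 ⟨Finset.mem_univ _, hC⟩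
    · exact Finset.mem_filter.2 ⟨Finset.mem_univ _, hD⟩
  rw [← himg] at hmem
  obtain ⟨Q, -, hQ⟩ := Finset.mem_image.1 hmem
  exact ⟨Q, (mem_through.1 (hQ.ge (Finset.mem_insert_self _ _))).2,
    (mem_through.1 (hQ.ge (Finset.mem_insert_of_mem (Finset.mem_singleton_self _)))).2⟩

theorem free_four (hG : Nat.card G = 7920) {a b c d : tens G} (hab : a ≠ b) (hac : a ≠ c)
    (had : a ≠ d) (hbc : b ≠ c) (hbd : b ≠ d) (hcd : c ≠ d) {g : G} (ha : g • a = a) (hb : g • b = b)
    (hc : g • c = c) (hd : g • d = d) : g = 1 := by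
  classical
  have hne : ∀ {u v : tens G}, u ≠ v → (u : Finset (Sylow 3 G)) ≠ v := fun h e => h (Subtype.ext e)
  obtain ⟨Q, hQa, hQb⟩ := exists_mem_both hG a.2 b.2 (hne hab)
  obtain ⟨R, hRa, hRc⟩ := exists_mem_both hG a.2 c.2 (hne hac)
  obtain ⟨S, hSa, hSd⟩ := exists_mem_both hG a.2 d.2 (hne had)
  have hfix : ∀ {e : tens G} {P : Sylow 3 G}, a ≠ e → g • e = e → P ∈ (a : Finset (Sylow 3 G)) →
      P ∈ (e : Finset (Sylow 3 G)) → g • P = P := by
    intro e P hae he hPa hPe
    refine inter_unique hG a.2 e.2 (hne hae) hPa hPe ?_ ?_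
    · have h := Finset.smul_mem_smul_finset (a := g) hPa
      rwa [← SubMulAction.val_smul, ha] at h
    · have h := Finset.smul_mem_smul_finset (a := g) hPe
      rwa [← SubMulAction.val_smul, he] at h
  have hthree : ∀ {e f : tens G} {P : Sylow 3 G}, a ≠ e → a ≠ f → e ≠ f →
      P ∈ (a : Finset (Sylow 3 G)) → P ∈ (e : Finset (Sylow 3 G)) → P ∉ (f : Finset (Sylow 3 G)) := by
    intro e f P hae haf hef hPa hPe hPf
    have hsub : ({(a : Finset (Sylow 3 G)), (e : Finset (Sylow 3 G)), (f : Finset (Sylow 3 G))} :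
        Finset _) ⊆ through P := by
      intro C hC
      simp only [Finset.mem_insert, Finset.mem_singleton] at hC
      rcases hC with rfl | rfl | rfl
      · exact mem_through.2 ⟨a.2, hPa⟩
      · exact mem_through.2 ⟨e.2, hPe⟩
      · exact mem_through.2 ⟨f.2, hPf⟩
    have h := Finset.card_le_card hsub
    rw [card_through hG P, Finset.card_insert_of_notMem (by simp [hne hae, hne haf]),
      Finset.card_pair (hne hef)] at h
    omega
  have hQR : Q ≠ R := fun e => hthree hab hac hbc hQa hQb (e ▸ hRc)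
  have hQS : Q ≠ S := fun e => hthree hab had hbd hQa hQb (e ▸ hSd)
  have hRS : R ≠ S := fun e => hthree hac had hcd hRa hRc (e ▸ hSd)
  obtain ⟨F, rfl, rfl⟩ := exists_frame_of_adj hG (a.2.2 _ hQa _ hRa hQR)
  obtain ⟨F', hF'Q, hF'R⟩ := exists_frame_of_adj hG (a.2.2 _ hQa _ hSa hQS)
  by_contra hg1
  have hgQ := hfix hab hb hQa hQb
  have hgL : g ∈ F.L := F.stabilizer_pair hG hgQ (hfix hac hc hRa hRc)
  have hgL' : g ∈ F'.L := F'.stabilizer_pair hG (by rw [hF'Q]; exact hgQ)
    (by rw [hF'R]; exact hfix had hd hSa hSd)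
  -- the involution in the cyclic group generated by `g`
  have ho : orderOf g ∣ 2 ^ 3 := by
    have := Subgroup.orderOf_dvd_natCard F.L hgL
    rwa [F.card_L hG] at this
  obtain ⟨k, hk, hok⟩ := (Nat.dvd_prime_pow Nat.prime_two).1 ho
  have hk0 : k ≠ 0 := fun e => hg1 (orderOf_eq_one_iff.1 (by rw [hok, e, pow_zero]))
  obtain ⟨j, rfl⟩ := Nat.exists_eq_succ_of_ne_zero hk0
  set s := g ^ (2 ^ j) with hs
  have hs2 : s * s = 1 := by
    rw [hs, ← pow_add, ← two_mul, ← pow_succ', ← hok]
    exact pow_orderOf_eq_one g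
  have hs1 : s ≠ 1 := by
    intro e
    have h := Nat.le_of_dvd (pow_pos two_pos j) (orderOf_dvd_of_pow_eq_one e)
    rw [hok, Nat.succ_eq_add_one, pow_succ] at h
    have := pow_pos (show 0 < 2 from two_pos) j
    omega
  have e1 := F.eq_t_of_mem_L hG (pow_mem hgL _) hs2 hs1
  have e2 := F'.eq_t_of_mem_L hG (pow_mem hgL' _) hs2 hs1
  have hS' : Inverts F.t S := by
    rw [← e1, e2, ← hF'R]
    exact F'.iR
  rcases F.only S hS' with e | e | e
  · exact hQS e.symm
  · exact hRS e.symm
  · have hRR := F.R_mem_O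
    rcases F.ten_cases hG a.2 hQa with h | h
    · refine hQS (F.C1_inter_C2 hG (h ▸ hSa) ?_).symm
      rw [e]
      exact Finset.mem_insert_of_mem F.R'_mem_O'
    · refine hQR (F.C1_inter_C2 hG (Finset.mem_insert_of_mem hRR) (h ▸ hRa)).symm

theorem sharp_tens (hG : Nat.card G = 7920) : CfsgLib.Sharp.Jordan.Sharp 4 G (tens G) := by
  classical
  haveI : Fintype (tens G) := Fintype.ofFinite _
  intro x y
  have hinj : Function.Injective fun g : G => g • x := by
    intro g h e
    have e' : ∀ i, (h⁻¹ * g) • x i = x i := by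
      intro i
      have := congrFun (congrArg (fun f : Fin 4 ↪ tens G => (f : Fin 4 → tens G)) e) i
      rw [mul_smul]
      exact inv_smul_eq_iff.2 this
    have hne : ∀ i j : Fin 4, i ≠ j → x i ≠ x j := fun i j hij e => hij (x.injective e)
    exact (inv_mul_eq_one.1 (free_four hG (hne 0 1 (by decide)) (hne 0 2 (by decide))
      (hne 0 3 (by decide)) (hne 1 2 (by decide)) (hne 1 3 (by decide)) (hne 2 3 (by decide))
      (e' 0) (e' 1) (e' 2) (e' 3))).symm
  have hbij : Function.Bijective fun g : G => g • x := by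
    rw [Nat.bijective_iff_injective_and_card]
    refine ⟨hinj, ?_⟩
    rw [Nat.card_eq_fintype_card (α := Fin 4 ↪ tens G), Fintype.card_embedding_eq, Fintype.card_fin,
      ← Nat.card_eq_fintype_card (α := tens G), card_tens hG, hG]
    rfl
  obtain ⟨g, hg⟩ := hbij.2 y
  exact ⟨g, hg, fun g' hg' => hinj (hg'.trans hg.symm)⟩

end

end CfsgLib.M11Order
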