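import Cfsg.Agent.Lib.Comp.PermElts
import Cfsg.Agent.Lib.M24Elt.AutM11Data
import Cfsg.Agent.Lib.Golay.Mathieu
import Cfsg.Agent.Lib.M24Elt.Basic
import Cfsg.Agent.Lib.Sporadic.M11Order.OrderData

/-!
The numbers of elements of each order in M11.
-/

set_option autoImplicit false
set_option maxRecDepth 100000

namespace CfsgLib.M11Order

open Cfsg CfsgLib.Comp CfsgLib.Golay CfsgLib.M24Elt

/-- Membership test for a code in M11. -/
noncomputable def inM11 (c : ℕ) : Bool := good c && keeps12 c && Nat.beq (PermCode.get c 0) 0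

theorem inM11_spec (c : ℕ) (h : inM11 c = true) : pm c ∈ Spor.M11 := by
  simp only [inM11, Bool.and_eq_true] at h
  obtain ⟨⟨hg, hk⟩, h0⟩ := h
  refine ⟨mem_M12.2 ⟨pm_mem hg, ?_⟩, bit_injective ?_⟩
  · rw [squareDodecad_eq, ← toSet_push (isPermOf_pm (good_ok hg)), Nat.eq_of_beq_eq_true hk]
  · rw [Equiv.Perm.smul_def, bit_pm (good_ok hg)]
    exact Nat.eq_of_beq_eq_true h0

theorem gens_check : AutM11.genGens.all inM11 = true := by decide +kernel

/-- M11 as a coded permutation group. -/
theorem exists_equiv_span : Nonempty (Spor.M11 ≃* PermCode.span 24 AutM11.genGens) := by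
  have he : spanPts AutM11.genGens = Spor.M11 :=
    Subgroup.eq_of_le_of_card_ge (spanPts_le fun s hs => inM11_spec s (List.all_eq_true.1 gens_check s hs))
      (by rw [card_M11, card_spanPts, AutM11.gen_card])
  exact ⟨(MulEquiv.subgroupCongr he.symm).trans
    ((PermCode.span 24 AutM11.genGens).equivMapOfInjective _ toFin.symm.injective).symm⟩

theorem ords_check : (PermCode.eltsList 24 AutM11.genChain).map (fun c => PermCode.ordc 24 c 12) =
    OrderData.ords := by decide +kernel

theorem ords_pos : OrderData.ords.all (fun o => Nat.blt 0 o) = true := by decide +kernel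

theorem ords_length : OrderData.ords.length = CfsgLib.Comp.order AutM11.genChain := by decide +kernel

theorem card_M11_orderOf (k : ℕ) :
    Nat.card {g : Spor.M11 // orderOf g = k} = OrderData.ords.countP (fun o => o == k) := by
  obtain ⟨φ⟩ := exists_equiv_span
  rw [← PermCode.card_orderOf_eq AutM11.gen_check ords_check ords_length ords_pos k]
  exact Nat.card_congr (φ.toEquiv.subtypeEquiv fun g => by rw [MulEquiv.toEquiv_eq_coe, MulEquiv.coe_toEquiv, MulEquiv.orderOf_eq])

theorem counts : [1, 2, 3, 4, 5, 6, 8, 11].map (fun k => OrderData.ords.countP (fun o => o == k)) =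
    [1, 165, 440, 990, 1584, 1320, 1980, 1440] := by decide +kernel

theorem ords_values : OrderData.ords.all (fun o => [1, 2, 3, 4, 5, 6, 8, 11].contains o) = true := by
  decide +kernel

/-- The set of numbers of elements of equal order. -/
theorem nse_M11 : {c : ℕ | 0 < c ∧ ∃ n : ℕ, c = Nat.card {g : Spor.M11 // orderOf g = n}} =
    {1, 165, 440, 990, 1584, 1320, 1980, 1440} := by
  have hc := counts
  simp only [List.map_cons, List.map_nil, List.cons.injEq, and_true] at hc
  obtain ⟨c1, c2, c3, c4, c5, c6, c8, c11⟩ := hc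
  ext c
  simp only [Set.mem_ofPred_eq, card_M11_orderOf, Set.mem_insert_iff, Set.mem_singleton_iff]
  constructor
  · rintro ⟨hc, n, rfl⟩
    obtain ⟨o, ho, hon⟩ := List.countP_pos_iff.1 hc
    have hv := List.all_eq_true.1 ords_values o ho
    simp only [List.contains_eq_mem, List.mem_cons, List.not_mem_nil, or_false, decide_eq_true_eq] at hv
    obtain rfl : o = n := by simpa using hon
    rcases hv with rfl | rfl | rfl | rfl | rfl | rfl | rfl | rfl <;> simp [c1, c2, c3, c4, c5, c6, c8, c11]
  · rintro (rfl | rfl | rfl | rfl | rfl | rfl | rfl | rfl) <;> refine ⟨by norm_num, ?_⟩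
    exacts [⟨1, c1.symm⟩, ⟨2, c2.symm⟩, ⟨3, c3.symm⟩, ⟨4, c4.symm⟩, ⟨5, c5.symm⟩, ⟨6, c6.symm⟩, ⟨8, c8.symm⟩,
      ⟨11, c11.symm⟩]

end CfsgLib.M11Order
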