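import Cfsg.Agent.Lib.Sporadic.M11Order.Eleven

/-!
A simple group of order 7920: the Sylow `5`-subgroups, which exclude the second shape of the principal
`11`-block.
-/

set_option autoImplicit false

namespace CfsgLib.M11Order

open Subgroup SmallOrder

universe u

variable {G : Type u} [Group G] [Fintype G] [IsSimpleGroup G]

theorem exists_int_value (hG : Nat.card G = 7920) (χ : Cfsg.IrrCharacter G)
    (hχ : χ ≠ Char.principalIrr) {y : G} (hy1 : y ≠ 1) (hy2 : y ^ 2 = 1) :
    ∃ z ∈ bVals (Char.degree χ.1), χ.1 y = (z : ℂ) := by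
  obtain ⟨m, hm, h0, hlt, hval⟩ := exists_involution_value (not_comm hG) hχ hy1 hy2
  exact ⟨_, mem_bVals hm h0 hlt, hval⟩

theorem degree_eq_one_iff (hG : Nat.card G = 7920) (χ : Cfsg.IrrCharacter G)
    (h : Char.degree χ.1 = 1) : χ = Char.principalIrr := by
  by_contra hne
  have : Fact (Nat.Prime 11) := ⟨by norm_num⟩
  obtain ⟨P⟩ := (inferInstance : Nonempty (Sylow 11 G))
  have hP : Nat.card ↥(P : Subgroup G) = 11 := by
    simpa using card_sylow_eq (e := 1) (m := 720) (by rw [hG]; norm_num) (by norm_num) P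
  obtain ⟨S⟩ := exists_csplit P hP
  have := S.card_range_le_degree hne
  rw [(sylow_eleven hG P S).2] at this
  omega

namespace Eleven

variable {n d f0 : ℕ} (K : Eleven G n d f0)

omit [IsSimpleGroup G] in
theorem ne_principal_of_mem {χ : Cfsg.IrrCharacter G} (h : χ ∈ K.A) : χ ≠ Char.principalIrr :=
  fun h' => K.hpA (h' ▸ h)

omit [IsSimpleGroup G] in
theorem degree_cases (hn : n ≤ 4) (hd : d ≠ 10) {χ : Cfsg.IrrCharacter G} (h : χ ∈ K.A) :
    Char.degree χ.1 = 10 ∨ Char.degree χ.1 = d := by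
  classical
  have heq : (K.A.filter fun χ => Char.degree χ.1 = 10) ∪ (K.A.filter fun χ => Char.degree χ.1 = d) =
      K.A := by
    refine Finset.eq_of_subset_of_card_le
      (Finset.union_subset (Finset.filter_subset _ _) (Finset.filter_subset _ _)) ?_
    rw [Finset.card_union_of_disjoint, K.hA10, K.hAd, K.hA]
    · omega
    · rw [Finset.disjoint_filter]
      intro χ _ h1 h2
      exact hd (h2.symm.trans h1)
  rw [← heq, Finset.mem_union, Finset.mem_filter, Finset.mem_filter] at h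
  exact h.imp (fun h => h.2) (fun h => h.2)

include K in
theorem degree_mem (hG : Nat.card G = 7920) (hn : n ≤ 4) (hd : d ≠ 10) (χ : Cfsg.IrrCharacter G) :
    Char.degree χ.1 ∈ [1, 10, d, f0, 11, 22, 33, 44, 55, 66, 88] := by
  by_cases h1 : χ = Char.principalIrr
  · rw [h1, principal_degree]; simp
  by_cases h2 : χ ∈ K.A
  · rcases K.degree_cases hn hd h2 with h | h <;> simp [h]
  by_cases h3 : χ = K.x1
  · simp [h3, K.hx1]
  by_cases h4 : χ = K.x2
  · simp [h4, K.hx2]
  obtain ⟨a, ha⟩ := K.hout χ h1 h2 h3 h4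
  have hdvd : Char.degree χ.1 ∣ 7920 := hG ▸ degree_dvd_card χ
  have hsq : Char.degree χ.1 ^ 2 ≤ 7920 := by
    rw [← hG, ← Char.sum_degree_sq (G := G)]
    exact Finset.single_le_sum (f := fun φ : Cfsg.IrrCharacter G => Char.degree φ.1 ^ 2)
      (fun _ _ => Nat.zero_le _) (Finset.mem_univ χ)
  rw [ha] at hdvd hsq ⊢
  have : a ≤ 8 := by nlinarith
  interval_cases a <;> norm_num at hdvd <;> simp

end Eleven

theorem involution_zero_three (hG : Nat.card G = 7920) (K : Eleven G 3 45 16) {y : G} (hy1 : y ≠ 1)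
    (hy2 : y ^ 2 = 1) : ∀ χ : Cfsg.IrrCharacter G, Char.degree χ.1 = 16 → χ.1 y = 0 := by
  classical
  have hy11 : ¬ 11 ∣ orderOf y := by rw [orderOf_eq_prime hy2 hy1]; norm_num
  obtain ⟨hx, ho⟩ := K.orth y hy11
  have hi := K.invol y hy1 hy2
  obtain ⟨a1, a2, a3, h12, h13, h23, hten⟩ := Finset.card_eq_three.1 K.hA10
  obtain ⟨b, hb⟩ := Finset.card_eq_one.1 K.hAd
  have hd1 : Char.degree a1.1 = 10 := (Finset.mem_filter.1 (hten.ge (by simp) :
    a1 ∈ K.A.filter fun χ => Char.degree χ.1 = 10)).2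
  have hd2 : Char.degree a2.1 = 10 := (Finset.mem_filter.1 (hten.ge (by simp) :
    a2 ∈ K.A.filter fun χ => Char.degree χ.1 = 10)).2
  have hd3 : Char.degree a3.1 = 10 := (Finset.mem_filter.1 (hten.ge (by simp) :
    a3 ∈ K.A.filter fun χ => Char.degree χ.1 = 10)).2
  have hbA := Finset.mem_filter.1 (hb.ge (Finset.mem_singleton_self b))
  have hA : K.A = {a1, a2, a3, b} := by
    ext χ
    constructor
    · intro h
      rcases K.degree_cases (by norm_num) (by norm_num) h with h' | h'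
      · have := hten.le (Finset.mem_filter.2 ⟨h, h'⟩)
        simp only [Finset.mem_insert, Finset.mem_singleton] at this ⊢
        tauto
      · have := hb.le (Finset.mem_filter.2 ⟨h, h'⟩)
        simp only [Finset.mem_insert, Finset.mem_singleton] at this ⊢
        tauto
    · intro h
      simp only [Finset.mem_insert, Finset.mem_singleton] at h
      rcases h with rfl | rfl | rfl | rfl
      · exact (Finset.mem_filter.1 (hten.ge (by simp) : χ ∈ K.A.filter _)).1
      · exact (Finset.mem_filter.1 (hten.ge (by simp) : χ ∈ K.A.filter _)).1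
      · exact (Finset.mem_filter.1 (hten.ge (by simp) : χ ∈ K.A.filter _)).1
      · exact hbA.1
  have hne : ∀ {a : Cfsg.IrrCharacter G}, Char.degree a.1 = 10 → a ≠ b := fun h h' => by
    rw [h'] at h
    omega
  have hA' : ∀ F : Cfsg.IrrCharacter G → ℂ, ∑ χ ∈ K.A, F χ = F a1 + F a2 + F a3 + F b := by
    intro F
    rw [hA, Finset.sum_insert (by simp [h12, h13, hne hd1]), Finset.sum_insert (by simp [h23, hne hd2]),
      Finset.sum_insert (by simp [hne hd3]), Finset.sum_singleton]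
    ring
  obtain ⟨z1, hz1, e1⟩ := exists_int_value hG a1 (fun h => by rw [h, principal_degree] at hd1; omega) hy1 hy2
  obtain ⟨z2, hz2, e2⟩ := exists_int_value hG a2 (fun h => by rw [h, principal_degree] at hd2; omega) hy1 hy2
  obtain ⟨z3, hz3, e3⟩ := exists_int_value hG a3 (fun h => by rw [h, principal_degree] at hd3; omega) hy1 hy2
  obtain ⟨z4, hz4, e4⟩ := exists_int_value hG b (K.ne_principal_of_mem hbA.1) hy1 hy2
  obtain ⟨z0, hz0, e0⟩ := exists_int_value hG K.x1 K.hpx.1 hy1 hy2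
  rw [hd1] at hz1
  rw [hd2] at hz2
  rw [hd3] at hz3
  rw [hbA.2] at hz4
  rw [K.hx1] at hz0
  rw [hA'] at ho hi
  simp only [hd1, hd2, hd3, hbA.2, sgn, e1, e2, e3, e4, e0, if_true] at ho hi
  norm_num at ho hi
  have hq1 : -1 + z1 + z2 + z3 - z4 + z0 = 0 := by
    apply Int.cast_injective (α := ℂ)
    push_cast
    linear_combination ho
  have hq2 : -720 + 72 * (z1 * z1 + z2 * z2 + z3 * z3) - 16 * (z4 * z4) + 45 * (z0 * z0) = 0 := by
    apply Int.cast_injective (α := ℂ)
    push_cast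
    linear_combination (720 : ℂ) * hi
  have hcheck : ((bVals 10).all fun z1 => (bVals 10).all fun z2 => (bVals 10).all fun z3 =>
      (bVals 45).all fun z4 => (bVals 16).all fun z0 =>
        !(decide (-1 + z1 + z2 + z3 - z4 + z0 = 0) &&
          decide (-720 + 72 * (z1 * z1 + z2 * z2 + z3 * z3) - 16 * (z4 * z4) + 45 * (z0 * z0) = 0)) ||
        decide (z0 = 0)) = true := by decide +kernel
  have := List.all_eq_true.1 (List.all_eq_true.1 (List.all_eq_true.1 (List.all_eq_true.1
    (List.all_eq_true.1 hcheck z1 hz1) z2 hz2) z3 hz3) z4 hz4) z0 hz0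
  simp only [hq1, hq2, decide_true, Bool.and_self, Bool.not_true, Bool.false_or,
    decide_eq_true_eq] at this
  intro χ hχ
  by_cases h3 : χ = K.x1
  · rw [h3, e0, this, Int.cast_zero]
  by_cases h4 : χ = K.x2
  · rw [h4, hx, e0, this, Int.cast_zero]
  exfalso
  by_cases h1 : χ = Char.principalIrr
  · rw [h1, principal_degree] at hχ; omega
  by_cases h2 : χ ∈ K.A
  · rcases K.degree_cases (by norm_num) (by norm_num) h2 with h | h <;> omega
  have := K.hout χ h1 h2 h3 h4
  omega

theorem involution_zero_two (hG : Nat.card G = 7920) (K : Eleven G 2 12 5) {y : G} (hy1 : y ≠ 1)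
    (hy2 : y ^ 2 = 1) : ∀ χ : Cfsg.IrrCharacter G, Char.degree χ.1 = 12 → χ.1 y = 0 := by
  classical
  have hy11 : ¬ 11 ∣ orderOf y := by rw [orderOf_eq_prime hy2 hy1]; norm_num
  obtain ⟨-, ho⟩ := K.orth y hy11
  have hi := K.invol y hy1 hy2
  obtain ⟨a1, a2, ha, hten⟩ := Finset.card_eq_two.1 K.hA10
  obtain ⟨c1, c2, hc, htw⟩ := Finset.card_eq_two.1 K.hAd
  have ha1 := Finset.mem_filter.1 (hten.ge (by simp) : a1 ∈ K.A.filter fun χ => Char.degree χ.1 = 10)
  have ha2 := Finset.mem_filter.1 (hten.ge (by simp) : a2 ∈ K.A.filter fun χ => Char.degree χ.1 = 10)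
  have hc1 := Finset.mem_filter.1 (htw.ge (by simp) : c1 ∈ K.A.filter fun χ => Char.degree χ.1 = 12)
  have hc2 := Finset.mem_filter.1 (htw.ge (by simp) : c2 ∈ K.A.filter fun χ => Char.degree χ.1 = 12)
  have hne : ∀ {a c : Cfsg.IrrCharacter G}, Char.degree a.1 = 10 → Char.degree c.1 = 12 → a ≠ c :=
    fun h h2 h' => by rw [h'] at h; omega
  have hA : K.A = {a1, a2, c1, c2} := by
    refine (Finset.eq_of_subset_of_card_le ?_ ?_).symm
    · intro χ h
      simp only [Finset.mem_insert, Finset.mem_singleton] at h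
      rcases h with rfl | rfl | rfl | rfl
      · exact ha1.1
      · exact ha2.1
      · exact hc1.1
      · exact hc2.1
    · rw [Finset.card_insert_of_notMem (by simp [ha, hne ha1.2 hc1.2, hne ha1.2 hc2.2]),
        Finset.card_insert_of_notMem (by simp [hne ha2.2 hc1.2, hne ha2.2 hc2.2]),
        Finset.card_pair hc, K.hA]
  have hA' : ∀ F : Cfsg.IrrCharacter G → ℂ, ∑ χ ∈ K.A, F χ = F a1 + F a2 + F c1 + F c2 := by
    intro F
    rw [hA, Finset.sum_insert (by simp [ha, hne ha1.2 hc1.2, hne ha1.2 hc2.2]),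
      Finset.sum_insert (by simp [hne ha2.2 hc1.2, hne ha2.2 hc2.2]), Finset.sum_pair hc]
    ring
  obtain ⟨z1, hz1, e1⟩ := exists_int_value hG a1 (K.ne_principal_of_mem ha1.1) hy1 hy2
  obtain ⟨z2, hz2, e2⟩ := exists_int_value hG a2 (K.ne_principal_of_mem ha2.1) hy1 hy2
  obtain ⟨z3, hz3, e3⟩ := exists_int_value hG c1 (K.ne_principal_of_mem hc1.1) hy1 hy2
  obtain ⟨z4, hz4, e4⟩ := exists_int_value hG c2 (K.ne_principal_of_mem hc2.1) hy1 hy2
  obtain ⟨z0, hz0, e0⟩ := exists_int_value hG K.x1 K.hpx.1 hy1 hy2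
  rw [ha1.2] at hz1
  rw [ha2.2] at hz2
  rw [hc1.2] at hz3
  rw [hc2.2] at hz4
  rw [K.hx1] at hz0
  rw [hA'] at ho hi
  simp only [ha1.2, ha2.2, hc1.2, hc2.2, sgn, e1, e2, e3, e4, e0, if_true] at ho hi
  norm_num at ho hi
  have hq1 : -1 + z1 + z2 - z3 - z4 + z0 = 0 := by
    apply Int.cast_injective (α := ℂ)
    push_cast
    linear_combination ho
  have hq2 : -60 + 6 * (z1 * z1 + z2 * z2) - 5 * (z3 * z3 + z4 * z4) + 12 * (z0 * z0) = 0 := by
    apply Int.cast_injective (α := ℂ)
    push_cast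
    linear_combination (60 : ℂ) * hi
  have hcheck : ((bVals 10).all fun z1 => (bVals 10).all fun z2 => (bVals 12).all fun z3 =>
      (bVals 12).all fun z4 => (bVals 5).all fun z0 =>
        !(decide (-1 + z1 + z2 - z3 - z4 + z0 = 0) &&
          decide (-60 + 6 * (z1 * z1 + z2 * z2) - 5 * (z3 * z3 + z4 * z4) + 12 * (z0 * z0) = 0)) ||
        (decide (z3 = 0) && decide (z4 = 0))) = true := by decide +kernel
  have := List.all_eq_true.1 (List.all_eq_true.1 (List.all_eq_true.1 (List.all_eq_true.1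
    (List.all_eq_true.1 hcheck z1 hz1) z2 hz2) z3 hz3) z4 hz4) z0 hz0
  simp only [hq1, hq2, decide_true, Bool.and_self, Bool.not_true, Bool.false_or, Bool.and_eq_true,
    decide_eq_true_eq] at this
  intro χ hχ
  have hmem : χ ∈ K.A := by
    by_contra h2
    by_cases h3 : χ = K.x1
    · rw [h3, K.hx1] at hχ; omega
    by_cases h4 : χ = K.x2
    · rw [h4, K.hx2] at hχ; omega
    by_cases h1 : χ = Char.principalIrr
    · rw [h1, principal_degree] at hχ; omega
    have := K.hout χ h1 h2 h3 h4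
    omega
  have := htw.le (Finset.mem_filter.2 ⟨hmem, hχ⟩)
  simp only [Finset.mem_insert, Finset.mem_singleton] at this
  rcases this with rfl | rfl
  · rw [e3]; simp [*]
  · rw [e4]; simp [*]

/-- the test used at `5` -/
def okFive (d0 : ℕ) (f : ℕ) (l : List (ℤ × ℕ)) : Bool := Nat.beq f d0 || l.any fun x => Nat.beq x.2 d0

theorem sylow_five_aux (hG : Nat.card G = 7920) (L : List ℕ) (d0 : ℕ)
    (hL : ∀ χ : Cfsg.IrrCharacter G, Char.degree χ.1 ∈ L)
    (hzero : ∀ y : G, y ≠ 1 → y ^ 2 = 1 → ∀ χ : Cfsg.IrrCharacter G, Char.degree χ.1 = d0 → χ.1 y = 0)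
    (hchk2 : solCheck 7920 5 2 2 88 (fun f => L.contains f) (fun _ => okFive d0) = true)
    (hchk4 : solCheck 7920 5 4 1 88 (fun f => L.contains f) (fun _ => okFive d0) = true)
    [Fact (Nat.Prime 5)] (P : Sylow 5 G) (S : CSplit 5 P) :
    Nat.card S.V = 1 ∧ Nat.card S.act.range = 4 := by
  classical
  have hP : Nat.card ↥(P : Subgroup G) = 5 := by
    simpa using card_sylow_eq (e := 1) (m := 1584) (by rw [hG]; norm_num) (by norm_num) P
  obtain ⟨c, e, hC, hN, he, hep, hfac, -⟩ := exists_refined (not_comm hG) P hP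
  have hS1 := S.card_centralizer
  have hS2 := S.card_normalizer
  rw [hC] at hS1
  rw [hN] at hS2
  have hce : Nat.card S.V = c := by omega
  have hee : Nat.card S.act.range = e := by
    rw [hce] at hS2
    exact (Nat.eq_of_mul_eq_mul_left (by
      have : 0 < c := hce ▸ Nat.card_pos
      omega) hS2).symm
  have hn := card_sylow_mem_sylowCands (p := 5) (e := 1) (m := 1584) hG (by norm_num) (by norm_num)
    one_pos (by norm_num)
  have hlist : sylowCands 7920 5 1584 = [11, 16, 36, 66, 176, 396] := by decide +kernel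
  rw [hlist] at hn
  have hmul := card_normalizer_mul P
  rw [hN, hG] at hmul
  have hk : c * e * Nat.card (Sylow 5 G) = 1584 := by
    rw [mul_assoc, mul_assoc] at hmul
    rw [mul_assoc]
    omega
  have hel : e = 2 ∨ e = 4 := by
    have he4 : e ∣ 4 := Nat.dvd_of_mod_eq_zero (by simpa using hep)
    have := Nat.le_of_dvd (by norm_num) he4
    interval_cases e <;> simp_all
  have hdich : (c = 1 ∧ e = 4) ∨ 2 ∣ c := by
    simp only [List.mem_cons, List.not_mem_nil, or_false] at hn
    rcases hel with rfl | rfl <;> rcases hn with hn | hn | hn | hn | hn | hn <;> rw [hn] at hfac hk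
    all_goals try omega
    have h11 : c = 11 := by omega
    rw [h11] at hfac
    norm_num [Nat.factorial] at hfac
  rcases hdich with ⟨rfl, rfl⟩ | h2c
  · exact ⟨hce, hee⟩
  exfalso
  subst hce hee
  set e := Nat.card S.act.range
  obtain ⟨t, ht, hchk⟩ : ∃ t, e * t = 5 - 1 ∧
      solCheck 7920 5 e t 88 (fun f => L.contains f) (fun _ => okFive d0) = true := by
    rcases hel with h | h <;> rw [h]
    · exact ⟨2, rfl, hchk2⟩
    · exact ⟨1, rfl, hchk4⟩
  obtain ⟨B⟩ := S.exists_blockSolution ht he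
  have ht1 : 1 ≤ t := by
    rcases Nat.eq_zero_or_pos t with h | h
    · simp [h] at ht
    · exact h
  have hDl : ∀ x ∈ B.sol.l, (fun f => L.contains f) x.2 = true := by
    intro x hx
    rw [B.hl, List.mem_map] at hx
    obtain ⟨χ, hχ, rfl⟩ := hx
    simpa using hL χ.2
  have hok := B.sol.of_solCheck (R := 88) (D := fun f => L.contains f) (ok := fun _ => okFive d0)
    (fun W f a b hab => by simp only [okFive, hab.any_eq]) ht1 he B.hone
    (by simpa [B.hf0] using hL B.χ0) hDl (by rw [hG]; exact hchk)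
  obtain ⟨χ, hgood, hdeg⟩ : ∃ χ, (χ = B.χ0 ∨ χ ∈ B.χs.map Prod.snd) ∧ Char.degree χ.1 = d0 := by
    simp only [okFive, Bool.or_eq_true, List.any_eq_true, Nat.beq_eq] at hok
    rcases hok with h | ⟨x, hx, h⟩
    · exact ⟨B.χ0, Or.inl rfl, B.hf0.symm.trans h⟩
    · rw [B.hl, List.mem_map] at hx
      obtain ⟨y, hy, rfl⟩ := hx
      exact ⟨y.2, Or.inr (List.mem_map.2 ⟨y, hy, rfl⟩), h⟩
  obtain ⟨-, hM⟩ := B.good χ hgood
  have : Fact (Nat.Prime 2) := ⟨Nat.prime_two⟩
  obtain ⟨⟨v, hv⟩, hord⟩ := exists_prime_orderOf_dvd_card' 2 h2c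
  rw [Subgroup.orderOf_mk] at hord
  have hval : χ.1 v = 0 := hzero v (fun h => by rw [h, orderOf_one] at hord; omega)
    (hord ▸ pow_orderOf_eq_one v) χ hdeg
  obtain ⟨M, hM'⟩ := Char.exists_pModular (p := 5) Fact.out
  have hmax := Blocks.isMaximal_of_isPModular hM'
  have hchar : CharP (Blocks.ResField M) 5 :=
    Blocks.charP_resField Fact.out (Blocks.natCast_mem_of_isPModular hM')
  have h := S.red_value χ hM hM' hv 0 (by rw [hval]; rfl)
  rw [map_zero] at h
  have h5 : 5 ∣ S.tmult χ := (CharP.cast_eq_zero_iff _ 5 _).1 h.symm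
  exact hM h5

end CfsgLib.M11Order
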