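import Cfsg.Agent.Lib.Sporadic.M11Order.Suborbits

/-!
The graph on the 55 Sylow `3`-subgroups of a simple group of order 7920 is the triangular graph:
the neighbourhood of a vertex consists of two cliques of size 9 joined by a matching.
-/

set_option autoImplicit false

open scoped Pointwise

namespace CfsgLib.M11Order

open Subgroup SmallOrder

universe u

variable {G : Type u} [Group G] [Fintype G] [IsSimpleGroup G] [Fact (Nat.Prime 3)]

/-- The neighbours of a vertex. -/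
noncomputable def nbr (Q : Sylow 3 G) : Finset (Sylow 3 G) :=
  open Classical in Finset.univ.filter fun S => Adj Q S

theorem mem_nbr {Q S : Sylow 3 G} : S ∈ nbr Q ↔ Adj Q S := by
  classical
  simp [nbr]

omit [Fintype G] [IsSimpleGroup G] in
theorem not_adj_self (Q : Sylow 3 G) : ¬ Adj Q Q := fun h => h.1 rfl

omit [Fintype G] [IsSimpleGroup G] in
theorem adj_comm {Q S : Sylow 3 G} : Adj Q S ↔ Adj S Q := ⟨Adj.symm, Adj.symm⟩

theorem card_sylow (hG : Nat.card G = 7920) : Nat.card (Sylow 3 G) = 55 := by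
  obtain ⟨Q⟩ := (inferInstance : Nonempty (Sylow 3 G))
  have h := Subgroup.card_mul_index (normalizer ((Q : Subgroup G) : Set G))
  rw [card_normalizer_three hG Q, hG] at h
  have h2 : Nat.card (Sylow 3 G) = (normalizer ((Q : Subgroup G) : Set G)).index :=
    Sylow.card_eq_index_normalizer Q
  omega

/-- A block containing `Q` whose stabiliser contains the normaliser of `Q`. -/
theorem block_card_dvd (hG : Nat.card G = 7920) [DecidableEq (Sylow 3 G)] (Q : Sylow 3 G)
    (C : Finset (Sylow 3 G)) (hQ : Q ∈ C) (hblock : ∀ g : G, g • Q ∈ C → g • C = C) :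
    C.card * 144 ∣ 7920 := by
  set H := MulAction.stabilizer G C
  have horb : MulAction.orbit H Q = (C : Set (Sylow 3 G)) := by
    ext S
    constructor
    · rintro ⟨g, rfl⟩
      have h : (g : G) • Q ∈ (g : G) • C := Finset.smul_mem_smul_finset hQ
      rwa [show (g : G) • C = C from g.2] at h
    · intro hS
      obtain ⟨g, rfl⟩ := MulAction.exists_smul_eq G Q S
      exact ⟨⟨g, hblock g hS⟩, rfl⟩
  have hst : MulAction.stabilizer H Q = (normalizer ((Q : Subgroup G) : Set G)).subgroupOf H := by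
    ext g
    rw [MulAction.mem_stabilizer_iff, Subgroup.mem_subgroupOf]
    exact Sylow.smul_eq_iff_mem_normalizer
  have hle : normalizer ((Q : Subgroup G) : Set G) ≤ H := fun g hg =>
    hblock g (by rw [Sylow.smul_eq_iff_mem_normalizer.2 hg]; exact hQ)
  have hm := Subgroup.card_mul_index (MulAction.stabilizer H Q)
  rw [MulAction.index_stabilizer, horb, Set.ncard_coe_finset, hst,
    Nat.card_congr (Subgroup.subgroupOfEquivOfLe hle).toEquiv, card_normalizer_three hG Q] at hm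
  have hd := Subgroup.card_subgroup_dvd_card H
  rw [← hm, hG, mul_comm] at hd
  exact hd

omit [Fintype G] [IsSimpleGroup G] in
theorem sylow_smul_mul (g z : G) (S : Sylow 3 G) : g • (z • S) = (g * z * g⁻¹) • (g • S) := by
  rw [← mul_smul, ← mul_smul]
  congr 1
  group

namespace Frame

variable (F : Frame G)

/-- The elements of the base subgroup. -/
noncomputable def qset : Finset G := open Classical in Finset.univ.filter fun x => x ∈ (F.Q : Subgroup G)

theorem mem_qset {x : G} : x ∈ F.qset ↔ x ∈ (F.Q : Subgroup G) := by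
  classical
  simp [qset]

theorem card_qset (hG : Nat.card G = 7920) : F.qset.card = 9 := by
  classical
  rw [qset, ← Fintype.card_subtype, ← Nat.card_eq_fintype_card]
  exact (sylow_three_facts hG F.Q).1

/-- The orbit of the second point. -/
noncomputable def O : Finset (Sylow 3 G) := open Classical in F.qset.image fun x => x • F.R

/-- The orbit of the third point. -/
noncomputable def O' : Finset (Sylow 3 G) := open Classical in F.qset.image fun x => x • F.R'

theorem mem_O {S : Sylow 3 G} : S ∈ F.O ↔ ∃ x ∈ (F.Q : Subgroup G), x • F.R = S := by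
  classical
  simp [O, F.mem_qset]

theorem mem_O' {S : Sylow 3 G} : S ∈ F.O' ↔ ∃ x ∈ (F.Q : Subgroup G), x • F.R' = S := by
  classical
  simp [O', F.mem_qset]

theorem card_O (hG : Nat.card G = 7920) : F.O.card = 9 := by
  classical
  rw [O, Finset.card_image_of_injOn, F.card_qset hG]
  intro x hx y hy h
  exact F.orbit_injective hG (F.mem_qset.1 hx) (F.mem_qset.1 hy) F.hQR h

theorem card_O' (hG : Nat.card G = 7920) : F.O'.card = 9 := by
  classical
  rw [O', Finset.card_image_of_injOn, F.card_qset hG]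
  intro x hx y hy h
  exact F.orbit_injective hG (F.mem_qset.1 hx) (F.mem_qset.1 hy) F.hQR' h

theorem R_mem_O : F.R ∈ F.O := F.mem_O.2 ⟨1, one_mem _, one_smul _ _⟩

theorem R'_mem_O' : F.R' ∈ F.O' := F.mem_O'.2 ⟨1, one_mem _, one_smul _ _⟩

theorem disjoint_O (hG : Nat.card G = 7920) : Disjoint F.O F.O' := by
  rw [Finset.disjoint_left]
  intro S h h'
  obtain ⟨x, hx, rfl⟩ := F.mem_O.1 h
  obtain ⟨y, hy, e⟩ := F.mem_O'.1 h'
  exact F.orbit_disjoint hG hx hy e.symm

theorem nbr_eq (hG : Nat.card G = 7920) [DecidableEq (Sylow 3 G)] : nbr F.Q = F.O ∪ F.O' := by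
  ext S
  rw [mem_nbr, F.adj_iff hG, Finset.mem_union, F.mem_O, F.mem_O']
  constructor
  · rintro ⟨x, hx, rfl | rfl⟩
    · exact Or.inl ⟨x, hx, rfl⟩
    · exact Or.inr ⟨x, hx, rfl⟩
  · rintro (⟨x, hx, rfl⟩ | ⟨x, hx, rfl⟩)
    · exact ⟨x, hx, Or.inl rfl⟩
    · exact ⟨x, hx, Or.inr rfl⟩

theorem card_nbr_Q (hG : Nat.card G = 7920) : (nbr F.Q).card = 18 := by
  classical
  rw [F.nbr_eq hG, Finset.card_union_of_disjoint (F.disjoint_O hG), F.card_O hG, F.card_O' hG]

/-- Arcs form one orbit. -/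
theorem arc_transitive (hG : Nat.card G = 7920) {S T : Sylow 3 G} (h : Adj S T) :
    ∃ g : G, g • F.Q = S ∧ g • F.R = T := by
  obtain ⟨g, rfl⟩ := MulAction.exists_smul_eq G F.Q S
  have h' : Adj F.Q (g⁻¹ • T) := by
    have := h.smul g⁻¹
    rwa [inv_smul_smul] at this
  obtain ⟨k, hk, hkR⟩ := F.exists_swap hG
  obtain ⟨x, hx, e | e⟩ := (F.adj_iff hG _).1 h'
  · refine ⟨g * x, ?_, ?_⟩
    · rw [mul_smul, Sylow.smul_eq_iff_mem_normalizer.2 (Subgroup.le_normalizer hx)]
    · rw [mul_smul, ← e, smul_inv_smul]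
  · refine ⟨g * x * k, ?_, ?_⟩
    · rw [mul_smul, mul_smul, F.smul_Q hk,
        Sylow.smul_eq_iff_mem_normalizer.2 (Subgroup.le_normalizer hx)]
    · rw [mul_smul, mul_smul, hkR, ← e, smul_inv_smul]

/-- Adjacency inside the first orbit. -/
def Alpha : Prop := ∀ z ∈ (F.Q : Subgroup G), z ≠ 1 → Adj F.R (z • F.R)

/-- Adjacency between the two orbits. -/
def Beta : Prop := ∀ z ∈ (F.Q : Subgroup G), z ≠ 1 → Adj F.R (z • F.R')

theorem adj_R_iff_conj {l z : G} (hl : l ∈ F.L) :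
    (Adj F.R ((l * z * l⁻¹) • F.R) ↔ Adj F.R (z • F.R)) ∧
      (Adj F.R ((l * z * l⁻¹) • F.R') ↔ Adj F.R (z • F.R')) := by
  have hlR : l • F.R = F.R := Sylow.smul_eq_iff_mem_normalizer.2 hl.2
  have hlR' : l • F.R' = F.R' := F.smul_R'_of_fix hl.1 hlR
  constructor
  · conv_rhs => rw [← adj_smul_iff l]
    rw [sylow_smul_mul, hlR]
  · conv_rhs => rw [← adj_smul_iff l]
    rw [sylow_smul_mul, hlR, hlR']

theorem alpha_or (hG : Nat.card G = 7920) :
    F.Alpha ∨ ∀ z ∈ (F.Q : Subgroup G), z ≠ 1 → ¬ Adj F.R (z • F.R) := by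
  by_cases h : ∃ z ∈ (F.Q : Subgroup G), z ≠ 1 ∧ Adj F.R (z • F.R)
  · obtain ⟨z, hz, hz1, ha⟩ := h
    refine Or.inl fun y hy hy1 => ?_
    obtain ⟨l, hl, rfl⟩ := F.L_transitive hG hz hz1 hy hy1
    exact (F.adj_R_iff_conj hl).1.2 ha
  · exact Or.inr fun z hz hz1 ha => h ⟨z, hz, hz1, ha⟩

theorem beta_or (hG : Nat.card G = 7920) :
    F.Beta ∨ ∀ z ∈ (F.Q : Subgroup G), z ≠ 1 → ¬ Adj F.R (z • F.R') := by
  by_cases h : ∃ z ∈ (F.Q : Subgroup G), z ≠ 1 ∧ Adj F.R (z • F.R')
  · obtain ⟨z, hz, hz1, ha⟩ := h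
    refine Or.inl fun y hy hy1 => ?_
    obtain ⟨l, hl, rfl⟩ := F.L_transitive hG hz hz1 hy hy1
    exact (F.adj_R_iff_conj hl).2.2 ha
  · exact Or.inr fun z hz hz1 ha => h ⟨z, hz, hz1, ha⟩

theorem adj_OO (hG : Nat.card G = 7920) {x y : G} (hx : x ∈ (F.Q : Subgroup G))
    (hy : y ∈ (F.Q : Subgroup G)) : Adj (x • F.R) (y • F.R) ↔ x ≠ y ∧ F.Alpha := by
  rw [← adj_smul_iff x⁻¹, inv_smul_smul, ← mul_smul]
  have hz : x⁻¹ * y ∈ (F.Q : Subgroup G) := mul_mem (inv_mem hx) hy
  constructor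
  · intro h
    have hne : x ≠ y := by
      rintro rfl
      rw [inv_mul_cancel, one_smul] at h
      exact not_adj_self _ h
    exact ⟨hne, (F.alpha_or hG).resolve_right fun ha => ha _ hz (fun e => hne (inv_mul_eq_one.1 e)) h⟩
  · rintro ⟨hne, ha⟩
    exact ha _ hz fun e => hne (inv_mul_eq_one.1 e)

theorem adj_O'O' (hG : Nat.card G = 7920) {x y : G} (hx : x ∈ (F.Q : Subgroup G))
    (hy : y ∈ (F.Q : Subgroup G)) : Adj (x • F.R') (y • F.R') ↔ x ≠ y ∧ F.Alpha := by
  obtain ⟨k, hk, hkR⟩ := F.exists_swap hG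
  have hx' := (mem_normalizer_iff'.1 hk.1)
  have hcx : k⁻¹ * x * k ∈ (F.Q : Subgroup G) := by
    have := (mem_normalizer_iff.1 (inv_mem hk.1) x).1 hx
    rwa [inv_inv] at this
  have hcy : k⁻¹ * y * k ∈ (F.Q : Subgroup G) := by
    have := (mem_normalizer_iff.1 (inv_mem hk.1) y).1 hy
    rwa [inv_inv] at this
  have h := (adj_smul_iff k).trans (F.adj_OO hG hcx hcy)
  rw [sylow_smul_mul k (k⁻¹ * x * k), sylow_smul_mul k (k⁻¹ * y * k), hkR,
    show k * (k⁻¹ * x * k) * k⁻¹ = x by group, show k * (k⁻¹ * y * k) * k⁻¹ = y by group] at h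
  rw [h]
  exact and_congr_left fun _ => not_congr ⟨fun e => by simpa using e, fun e => by rw [e]⟩

theorem adj_OO' (hG : Nat.card G = 7920) {x y : G} (hx : x ∈ (F.Q : Subgroup G))
    (hy : y ∈ (F.Q : Subgroup G)) : Adj (x • F.R) (y • F.R') ↔ x = y ∨ F.Beta := by
  rw [← adj_smul_iff x⁻¹, inv_smul_smul, ← mul_smul]
  have hz : x⁻¹ * y ∈ (F.Q : Subgroup G) := mul_mem (inv_mem hx) hy
  constructor
  · intro h
    by_cases hne : x = y
    · exact Or.inl hne
    exact Or.inr ((F.beta_or hG).resolve_right fun ha => ha _ hz (fun e => hne (inv_mul_eq_one.1 e)) h)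
  · rintro (rfl | hb)
    · rw [inv_mul_cancel, one_smul]
      exact ⟨F.hRR', F.t, F.iR, F.iR'⟩
    · by_cases hne : x = y
      · rw [hne, inv_mul_cancel, one_smul]
        exact ⟨F.hRR', F.t, F.iR, F.iR'⟩
      · exact hb _ hz fun e => hne (inv_mul_eq_one.1 e)

end Frame

theorem nbr_smul [DecidableEq (Sylow 3 G)] (g : G) (Q : Sylow 3 G) : nbr (g • Q) = g • nbr Q := by
  ext S
  rw [mem_nbr, ← Finset.inv_smul_mem_iff, mem_nbr, ← adj_smul_iff g⁻¹, inv_smul_smul]

theorem card_nbr (hG : Nat.card G = 7920) (Q : Sylow 3 G) : (nbr Q).card = 18 := by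
  classical
  obtain ⟨R, hR⟩ := exists_adj hG Q
  obtain ⟨F, rfl, -⟩ := exists_frame_of_adj hG hR
  exact F.card_nbr_Q hG

namespace Frame

variable (F : Frame G)

theorem not_alpha_beta (hG : Nat.card G = 7920) (ha : F.Alpha) (hb : F.Beta) : False := by
  classical
  set C := insert F.Q (nbr F.Q) with hC
  have hQn : F.Q ∉ nbr F.Q := fun h => not_adj_self _ (mem_nbr.1 h)
  have hpair : ∀ S ∈ C, ∀ T ∈ C, S ≠ T → Adj S T := by
    intro S hS T hT hne
    rw [hC, Finset.mem_insert, F.nbr_eq hG, Finset.mem_union, F.mem_O, F.mem_O'] at hS hT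
    rcases hS with rfl | hS
    · rcases hT with rfl | hT
      · exact absurd rfl hne
      · exact (F.adj_iff hG T).2 (by
          rcases hT with ⟨x, hx, rfl⟩ | ⟨x, hx, rfl⟩
          · exact ⟨x, hx, Or.inl rfl⟩
          · exact ⟨x, hx, Or.inr rfl⟩)
    rcases hT with rfl | hT
    · exact ((F.adj_iff hG S).2 (by
          rcases hS with ⟨x, hx, rfl⟩ | ⟨x, hx, rfl⟩
          · exact ⟨x, hx, Or.inl rfl⟩
          · exact ⟨x, hx, Or.inr rfl⟩)).symm
    rcases hS with ⟨x, hx, rfl⟩ | ⟨x, hx, rfl⟩ <;> rcases hT with ⟨y, hy, rfl⟩ | ⟨y, hy, rfl⟩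
    · exact (F.adj_OO hG hx hy).2 ⟨fun e => hne (by rw [e]), ha⟩
    · exact (F.adj_OO' hG hx hy).2 (Or.inr hb)
    · exact ((F.adj_OO' hG hy hx).2 (Or.inr hb)).symm
    · exact (F.adj_O'O' hG hx hy).2 ⟨fun e => hne (by rw [e]), ha⟩
  have hCc : C.card = 19 := by rw [hC, Finset.card_insert_of_notMem hQn, F.card_nbr_Q hG]
  have h := block_card_dvd hG F.Q C (Finset.mem_insert_self _ _) fun g hg => by
    have h1 : nbr (g • F.Q) = C.erase (g • F.Q) := by
      refine (Finset.eq_of_subset_of_card_le (fun T hT => ?_) ?_).symm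
      · rw [Finset.mem_erase] at hT
        exact mem_nbr.2 (hpair _ hg _ hT.2 hT.1.symm)
      · rw [Finset.card_erase_of_mem hg, hCc, card_nbr hG]
    rw [nbr_smul] at h1
    show g • C = C
    rw [hC, Finset.smul_finset_insert, h1, Finset.insert_erase hg]
  rw [hCc] at h
  norm_num at h

theorem same_part (hG : Nat.card G = 7920) (ha : ¬ F.Alpha) (hb : F.Beta) {P A B C : Sylow 3 G}
    (hA : Adj P A) (hB : Adj P B) (hC : Adj P C) (hAB : ¬ Adj A B) (hAC : Adj A C) : Adj B C := by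
  obtain ⟨g, rfl⟩ := MulAction.exists_smul_eq G F.Q P
  have key : ∀ A B C : Sylow 3 G, Adj F.Q A → Adj F.Q B → Adj F.Q C → ¬ Adj A B → Adj A C → Adj B C := by
    intro A B C hA hB hC hAB hAC
    obtain ⟨a, ha', rfl | rfl⟩ := (F.adj_iff hG A).1 hA <;>
      obtain ⟨b, hb', rfl | rfl⟩ := (F.adj_iff hG B).1 hB <;>
      obtain ⟨c, hc', rfl | rfl⟩ := (F.adj_iff hG C).1 hC
    · exact absurd ((F.adj_OO hG ha' hc').1 hAC).2 ha
    · exact (F.adj_OO' hG hb' hc').2 (Or.inr hb)
    · exact absurd ((F.adj_OO' hG ha' hb').2 (Or.inr hb)) hAB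
    · exact absurd ((F.adj_OO' hG ha' hb').2 (Or.inr hb)) hAB
    · exact absurd ((F.adj_OO' hG hb' ha').2 (Or.inr hb)).symm hAB
    · exact absurd ((F.adj_OO' hG hb' ha').2 (Or.inr hb)).symm hAB
    · exact ((F.adj_OO' hG hc' hb').2 (Or.inr hb)).symm
    · exact absurd ((F.adj_O'O' hG ha' hc').1 hAC).2 ha
  have h := key (g⁻¹ • A) (g⁻¹ • B) (g⁻¹ • C) (by simpa using hA.smul g⁻¹) (by simpa using hB.smul g⁻¹)
    (by simpa using hC.smul g⁻¹) (fun h => hAB ((adj_smul_iff g⁻¹).1 h)) (hAC.smul g⁻¹)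
  exact (adj_smul_iff g⁻¹).1 h

theorem not_beta_only (hG : Nat.card G = 7920) (ha : ¬ F.Alpha) (hb : F.Beta) : False := by
  classical
  set D := Finset.univ.filter fun S => nbr S = nbr F.Q with hD
  set C := nbr F.R ∩ nbr F.R' with hC
  have hDC : D = C := by
    ext S
    simp only [hD, hC, Finset.mem_filter, Finset.mem_univ, true_and, Finset.mem_inter, mem_nbr]
    constructor
    · intro h
      have h1 : F.R ∈ nbr S := h ▸ mem_nbr.2 F.adj_R
      have h2 : F.R' ∈ nbr S := h ▸ mem_nbr.2 F.adj_R'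
      exact ⟨(mem_nbr.1 h1).symm, (mem_nbr.1 h2).symm⟩
    · rintro ⟨hR, hR'⟩
      refine (Finset.eq_of_subset_of_card_le ?_ (by rw [card_nbr hG, card_nbr hG])).symm
      intro T hT
      obtain ⟨x, hx, rfl | rfl⟩ := (F.adj_iff hG T).1 (mem_nbr.1 hT)
      · refine mem_nbr.2 (F.same_part hG ha hb (P := F.R') (A := F.R) ?_ ?_ hR' ?_ hR).symm
        · exact Adj.symm ⟨F.hRR', F.t, F.iR, F.iR'⟩
        · have := ((F.adj_OO' hG hx (one_mem _)).2 (Or.inr hb)).symm
          rwa [one_smul] at this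
        · intro h
          have h' := (F.adj_OO hG (one_mem _) hx).1 (by rwa [one_smul])
          exact ha h'.2
      · refine mem_nbr.2 (F.same_part hG ha hb (P := F.R) (A := F.R') ?_ ?_ hR ?_ hR').symm
        · exact ⟨F.hRR', F.t, F.iR, F.iR'⟩
        · have := (F.adj_OO' hG (one_mem _) hx).2 (Or.inr hb)
          rwa [one_smul] at this
        · intro h
          have h' := (F.adj_O'O' hG (one_mem _) hx).1 (by rwa [one_smul])
          exact ha h'.2
  have hQR : nbr F.Q ∩ nbr F.R = F.O' := by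
    ext S
    rw [Finset.mem_inter, mem_nbr, mem_nbr, F.mem_O']
    constructor
    · rintro ⟨h1, h2⟩
      obtain ⟨x, hx, rfl | rfl⟩ := (F.adj_iff hG S).1 h1
      · have h' := (F.adj_OO hG (one_mem _) hx).1 (by rwa [one_smul])
        exact absurd h'.2 ha
      · exact ⟨x, hx, rfl⟩
    · rintro ⟨x, hx, rfl⟩
      refine ⟨(F.adj_iff hG _).2 ⟨x, hx, Or.inr rfl⟩, ?_⟩
      have := (F.adj_OO' hG (one_mem _) hx).2 (Or.inr hb)
      rwa [one_smul] at this
  have hC9 : C.card = 9 := by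
    obtain ⟨g, h1, h2⟩ := F.arc_transitive hG (⟨F.hRR', F.t, F.iR, F.iR'⟩ : Adj F.R F.R')
    have he : C = g • (nbr F.Q ∩ nbr F.R) := by
      rw [Finset.smul_finset_inter, ← nbr_smul, ← nbr_smul, h1, h2]
    rw [he, hQR, Finset.card_smul_finset, F.card_O' hG]
  have h := block_card_dvd hG F.Q D (by simp [hD]) fun g hg => by
    simp only [hD, Finset.mem_filter, Finset.mem_univ, true_and] at hg
    ext S
    rw [← Finset.inv_smul_mem_iff]
    simp only [hD, Finset.mem_filter, Finset.mem_univ, true_and]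
    rw [nbr_smul, inv_smul_eq_iff, ← nbr_smul g F.Q, hg]
  rw [hDC, hC9] at h
  norm_num at h

end Frame

end CfsgLib.M11Order
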