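import Cfsg.Agent.Lib.Sporadic.M11Order.Census
import Cfsg.Agent.Lib.SmallOrder.Auto

/-!
A simple group of order 7920: the normalisers of the Sylow `11`-subgroups and the degrees in the
principal `11`-block.
-/

set_option autoImplicit false

namespace CfsgLib.M11Order

open Subgroup SmallOrder

universe u

variable {G : Type u} [Group G] [Fintype G] [IsSimpleGroup G]

theorem not_comm (hG : Nat.card G = 7920) : ¬ IsMulCommutative G :=
  not_comm_of_not_prime (by rw [hG]; norm_num)

theorem sylow_eleven (hG : Nat.card G = 7920) [Fact (Nat.Prime 11)] (P : Sylow 11 G)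
    (S : CSplit 11 P) : Nat.card S.V = 1 ∧ Nat.card S.act.range = 5 := by
  have hP : Nat.card ↥(P : Subgroup G) = 11 := by
    simpa using card_sylow_eq (e := 1) (m := 720) (by rw [hG]; norm_num) (by norm_num) P
  obtain ⟨c, e, hC, hN, he, hep, hfac, hsol⟩ := exists_refined (not_comm hG) P hP
  have hS1 := S.card_centralizer
  have hS2 := S.card_normalizer
  rw [hC] at hS1
  rw [hN] at hS2
  have hce : Nat.card S.V = c := by omega
  have hn := card_sylow_mem_sylowCands (p := 11) (e := 1) (m := 720) hG (by norm_num) (by norm_num)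
    one_pos (by norm_num)
  have hlist : sylowCands 7920 11 720 = [12, 45, 144] := by decide +kernel
  rw [hlist] at hn
  have hmul := card_normalizer_mul P
  rw [hN, hG] at hmul
  have hk : c * e * Nat.card (Sylow 11 G) = 720 := by
    rw [mul_assoc, mul_assoc] at hmul
    rw [mul_assoc]
    omega
  suffices c = 1 ∧ e = 5 by
    obtain ⟨rfl, rfl⟩ := this
    exact ⟨hce, by rw [hce] at hS2; omega⟩
  have he10 : e ∣ 10 := Nat.dvd_of_mod_eq_zero (by simpa using hep)
  have hel : e ∈ [2, 5, 10] := by
    have := Nat.le_of_dvd (by norm_num) he10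
    interval_cases e <;> simp_all
  simp only [List.mem_cons, List.not_mem_nil, or_false] at hn hel
  rcases hn with hn | hn | hn <;> rw [hn] at hfac hk
  · norm_num at hfac
    subst hfac
    omega
  · have hc8 : c = 8 ∧ e = 2 := by
      rcases hel with rfl | rfl | rfl <;> omega
    obtain ⟨rfl, rfl⟩ := hc8
    have hsol' := hsol 88
    rw [hG, hn] at hsol'
    have h2 : noSolution 7920 11 8 2 ((11 - 1) / 2) 45 88 = true := by decide +kernel
    simp [h2] at hsol'
  · have : c * e = 5 := by omega
    rcases hel with rfl | rfl | rfl <;> omega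

theorem card_normalizer_eleven (hG : Nat.card G = 7920) [Fact (Nat.Prime 11)] (P : Sylow 11 G) :
    Nat.card ↥(normalizer ((P : Subgroup G) : Set G)) = 55 := by
  have hP : Nat.card ↥(P : Subgroup G) = 11 := by
    simpa using card_sylow_eq (e := 1) (m := 720) (by rw [hG]; norm_num) (by norm_num) P
  obtain ⟨S⟩ := exists_csplit P hP
  obtain ⟨h1, h2⟩ := sylow_eleven hG P S
  rw [S.card_normalizer, h1, h2]

end CfsgLib.M11Order
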