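import Mathlib.GroupTheory.Sylow
import Mathlib.GroupTheory.Perm.Cycle.Type
import Mathlib.Tactic

/-!
A group of order 7920 with the same numbers of elements of equal order as M11 is simple.
-/

set_option autoImplicit false

namespace CfsgLib.M11Order.Nse

open Subgroup

universe u

variable {G : Type u} [Group G] [Finite G]

theorem end_pow {α : Type*} (f : Function.End α) (k : ℕ) : f ^ k = f^[k] :=
  hom_coe_pow (fun g : Function.End α => g) rfl (fun _ _ => rfl) f k

/-- Elements of order at least 3 come in inverse pairs. -/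
theorem even_card_orderOf {n : ℕ} (hn : 3 ≤ n) : Even (Nat.card {g : G // orderOf g = n}) := by
  classical
  letI := Fintype.ofFinite {g : G // orderOf g = n}
  let f : {g : G // orderOf g = n} → {g : G // orderOf g = n} := fun g =>
    ⟨(g : G)⁻¹, by rw [orderOf_inv]; exact g.2⟩
  have h := Equiv.Perm.card_fixedPoints_modEq (f := f) (p := 2) (n := 1)
    (funext fun g => Subtype.ext (inv_inv _))
  have h0 : Fintype.card (Function.fixedPoints f) = 0 := by
    rw [Fintype.card_eq_zero_iff]
    refine ⟨fun g => ?_⟩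
    have e : ((g.1 : G))⁻¹ = (g.1 : G) := congrArg Subtype.val g.2
    have h2 : orderOf (g.1 : G) ∣ 2 := orderOf_dvd_of_pow_eq_one (by rw [pow_two]; nth_rw 1 [← e]; exact inv_mul_cancel _)
    have := Nat.le_of_dvd two_pos h2
    have := g.1.2
    omega
  rw [h0] at h
  rw [Nat.card_eq_fintype_card, Nat.even_iff]
  exact h

/-- The elements of prime order `p` when the Sylow subgroups have order `p`. -/
theorem card_orderOf_prime (p : ℕ) [hp : Fact p.Prime] (hd : p ∣ Nat.card G)
    (hsq : ¬ p * p ∣ Nat.card G) :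
    Nat.card {g : G // orderOf g = p} = (p - 1) * Nat.card (Sylow p G) := by
  classical
  have hP : ∀ P : Sylow p G, Nat.card (P : Subgroup G) = p := by
    intro P
    obtain ⟨k, hk⟩ := IsPGroup.iff_card.1 P.isPGroup'
    have h1 : p ∣ Nat.card (P : Subgroup G) := Sylow.dvd_card_of_dvd_card P hd
    have h2 : Nat.card (P : Subgroup G) ∣ Nat.card G := Subgroup.card_subgroup_dvd_card _
    have hk1 : k = 1 := by
      rcases Nat.lt_trichotomy k 1 with h | h | h
      · exfalso
        obtain rfl : k = 0 := by omega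
        rw [hk, pow_zero] at h1
        exact hp.out.not_dvd_one h1
      · exact h
      · exfalso
        refine hsq (dvd_trans ?_ (hk ▸ h2))
        rw [← pow_two]
        exact pow_dvd_pow p h
    rw [hk, hk1, pow_one]
  have hgen : ∀ g : G, orderOf g = p → ∀ P : Sylow p G, g ∈ (P : Subgroup G) → zpowers g = (P : Subgroup G) :=
    fun g hg P hgP => Subgroup.eq_of_le_of_card_ge (zpowers_le.2 hgP) (by rw [hP, Nat.card_zpowers, hg])
  have hex : ∀ g : {g : G // orderOf g = p}, ∃ P : Sylow p G, (g : G) ∈ (P : Subgroup G) := by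
    intro g
    obtain ⟨P, hle⟩ := (IsPGroup.of_card (n := 1)
      (by rw [Nat.card_zpowers, g.2, pow_one]) : IsPGroup p ↥(zpowers (g : G))).exists_le_sylow
    exact ⟨P, hle (mem_zpowers _)⟩
  choose f hf using hex
  have hfib : ∀ P : Sylow p G, Nat.card {g : {g : G // orderOf g = p} // f g = P} = p - 1 := by
    intro P
    have e : {g : {g : G // orderOf g = p} // f g = P} ≃ {x : ↥(P : Subgroup G) // x ≠ 1} :=
      { toFun := fun g => ⟨⟨(g.1 : G), by
          have h := hf g.1; rwa [g.2] at h⟩, fun h => by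
          have := g.1.2
          rw [show (g.1 : G) = 1 from congrArg Subtype.val h, orderOf_one] at this
          exact hp.out.one_lt.ne this⟩
        invFun := fun x => ⟨⟨(x.1 : G), by
            have hd' : orderOf (x.1 : G) ∣ p := (Subgroup.orderOf_dvd_natCard _ x.1.2).trans (dvd_of_eq (hP P))
            exact ((Nat.dvd_prime hp.out).1 hd').resolve_left fun h => x.2 (Subtype.ext (orderOf_eq_one_iff.1 h))⟩,
          by
            have hd' : orderOf (x.1 : G) ∣ p := (Subgroup.orderOf_dvd_natCard _ x.1.2).trans (dvd_of_eq (hP P))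
            have ho := ((Nat.dvd_prime hp.out).1 hd').resolve_left fun h => x.2 (Subtype.ext (orderOf_eq_one_iff.1 h))
            exact Sylow.ext ((hgen _ ho _ (hf ⟨_, ho⟩)).symm.trans (hgen _ ho P x.1.2))⟩
        left_inv := fun g => rfl
        right_inv := fun x => rfl }
    letI := Fintype.ofFinite ↥(P : Subgroup G)
    rw [Nat.card_congr e, Nat.card_eq_fintype_card, Fintype.card_subtype_compl, Fintype.card_subtype_eq,
      ← Nat.card_eq_fintype_card, hP]
  letI := Fintype.ofFinite (Sylow p G)
  rw [← Nat.card_congr (Equiv.sigmaFiberEquiv f), Nat.card_sigma, Finset.sum_congr rfl fun P _ => hfib P,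
    Finset.sum_const, Finset.card_univ, smul_eq_mul, mul_comm, Nat.card_eq_fintype_card]

/-- The possible values. -/
def values : Set ℕ := {1, 165, 440, 990, 1584, 1320, 1980, 1440}

theorem card_sylow_normalizer {p : ℕ} [Fact p.Prime] (P : Sylow p G) :
    Nat.card ↥(normalizer ((P : Subgroup G) : Set G)) * Nat.card (Sylow p G) = Nat.card G := by
  have h2 : Nat.card (Sylow p G) = (normalizer ((P : Subgroup G) : Set G)).index :=
    Sylow.card_eq_index_normalizer P
  rw [h2, Subgroup.card_mul_index]

variable (hG : Nat.card G = 7920)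
  (hnse : {c : ℕ | 0 < c ∧ ∃ n : ℕ, c = Nat.card {g : G // orderOf g = n}} = values)

include hnse in
theorem value_mem {n : ℕ} (h : 0 < Nat.card {g : G // orderOf g = n}) :
    Nat.card {g : G // orderOf g = n} ∈ values :=
  hnse ▸ ⟨h, n, rfl⟩

include hG hnse in
theorem card_two : Nat.card {g : G // orderOf g = 2} = 165 := by
  obtain ⟨-, n, hn⟩ : (165 : ℕ) ∈ {c : ℕ | 0 < c ∧ ∃ n : ℕ, c = Nat.card {g : G // orderOf g = n}} := by
    rw [hnse]; simp [values]
  rcases Nat.lt_or_ge n 3 with h3 | h3
  · interval_cases n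
    · have : IsEmpty {g : G // orderOf g = 0} := ⟨fun g => (orderOf_pos g.1).ne' g.2⟩
      rw [Nat.card_of_isEmpty] at hn
      omega
    · have hsub : Subsingleton {g : G // orderOf g = 1} :=
        ⟨fun a b => Subtype.ext ((orderOf_eq_one_iff.1 a.2).trans (orderOf_eq_one_iff.1 b.2).symm)⟩
      have := Finite.card_le_one_iff_subsingleton.2 hsub
      omega
    · exact hn.symm
  · have := even_card_orderOf (G := G) h3
    rw [← hn, Nat.even_iff] at this
    omega

include hG hnse in
theorem card_sylow_eleven [Fact (Nat.Prime 11)] :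
    Nat.card (Sylow 11 G) = 144 ∧ Nat.card {g : G // orderOf g = 11} = 1440 := by
  have h := card_orderOf_prime (G := G) 11 (by rw [hG]; norm_num) (by rw [hG]; norm_num)
  have hd : Nat.card (Sylow 11 G) ∣ 720 := by
    obtain ⟨P⟩ := (inferInstance : Nonempty (Sylow 11 G))
    have h1 := P.card_dvd_index
    have h2 : (P : Subgroup G).index ∣ 720 := by
      have h3 := Subgroup.card_mul_index (P : Subgroup G)
      have h4 : 11 ∣ Nat.card (P : Subgroup G) := Sylow.dvd_card_of_dvd_card P (by rw [hG]; norm_num)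
      refine Nat.dvd_of_mul_dvd_mul_left (by norm_num : 0 < 11) ?_
      rw [show 11 * 720 = 7920 by norm_num, ← hG, ← h3]
      exact Nat.mul_dvd_mul h4 dvd_rfl
    exact h1.trans h2
  have hm : Nat.card (Sylow 11 G) % 11 = 1 := card_sylow_modEq_one 11 G
  have hv := value_mem hnse (n := 11) (by rw [h]; exact Nat.mul_pos (by norm_num) Nat.card_pos)
  rw [h] at hv ⊢
  simp only [values, Set.mem_insert_iff, Set.mem_singleton_iff] at hv
  have hle := Nat.le_of_dvd (by norm_num) hd
  have hd' := Nat.mod_eq_zero_of_dvd hd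
  refine ⟨?_, ?_⟩ <;> omega

include hG hnse in
theorem card_sylow_five [Fact (Nat.Prime 5)] :
    Nat.card (Sylow 5 G) = 396 ∧ Nat.card {g : G // orderOf g = 5} = 1584 := by
  have h := card_orderOf_prime (G := G) 5 (by rw [hG]; norm_num) (by rw [hG]; norm_num)
  have hm : Nat.card (Sylow 5 G) % 5 = 1 := card_sylow_modEq_one 5 G
  have hv := value_mem hnse (n := 5) (by rw [h]; exact Nat.mul_pos (by norm_num) Nat.card_pos)
  rw [h] at hv ⊢
  simp only [values, Set.mem_insert_iff, Set.mem_singleton_iff] at hv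
  obtain ⟨P⟩ := (inferInstance : Nonempty (Sylow 5 G))
  have hd : Nat.card (Sylow 5 G) ∣ 7920 := hG ▸ Dvd.intro_left _ (card_sylow_normalizer P)
  have hd' := Nat.mod_eq_zero_of_dvd hd
  refine ⟨?_, ?_⟩ <;> omega

include hG hnse in
theorem eq_one_of_commute {x u : G} (hx : orderOf x = 11) (hu : orderOf u ∣ 5) (hc : x * u = u * x) :
    u = 1 := by
  haveI : Fact (Nat.Prime 11) := ⟨by norm_num⟩
  haveI : Fact (Nat.Prime 5) := ⟨by norm_num⟩
  rcases (Nat.dvd_prime (show Nat.Prime 5 by norm_num)).1 hu with h | h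
  · exact orderOf_eq_one_iff.1 h
  exfalso
  obtain ⟨P, hP⟩ := (IsPGroup.of_card (n := 1)
    (by rw [Nat.card_zpowers, h, pow_one]) : IsPGroup 5 ↥(zpowers u)).exists_le_sylow
  have hP5 : Nat.card (P : Subgroup G) = 5 := by
    obtain ⟨k, hk⟩ := IsPGroup.iff_card.1 P.isPGroup'
    have h1 : 5 ^ k ∣ 7920 := hG ▸ hk ▸ Subgroup.card_subgroup_dvd_card _
    have h2 := Subgroup.card_dvd_of_le hP
    rw [Nat.card_zpowers, h] at h2
    rcases Nat.lt_or_ge k 2 with hk2 | hk2
    · interval_cases k
      · rw [hk] at h2; norm_num at h2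
      · rw [hk]; norm_num
    · have := (pow_dvd_pow 5 hk2).trans h1
      norm_num at this
  have he : zpowers u = (P : Subgroup G) :=
    Subgroup.eq_of_le_of_card_ge hP (by rw [hP5, Nat.card_zpowers, h])
  have hxN : x ∈ normalizer ((P : Subgroup G) : Set G) := by
    rw [← he]
    refine Subgroup.centralizer_le_normalizer _ ?_
    rw [mem_centralizer_iff]
    intro y hy
    obtain ⟨k, rfl⟩ := mem_zpowers_iff.1 hy
    exact ((Commute.zpow_right (show Commute x u from hc) k).eq).symm
  have hd := Subgroup.orderOf_dvd_natCard _ hxN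
  have hN := card_sylow_normalizer P
  rw [(card_sylow_five hG hnse).1, hG] at hN
  rw [hx, show Nat.card ↥(normalizer ((P : Subgroup G) : Set G)) = 20 by omega] at hd
  norm_num at hd

/-- The action by conjugation on a normal subgroup, modulo a prime. -/
theorem card_fixed_modEq {p : ℕ} [Fact p.Prime] {N : Subgroup G} (hN : N.Normal) {x : G}
    (hx : x ^ p = 1) :
    Nat.card {n : N // x * (n : G) = (n : G) * x} ≡ Nat.card N [MOD p] := by
  classical
  letI := Fintype.ofFinite N
  let f : N → N := fun n => ⟨x * (n : G) * x⁻¹, hN.conj_mem _ n.2 x⟩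
  have hit : ∀ (k : ℕ) (n : N), ((f^[k] n : N) : G) = x ^ k * (n : G) * (x ^ k)⁻¹ := by
    intro k
    induction k with
    | zero => intro n; simp
    | succ k ih =>
      intro n
      rw [Function.iterate_succ_apply', show ((f (f^[k] n) : N) : G) = x * (f^[k] n : G) * x⁻¹ from rfl,
        ih, pow_succ']
      group
  have h := Equiv.Perm.card_fixedPoints_modEq (f := f) (p := p) (n := 1) (funext fun n => Subtype.ext (by
    rw [pow_one]; erw [congrFun (end_pow f p) n]; rw [hit, hx]; simp; rfl))
  rw [Nat.card_eq_fintype_card, Nat.card_eq_fintype_card]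
  refine Eq.trans ?_ h.symm
  congr 1
  refine Fintype.card_congr (Equiv.subtypeEquivRight fun n => ?_)
  simp only [Function.mem_fixedPoints, Function.IsFixedPt, f, Subtype.ext_iff]
  exact mul_inv_eq_iff_eq_mul.symm

include hG hnse in
theorem fixed_eleven {N : Subgroup G} (h11 : ¬ 11 ∣ Nat.card N) {x : G} (hx : orderOf x = 11) (n : N)
    (hc : x * (n : G) = (n : G) * x) : n = 1 := by
  haveI : Fact (Nat.Prime 11) := ⟨by norm_num⟩
  obtain ⟨P, hP⟩ := (IsPGroup.of_card (n := 1)
    (by rw [Nat.card_zpowers, hx, pow_one]) : IsPGroup 11 ↥(zpowers x)).exists_le_sylow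
  have hP11 : Nat.card (P : Subgroup G) = 11 := by
    obtain ⟨k, hk⟩ := IsPGroup.iff_card.1 P.isPGroup'
    have h1 : 11 ^ k ∣ 7920 := hG ▸ hk ▸ Subgroup.card_subgroup_dvd_card _
    have h2 := Subgroup.card_dvd_of_le hP
    rw [Nat.card_zpowers, hx] at h2
    rcases Nat.lt_or_ge k 2 with hk2 | hk2
    · interval_cases k
      · rw [hk] at h2; norm_num at h2
      · rw [hk]; norm_num
    · have := (pow_dvd_pow 11 hk2).trans h1
      norm_num at this
  have he : zpowers x = (P : Subgroup G) :=
    Subgroup.eq_of_le_of_card_ge hP (by rw [hP11, Nat.card_zpowers, hx])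
  have hnN : (n : G) ∈ normalizer ((P : Subgroup G) : Set G) := by
    rw [← he]
    refine Subgroup.centralizer_le_normalizer _ ?_
    rw [mem_centralizer_iff]
    intro y hy
    obtain ⟨k, rfl⟩ := mem_zpowers_iff.1 hy
    exact (Commute.zpow_left (show Commute x (n : G) from hc) k).eq
  have hN := card_sylow_normalizer P
  rw [(card_sylow_eleven hG hnse).1, hG] at hN
  have hd : orderOf (n : G) ∣ 5 * 11 := by
    have := Subgroup.orderOf_dvd_natCard _ hnN
    rwa [show Nat.card ↥(normalizer ((P : Subgroup G) : Set G)) = 5 * 11 by omega] at this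
  have hd2 : orderOf (n : G) ∣ Nat.card N := Subgroup.orderOf_dvd_natCard _ n.2
  have hco : (orderOf (n : G)).Coprime 11 :=
    ((Nat.Prime.coprime_iff_not_dvd (by norm_num)).2 fun h => h11 (h.trans hd2)).symm
  exact Subtype.ext (eq_one_of_commute hG hnse hx (hco.dvd_of_dvd_mul_right hd) hc)

include hG hnse in
theorem eleven_dvd {N : Subgroup G} (hN : N.Normal) (hne : N ≠ ⊥) : 11 ∣ Nat.card N := by
  classical
  by_contra h11
  haveI : Fact (Nat.Prime 11) := ⟨by norm_num⟩
  haveI : Fact (Nat.Prime 5) := ⟨by norm_num⟩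
  have hd : Nat.card N ∣ 7920 := hG ▸ Subgroup.card_subgroup_dvd_card N
  have hd720 : Nat.card N ∣ 720 := by
    have h : Nat.card N ∣ 11 * 720 := hd
    exact (((Nat.Prime.coprime_iff_not_dvd (by norm_num)).2 h11).symm).dvd_of_dvd_mul_left h
  obtain ⟨x, hx⟩ := exists_prime_orderOf_dvd_card' (G := G) 11 (by rw [hG]; norm_num)
  have h1 : Nat.card {n : N // x * (n : G) = (n : G) * x} = 1 := by
    rw [Nat.card_eq_one_iff_unique]
    exact ⟨⟨fun a b => Subtype.ext ((fixed_eleven hG hnse h11 hx a.1 a.2).trans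
      (fixed_eleven hG hnse h11 hx b.1 b.2).symm)⟩, ⟨⟨1, by simp⟩⟩⟩
  have hmod := card_fixed_modEq (p := 11) hN (x := x) (hx ▸ pow_orderOf_eq_one x)
  rw [h1, Nat.ModEq] at hmod
  have hle := Nat.le_of_dvd (by norm_num) hd720
  have h0 := Nat.mod_eq_zero_of_dvd hd720
  have hN1 : Nat.card N ≠ 1 := fun h => hne (Subgroup.eq_bot_of_card_eq N h)
  have hdiv : ∀ d ∈ Nat.divisors 720, d % 11 = 1 → d = 1 ∨ d = 12 ∨ d = 45 ∨ d = 144 := by decide +kernel
  obtain hc | hc | hc : Nat.card N = 12 ∨ Nat.card N = 45 ∨ Nat.card N = 144 :=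
    (hdiv _ (Nat.mem_divisors.2 ⟨hd720, by norm_num⟩) (by omega)).resolve_left hN1
  · -- order 12
    have hcnt : ∀ q : ℕ, q.Prime → q ∣ 12 → 11 ≤ Nat.card {n : N // orderOf n = q} := by
      intro q hq hqd
      haveI : Fact q.Prime := ⟨hq⟩
      letI := Fintype.ofFinite {n : N // orderOf n = q}
      obtain ⟨m, hm⟩ := exists_prime_orderOf_dvd_card' (G := N) q (hc ▸ hqd)
      have hne' : 0 < Nat.card {n : N // orderOf n = q} := by
        haveI : Nonempty {n : N // orderOf n = q} := ⟨⟨m, hm⟩⟩
        exact Nat.card_pos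
      have hconj : ∀ n : N, orderOf (⟨x * (n : G) * x⁻¹, hN.conj_mem _ n.2 x⟩ : N) = orderOf n := fun n => by
        rw [← Subgroup.orderOf_coe, ← Subgroup.orderOf_coe]
        exact (MulAut.conj x).orderOf_eq (n : G)
      let f : {n : N // orderOf n = q} → {n : N // orderOf n = q} := fun n =>
        ⟨⟨x * (n.1 : G) * x⁻¹, hN.conj_mem _ n.1.2 x⟩, (hconj n.1).trans n.2⟩
      have hit : ∀ (k : ℕ) (n : {n : N // orderOf n = q}),
          (((f^[k] n).1 : N) : G) = x ^ k * (n.1 : G) * (x ^ k)⁻¹ := by
        intro k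
        induction k with
        | zero => intro n; simp
        | succ k ih =>
          intro n
          rw [Function.iterate_succ_apply',
            show ((f (f^[k] n)).1 : G) = x * ((f^[k] n).1 : G) * x⁻¹ from rfl, ih, pow_succ']
          group
      have h := Equiv.Perm.card_fixedPoints_modEq (f := f) (p := 11) (n := 1) (funext fun n => by
        refine Subtype.ext (Subtype.ext ?_)
        rw [pow_one]
        erw [congrFun (end_pow f 11) n]
        rw [hit, ← hx, pow_orderOf_eq_one]
        simp
        rfl)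
      have h0' : Fintype.card (Function.fixedPoints f) = 0 := by
        rw [Fintype.card_eq_zero_iff]
        refine ⟨fun n => ?_⟩
        have e : x * ((n.1).1 : G) * x⁻¹ = ((n.1).1 : G) := congrArg (fun m => ((m.1 : N) : G)) n.2
        have hq1 := n.1.2
        rw [fixed_eleven hG hnse h11 hx n.1.1 (mul_inv_eq_iff_eq_mul.1 e), orderOf_one] at hq1
        exact hq.one_lt.ne hq1
      rw [h0', ← Nat.card_eq_fintype_card, Nat.ModEq] at h
      omega
    have h2 := hcnt 2 Nat.prime_two (by norm_num)
    have h3 := hcnt 3 Nat.prime_three (by norm_num)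
    let g : {n : N // orderOf n = 2} ⊕ {n : N // orderOf n = 3} → N := Sum.elim Subtype.val Subtype.val
    have hinj : Function.Injective g := by
      rintro (a | a) (b | b) e <;> simp only [g, Sum.elim_inl, Sum.elim_inr] at e
      · rw [Subtype.ext e]
      · exact absurd (a.2.symm.trans (e ▸ b.2)) (by norm_num)
      · exact absurd (a.2.symm.trans (e ▸ b.2)) (by norm_num)
      · rw [Subtype.ext e]
    have := Nat.card_le_card_of_injective g hinj
    rw [Nat.card_sum, hc] at this
    omega
  · -- order 45: all elements of order 5 would lie in it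
    have hsub : ∀ u : G, orderOf u = 5 → u ∈ N := by
      intro u hu
      rw [← QuotientGroup.eq_one_iff, ← orderOf_eq_one_iff]
      have h5 : orderOf (u : G ⧸ N) ∣ 5 := orderOf_dvd_of_pow_eq_one (by
        rw [← QuotientGroup.mk_pow, ← hu, pow_orderOf_eq_one, QuotientGroup.mk_one])
      have hq : orderOf (u : G ⧸ N) ∣ 176 := by
        have hcq := Subgroup.card_eq_card_quotient_mul_card_subgroup N
        rw [hG, hc] at hcq
        have := orderOf_dvd_natCard (u : G ⧸ N)
        rwa [show Nat.card (G ⧸ N) = 176 by omega] at this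
      exact Nat.eq_one_of_dvd_coprimes (show Nat.Coprime 5 176 by norm_num) h5 hq
    have := Nat.card_le_card_of_injective (fun u : {g : G // orderOf g = 5} => (⟨u.1, hsub u.1 u.2⟩ : N))
      (fun a b e => Subtype.ext (congrArg (fun n : N => (n : G)) e))
    rw [(card_sylow_five hG hnse).2, hc] at this
    omega
  · -- order 144: too many elements of orders 10, 20
    let V : {g : G // orderOf g = 5} → Type u := fun u =>
      {n : N // u.1 * (n : G) = (n : G) * u.1 ∧ n ≠ 1}
    have hC : ∀ u : {g : G // orderOf g = 5}, 3 ≤ Nat.card (V u) := by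
      intro u
      have hm := card_fixed_modEq (p := 5) hN (x := u.1) ((congrArg (u.1 ^ ·) u.2).symm.trans (pow_orderOf_eq_one _))
      rw [hc, Nat.ModEq] at hm
      let ι : Option (V u) → {n : N // u.1 * (n : G) = (n : G) * u.1} := fun o =>
        o.elim ⟨1, by simp⟩ fun v => ⟨v.1, v.2.1⟩
      have hb : Function.Bijective ι := by
        constructor
        · rintro (_ | a) (_ | b) e
          · rfl
          · exact absurd (congrArg Subtype.val e).symm b.2.2
          · exact absurd (congrArg Subtype.val e) a.2.2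
          · exact congrArg some (Subtype.ext (congrArg (fun n : {n : N // u.1 * (n : G) = (n : G) * u.1} => n.1) e))
        · rintro ⟨n, hn⟩
          by_cases h : n = 1
          · exact ⟨none, Subtype.ext h.symm⟩
          · exact ⟨some ⟨n, hn, h⟩, rfl⟩
      rw [← Nat.card_congr (Equiv.ofBijective ι hb), Finite.card_option] at hm
      omega
    have key : ∀ (u : {g : G // orderOf g = 5}) (v : V u),
        (v.1 : G) ^ 4 = 1 ∧ (u.1 * (v.1 : G)) ^ 16 = u.1 ∧
          ¬ (u.1 * (v.1 : G)) ^ 5 = 1 ∧ ¬ (u.1 * (v.1 : G)) ^ 2 = 1 ∧ ¬ (u.1 * (v.1 : G)) ^ 11 = 1 := by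
      intro u v
      obtain ⟨n, hn, hn1⟩ := v
      obtain ⟨P, hP⟩ := (IsPGroup.of_card (n := 1)
        (by rw [Nat.card_zpowers, u.2, pow_one]) : IsPGroup 5 ↥(zpowers u.1)).exists_le_sylow
      have hP5 : Nat.card (P : Subgroup G) = 5 := by
        obtain ⟨k, hk⟩ := IsPGroup.iff_card.1 P.isPGroup'
        have h1 : 5 ^ k ∣ 7920 := hG ▸ hk ▸ Subgroup.card_subgroup_dvd_card _
        have h2 := Subgroup.card_dvd_of_le hP
        rw [Nat.card_zpowers, u.2] at h2
        rcases Nat.lt_or_ge k 2 with hk2 | hk2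
        · interval_cases k
          · rw [hk] at h2; norm_num at h2
          · rw [hk]; norm_num
        · have := (pow_dvd_pow 5 hk2).trans h1
          norm_num at this
      have he : zpowers u.1 = (P : Subgroup G) :=
        Subgroup.eq_of_le_of_card_ge hP (by rw [hP5, Nat.card_zpowers, u.2])
      have hnN : (n : G) ∈ normalizer ((P : Subgroup G) : Set G) := by
        rw [← he]
        refine Subgroup.centralizer_le_normalizer _ ?_
        rw [mem_centralizer_iff]
        intro y hy
        obtain ⟨k, rfl⟩ := mem_zpowers_iff.1 hy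
        exact (Commute.zpow_left (show Commute u.1 (n : G) from hn) k).eq
      have hNP := card_sylow_normalizer P
      rw [(card_sylow_five hG hnse).1, hG] at hNP
      have h20 : orderOf (n : G) ∣ 20 := by
        have := Subgroup.orderOf_dvd_natCard _ hnN
        rwa [show Nat.card ↥(normalizer ((P : Subgroup G) : Set G)) = 20 by omega] at this
      have h4 : orderOf (n : G) ∣ 4 := by
        have h144 : orderOf (n : G) ∣ 144 := hc ▸ Subgroup.orderOf_dvd_natCard _ n.2
        exact (Nat.dvd_gcd h20 h144 : _ ∣ Nat.gcd 20 144)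
      have hv4 : (n : G) ^ 4 = 1 := orderOf_dvd_iff_pow_eq_one.1 h4
      have hu5 : u.1 ^ 5 = 1 := (congrArg (u.1 ^ ·) u.2).symm.trans (pow_orderOf_eq_one _)
      have hcomm : Commute u.1 (n : G) := hn
      have hn1' : (n : G) ≠ 1 := fun h => hn1 (Subtype.ext h)
      have hu1 : u.1 ≠ 1 := fun h => by
        have := u.2
        rw [h, orderOf_one] at this
        norm_num at this
      refine ⟨hv4, ?_, ?_, ?_, ?_⟩ <;> rw [hcomm.mul_pow]
      · rw [show (16 : ℕ) = 4 * 4 by norm_num, pow_mul (n : G), hv4, one_pow, mul_one,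
          show (4 * 4 : ℕ) = 5 * 3 + 1 by norm_num, pow_succ, pow_mul, hu5, one_pow, one_mul]
      · rw [hu5, one_mul, show (5 : ℕ) = 4 + 1 by norm_num, pow_succ, hv4, one_mul]
        exact hn1'
      · intro e
        have : u.1 ^ 4 = 1 := by
          have e' : (u.1 * (n : G)) ^ 4 = 1 := by
            rw [show (4 : ℕ) = 2 * 2 by norm_num, pow_mul, hcomm.mul_pow, e, one_pow]
          rwa [hcomm.mul_pow, hv4, mul_one] at e'
        exact hu1 (by rwa [show u.1 ^ 5 = u.1 ^ 4 * u.1 from pow_succ u.1 4, this, one_mul] at hu5)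
      · intro e
        have : u.1 ^ 4 = 1 := by
          have e' : (u.1 * (n : G)) ^ 44 = 1 := by
            rw [show (44 : ℕ) = 11 * 4 by norm_num, pow_mul, hcomm.mul_pow, e, one_pow]
          rw [hcomm.mul_pow, show (44 : ℕ) = 4 * 11 by norm_num, pow_mul (n : G), hv4, one_pow, mul_one,
            show (4 * 11 : ℕ) = 5 * 8 + 4 by norm_num, pow_add, pow_mul, hu5, one_pow, one_mul] at e'
          exact e'
        exact hu1 (by rwa [show u.1 ^ 5 = u.1 ^ 4 * u.1 from pow_succ u.1 4, this, one_mul] at hu5)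
    let F : ({g : G // orderOf g = 2} ⊕ {g : G // orderOf g = 11}) ⊕
        ({g : G // orderOf g = 5} ⊕ ((u : {g : G // orderOf g = 5}) × V u)) → G :=
      Sum.elim (Sum.elim Subtype.val Subtype.val) (Sum.elim Subtype.val fun p => p.1.1 * (p.2.1 : G))
    have hne2 : ∀ {a b : ℕ}, a ≠ b → ∀ (g : {g : G // orderOf g = a}) (h : {g : G // orderOf g = b}),
        g.1 ≠ h.1 := fun hab g h e => hab (g.2.symm.trans (e ▸ h.2))
    have hneV : ∀ {a : ℕ}, a = 2 ∨ a = 5 ∨ a = 11 → ∀ (g : {g : G // orderOf g = a})
        (p : (u : {g : G // orderOf g = 5}) × V u), g.1 ≠ p.1.1 * (p.2.1 : G) := by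
      intro a ha g p e
      obtain ⟨-, -, k5, k2, k11⟩ := key p.1 p.2
      have hp := pow_orderOf_eq_one g.1
      rw [g.2, e] at hp
      rcases ha with rfl | rfl | rfl
      · exact k2 hp
      · exact k5 hp
      · exact k11 hp
    have hF : Function.Injective F := by
      rintro ((a | a) | (a | a)) ((b | b) | (b | b)) e <;>
        simp only [F, Sum.elim_inl, Sum.elim_inr] at e
      · rw [Subtype.ext e]
      · exact absurd e (hne2 (by norm_num) a b)
      · exact absurd e (hne2 (by norm_num) a b)
      · exact absurd e (hneV (by norm_num) a b)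
      · exact absurd e (hne2 (by norm_num) a b)
      · rw [Subtype.ext e]
      · exact absurd e (hne2 (by norm_num) a b)
      · exact absurd e (hneV (by norm_num) a b)
      · exact absurd e (hne2 (by norm_num) a b)
      · exact absurd e (hne2 (by norm_num) a b)
      · rw [Subtype.ext e]
      · exact absurd e (hneV (by norm_num) a b)
      · exact absurd e.symm (hneV (by norm_num) b a)
      · exact absurd e.symm (hneV (by norm_num) b a)
      · exact absurd e.symm (hneV (by norm_num) b a)
      · obtain ⟨u, v⟩ := a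
        obtain ⟨u', v'⟩ := b
        simp only at e
        obtain ⟨-, hu16, -⟩ := key u v
        obtain ⟨-, hu16', -⟩ := key u' v'
        rw [e, hu16'] at hu16
        obtain rfl : u = u' := Subtype.ext hu16.symm
        have : v = v' := Subtype.ext (Subtype.ext (mul_left_cancel e))
        rw [this]
    have hcard := Nat.card_le_card_of_injective F hF
    letI := Fintype.ofFinite {g : G // orderOf g = 5}
    have hsig : 3 * 1584 ≤ Nat.card ((u : {g : G // orderOf g = 5}) × V u) := by
      have h5 : Fintype.card {g : G // orderOf g = 5} = 1584 :=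
        Nat.card_eq_fintype_card.symm.trans (card_sylow_five hG hnse).2
      rw [Nat.card_sigma, mul_comm, ← h5, ← Finset.card_univ, ← smul_eq_mul, ← Finset.sum_const]
      exact Finset.sum_le_sum fun u _ => hC u
    rw [Nat.card_sum, Nat.card_sum, Nat.card_sum, card_two hG hnse, (card_sylow_eleven hG hnse).2,
      (card_sylow_five hG hnse).2, hG] at hcard
    omega

include hG hnse in
theorem isSimpleGroup : IsSimpleGroup G := by
  classical
  haveI : Fact (Nat.Prime 11) := ⟨by norm_num⟩
  haveI : Nontrivial G := Finite.one_lt_card_iff_nontrivial.1 (by omega)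
  refine { eq_bot_or_eq_top_of_normal := fun N hN => or_iff_not_imp_left.2 fun hne => ?_ }
  have h11 := eleven_dvd hG hnse hN hne
  obtain ⟨Q⟩ := (inferInstance : Nonempty (Sylow 11 N))
  have hfr := Sylow.normalizer_sup_eq_top Q
  set M := normalizer ((((Q : Subgroup N).map N.subtype : Subgroup G)) : Set G) with hM
  -- the image is a Sylow subgroup of `G`
  have hQ11 : Nat.card (Q : Subgroup N) = 11 := by
    obtain ⟨k, hk⟩ := IsPGroup.iff_card.1 Q.isPGroup'
    have h1 : 11 ∣ Nat.card (Q : Subgroup N) := Sylow.dvd_card_of_dvd_card Q h11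
    have h2 : 11 ^ k ∣ 7920 :=
      hk ▸ (Subgroup.card_subgroup_dvd_card _).trans (hG ▸ Subgroup.card_subgroup_dvd_card N)
    rcases Nat.lt_or_ge k 2 with hk2 | hk2
    · interval_cases k
      · rw [hk] at h1; norm_num at h1
      · rw [hk]; norm_num
    · have := (pow_dvd_pow 11 hk2).trans h2
      norm_num at this
  have hQG : Nat.card ((Q : Subgroup N).map N.subtype) = 11 := by
    rw [Subgroup.card_map_of_injective N.subtype_injective, hQ11]
  obtain ⟨P, hP⟩ := (IsPGroup.of_card (n := 1)
    (by rw [hQG, pow_one]) : IsPGroup 11 ↥((Q : Subgroup N).map N.subtype)).exists_le_sylow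
  have hP11 : Nat.card (P : Subgroup G) = 11 := by
    obtain ⟨k, hk⟩ := IsPGroup.iff_card.1 P.isPGroup'
    have h1 := Subgroup.card_dvd_of_le hP
    rw [hQG] at h1
    have h2 : 11 ^ k ∣ 7920 := hG ▸ hk ▸ Subgroup.card_subgroup_dvd_card _
    rcases Nat.lt_or_ge k 2 with hk2 | hk2
    · interval_cases k
      · rw [hk] at h1; norm_num at h1
      · rw [hk]; norm_num
    · have := (pow_dvd_pow 11 hk2).trans h2
      norm_num at this
  have heP : (Q : Subgroup N).map N.subtype = (P : Subgroup G) :=
    Subgroup.eq_of_le_of_card_ge hP (by rw [hQG, hP11])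
  have h55 : Nat.card M = 55 := by
    have := card_sylow_normalizer P
    rw [(card_sylow_eleven hG hnse).1, hG, ← heP, ← hM] at this
    omega
  -- `G = N M`
  have hidx : N.index ∣ 55 := by
    rw [← h55, ← Subgroup.relIndex_top_right, ← hfr, Subgroup.relIndex_sup_right]
    exact Subgroup.relIndex_dvd_card _ _
  have hci := Subgroup.card_mul_index N
  rw [hG] at hci
  have hle := Nat.le_of_dvd (by norm_num) hidx
  have hi0 := Nat.mod_eq_zero_of_dvd hidx
  have hi : N.index = 1 ∨ N.index = 5 := by
    have hdiv : ∀ d ∈ Nat.divisors 55, d = 1 ∨ d = 5 ∨ d = 11 ∨ d = 55 := by decide +kernel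
    obtain h | h | h | h := hdiv _ (Nat.mem_divisors.2 ⟨hidx, by norm_num⟩)
    · exact Or.inl h
    · exact Or.inr h
    · rw [h] at hci; rw [show Nat.card N = 720 by omega] at h11; norm_num at h11
    · rw [h] at hci; rw [show Nat.card N = 144 by omega] at h11; norm_num at h11
  rcases hi with hi | hi
  · exact Subgroup.index_eq_one.1 hi
  exfalso
  rw [hi] at hci
  have hmem : ∀ g : G, orderOf g = 2 ∨ orderOf g = 11 → g ∈ N := by
    intro g hg
    rw [← QuotientGroup.eq_one_iff, ← orderOf_eq_one_iff]
    have h5 : orderOf (g : G ⧸ N) ∣ 5 := hi ▸ Subgroup.index_eq_card N ▸ orderOf_dvd_natCard _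
    have hd : orderOf (g : G ⧸ N) ∣ orderOf g := orderOf_dvd_of_pow_eq_one (by
      rw [← QuotientGroup.mk_pow, pow_orderOf_eq_one, QuotientGroup.mk_one])
    rcases hg with e | e <;> rw [e] at hd
    · exact Nat.eq_one_of_dvd_coprimes (show Nat.Coprime 5 2 by norm_num) h5 hd
    · exact Nat.eq_one_of_dvd_coprimes (show Nat.Coprime 5 11 by norm_num) h5 hd
  let F : {g : G // orderOf g = 2} ⊕ {g : G // orderOf g = 11} → N :=
    Sum.elim (fun g => ⟨g.1, hmem _ (Or.inl g.2)⟩) (fun g => ⟨g.1, hmem _ (Or.inr g.2)⟩)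
  have hF : Function.Injective F := by
    rintro (a | a) (b | b) e <;> simp only [F, Sum.elim_inl, Sum.elim_inr, Subtype.mk.injEq] at e
    · rw [Subtype.ext e]
    · exact absurd (a.2.symm.trans (e ▸ b.2)) (by norm_num)
    · exact absurd (a.2.symm.trans (e ▸ b.2)) (by norm_num)
    · rw [Subtype.ext e]
  have := Nat.card_le_card_of_injective F hF
  rw [Nat.card_sum, card_two hG hnse, (card_sylow_eleven hG hnse).2] at this
  omega

end CfsgLib.M11Order.Nse
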