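import Cfsg.Agent.Lib.Sporadic.M11Order.Graph
import Mathlib.NumberTheory.Real.Irrational

/-!
No graph with parameters `(55, 18, 1, 8)` arises from a group of order 7920: the two non-principal
eigenvalues would be irrational conjugates of different multiplicity.
-/

set_option autoImplicit false

open scoped Pointwise

namespace CfsgLib.M11Order

open Subgroup SmallOrder

universe u

/-- No symmetric 0-1 matrix on 55 points with `A * A + 7 A = 10 + 8 J`, row sums 18, trace 0. -/
theorem no_conference {ι : Type*} [Fintype ι] [DecidableEq ι] (hι : Fintype.card ι = 55)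
    (A : Matrix ι ι ℝ) (hrow : ∀ i, ∑ j, A i j = 18) (hcol : ∀ j, ∑ i, A i j = 18)
    (hdiag : ∀ i, A i i = 0)
    (heq : A * A + (7 : ℝ) • A = (10 : ℝ) • (1 : Matrix ι ι ℝ) + (8 : ℝ) • Matrix.of fun _ _ => (1 : ℝ)) :
    False := by
  set J : Matrix ι ι ℝ := Matrix.of fun _ _ => (1 : ℝ) with hJ
  have hAJ : A * J = (18 : ℝ) • J := by
    ext i j
    simp [Matrix.mul_apply, hJ, hrow]
  have hJA : J * A = (18 : ℝ) • J := by
    ext i j
    simp [Matrix.mul_apply, hJ, hcol]
  have hJJ : J * J = (55 : ℝ) • J := by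
    ext i j
    simp [Matrix.mul_apply, hJ, hι]
  set s : ℝ := Real.sqrt 89 with hs
  have hs2 : s * s = 89 := Real.mul_self_sqrt (by norm_num)
  have hs0 : s ≠ 0 := by positivity
  set c : ℝ := (43 - s) / 55 with hc
  have hc2 : 55 * (c * c) - 86 * c + 32 = 0 := by
    rw [hc]
    field_simp
    linear_combination hs2
  set M : Matrix ι ι ℝ := (2 : ℝ) • A + (7 : ℝ) • 1 - c • J with hM
  have hA2 : A * A = (10 : ℝ) • (1 : Matrix ι ι ℝ) + (8 : ℝ) • J - (7 : ℝ) • A :=
    eq_sub_of_add_eq heq
  have hMM : M * M = (89 : ℝ) • (1 : Matrix ι ι ℝ) := by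
    have h : M * M = (89 : ℝ) • (1 : Matrix ι ι ℝ) + (55 * (c * c) - 86 * c + 32) • J := by
      rw [hM]
      simp only [mul_sub, sub_mul, mul_add, add_mul, smul_mul_assoc, mul_smul_comm, smul_smul,
        mul_one, one_mul, hAJ, hJA, hJJ, hA2, smul_add, smul_sub]
      module
    rw [h, hc2, zero_smul, add_zero]
  clear_value M
  set E : Matrix ι ι ℝ := (1 / 2 : ℝ) • (1 : Matrix ι ι ℝ) + (1 / (2 * s)) • M with hE
  have hEE : E * E = E := by
    rw [hE]
    simp only [mul_add, add_mul, smul_mul_assoc, mul_smul_comm, smul_smul, mul_one, one_mul, hMM,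
      smul_add]
    match_scalars
    · field_simp
      linear_combination -hs2
    · field_simp
      norm_num
  have hproj : IsIdempotentElem (Matrix.toLin' E) := by
    show Matrix.toLin' E ∘ₗ Matrix.toLin' E = Matrix.toLin' E
    rw [← Matrix.toLin'_mul, hEE]
  have htr := (LinearMap.IsIdempotentElem.isProj_range _ hproj).trace
  rw [Matrix.trace_toLin'_eq] at htr
  have htrM : M.trace = 385 - 55 * c := by
    rw [hM]
    simp [Matrix.trace, hdiag, hJ, hι]
    norm_num
  rw [hE, Matrix.trace_add, Matrix.trace_smul, Matrix.trace_smul, Matrix.trace_one, htrM, hι] at htr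
  set f := Module.finrank ℝ (LinearMap.range (Matrix.toLin' E))
  have h171 : ((f : ℝ) - 28) * s = 171 := by
    rw [← htr, hc]
    simp only [smul_eq_mul, Nat.cast_ofNat]
    field_simp
    linear_combination (0 : ℝ) * hs2
  have hirr : Irrational s := by
    rw [hs]
    exact_mod_cast (show Nat.Prime 89 by norm_num).irrational_sqrt
  by_cases hf : f = 28
  · rw [hf] at h171
    norm_num at h171
  · refine hirr ⟨171 / ((f : ℚ) - 28), ?_⟩
    have h28 : (f : ℝ) - 28 ≠ 0 := by
      rw [sub_ne_zero]
      exact_mod_cast hf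
    push_cast
    rw [div_eq_iff h28, mul_comm, h171]

variable {G : Type u} [Group G] [Fintype G] [IsSimpleGroup G] [Fact (Nat.Prime 3)]

namespace Frame

variable (F : Frame G)

/-- The normaliser of a vertex is transitive on the vertices not adjacent to it. -/
theorem nonadj_transitive (hG : Nat.card G = 7920) {S T : Sylow 3 G} (hS : F.Q ≠ S)
    (hSa : ¬ Adj F.Q S) (hT : F.Q ≠ T) (hTa : ¬ Adj F.Q T) :
    ∃ g : G, g • F.Q = F.Q ∧ g • S = T := by
  classical
  set N := normalizer ((F.Q : Subgroup G) : Set G)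
  set U := ((Finset.univ.erase F.Q) \ nbr F.Q) with hU
  have hUc : U.card = 36 := by
    rw [hU, Finset.card_sdiff_of_subset fun P hP => Finset.mem_erase.2
        ⟨(mem_nbr.1 hP).1.symm, Finset.mem_univ _⟩,
      Finset.card_erase_of_mem (Finset.mem_univ _), Finset.card_univ, ← Nat.card_eq_fintype_card,
      card_sylow hG, F.card_nbr_Q hG]
  have hmemU : ∀ P, P ∈ U ↔ F.Q ≠ P ∧ ¬ Adj F.Q P := fun P => by
    simp [hU, mem_nbr, eq_comm]
  have hfix : ∀ g : N, (g : G) • F.Q = F.Q := fun g => Sylow.smul_eq_iff_mem_normalizer.2 g.2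
  have hsub : MulAction.orbit N S ⊆ (U : Set (Sylow 3 G)) := by
    rintro _ ⟨g, rfl⟩
    rw [Finset.mem_coe, hmemU]
    refine ⟨fun e => hS (smul_left_cancel (g : G) ((hfix g).trans e)), fun h => hSa ?_⟩
    have h' := h.smul (g : G)⁻¹
    have e1 : (g : G)⁻¹ • F.Q = F.Q := by
      conv_lhs => rw [← hfix g, inv_smul_smul]
    rw [e1] at h'
    simpa [Subgroup.smul_def] using h'
  have hst : Nat.card (MulAction.stabilizer N S) ≤ 4 := by
    refine le_trans (le_of_eq ?_) (card_stabilizer_nonadj hG hS hSa)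
    have : MulAction.stabilizer N S =
        (N ⊓ normalizer ((S : Subgroup G) : Set G)).subgroupOf N := by
      ext g
      rw [MulAction.mem_stabilizer_iff, Subgroup.mem_subgroupOf, Subgroup.mem_inf]
      exact ⟨fun e => ⟨g.2, Sylow.smul_eq_iff_mem_normalizer.1 e⟩,
        fun e => Sylow.smul_eq_iff_mem_normalizer.2 e.2⟩
    rw [this, Nat.card_congr (Subgroup.subgroupOfEquivOfLe inf_le_left).toEquiv]
  have hm := Subgroup.card_mul_index (MulAction.stabilizer N S)
  rw [MulAction.index_stabilizer, card_normalizer_three hG F.Q] at hm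
  have hle := Set.ncard_le_ncard hsub
  rw [Set.ncard_coe_finset, hUc] at hle
  have h36 : 36 ≤ (MulAction.orbit N S).ncard := by
    have := Nat.mul_le_mul_right (MulAction.orbit N S).ncard hst
    omega
  have heq : MulAction.orbit N S = (U : Set (Sylow 3 G)) :=
    Set.eq_of_subset_of_ncard_le hsub (by rw [Set.ncard_coe_finset, hUc]; exact h36)
  obtain ⟨g, hg⟩ : T ∈ MulAction.orbit N S := heq ▸ Finset.mem_coe.2 ((hmemU T).2 ⟨hT, hTa⟩)
  exact ⟨g, hfix g, hg⟩

theorem not_neither (hG : Nat.card G = 7920) (ha : ¬ F.Alpha) (hb : ¬ F.Beta) : False := by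
  classical
  have hQR : nbr F.Q ∩ nbr F.R = {F.R'} := by
    ext S
    rw [Finset.mem_inter, mem_nbr, mem_nbr, Finset.mem_singleton]
    constructor
    · rintro ⟨h1, h2⟩
      obtain ⟨x, hx, rfl | rfl⟩ := (F.adj_iff hG S).1 h1
      · exact absurd ((F.adj_OO hG (one_mem _) hx).1 (by rwa [one_smul])).2 ha
      · rcases (F.adj_OO' hG (one_mem _) hx).1 (by rwa [one_smul]) with e | e
        · rw [← e, one_smul]
        · exact absurd e hb
    · rintro rfl
      exact ⟨F.adj_R', F.hRR', F.t, F.iR, F.iR'⟩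
  let c : Sylow 3 G → Sylow 3 G → ℕ := fun S T => (nbr S ∩ nbr T).card
  have hadj : ∀ S T, Adj S T → c S T = 1 := by
    intro S T h
    obtain ⟨g, rfl, rfl⟩ := F.arc_transitive hG h
    simp only [c]
    rw [nbr_smul, nbr_smul, ← Finset.smul_finset_inter, hQR, Finset.card_smul_finset,
      Finset.card_singleton]
  -- non-adjacent pairs have eight common neighbours
  have hsum : ∑ T, c F.Q T = 324 := by
    have h1 : ∀ T, c F.Q T = ∑ P ∈ nbr F.Q, if Adj P T then 1 else 0 := by
      intro T
      simp only [c, Finset.sum_boole, Nat.cast_id]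
      congr 1
      ext P
      simp only [Finset.mem_inter, Finset.mem_filter, mem_nbr]
      exact and_congr_right fun _ => adj_comm
    simp only [h1]
    rw [Finset.sum_comm]
    have h2 : ∀ P ∈ nbr F.Q, (∑ T, if Adj P T then 1 else 0) = 18 := by
      intro P _
      rw [Finset.sum_boole, Nat.cast_id, ← card_nbr hG P, nbr]
    rw [Finset.sum_congr rfl h2, Finset.sum_const, F.card_nbr_Q hG, smul_eq_mul]
  have hQQ : c F.Q F.Q = 18 := by simp [c, F.card_nbr_Q hG]
  have hnon : ∀ S, F.Q ≠ S → ¬ Adj F.Q S → c F.Q S = 8 := by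
    intro S hS hSa
    set U := ((Finset.univ.erase F.Q) \ nbr F.Q) with hU
    have hsub : nbr F.Q ⊆ Finset.univ.erase F.Q := fun P hP =>
      Finset.mem_erase.2 ⟨(mem_nbr.1 hP).1.symm, Finset.mem_univ _⟩
    have hUc : U.card = 36 := by
      rw [hU, Finset.card_sdiff_of_subset hsub, Finset.card_erase_of_mem (Finset.mem_univ _),
        Finset.card_univ, ← Nat.card_eq_fintype_card, card_sylow hG, F.card_nbr_Q hG]
    have hconst : ∀ T ∈ U, c F.Q T = c F.Q S := by
      intro T hT
      simp only [hU, Finset.mem_sdiff, Finset.mem_erase, mem_nbr] at hT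
      obtain ⟨g, hg1, hg2⟩ := F.nonadj_transitive hG hS hSa hT.1.1.symm hT.2
      simp only [c]
      have he : nbr F.Q ∩ nbr T = g • (nbr F.Q ∩ nbr S) := by
        rw [Finset.smul_finset_inter, ← nbr_smul, ← nbr_smul, hg1, hg2]
      rw [he, Finset.card_smul_finset]
    rw [← Finset.add_sum_erase _ _ (Finset.mem_univ F.Q), hQQ, ← Finset.sum_sdiff hsub, ← hU,
      Finset.sum_congr rfl hconst, Finset.sum_const, hUc,
      Finset.sum_congr rfl (fun T hT => hadj _ T (mem_nbr.1 hT)), Finset.sum_const,
      F.card_nbr_Q hG] at hsum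
    simp only [smul_eq_mul, mul_one] at hsum
    omega
  have hnon' : ∀ S T, S ≠ T → ¬ Adj S T → c S T = 8 := by
    intro S T hne hna
    obtain ⟨g, rfl⟩ := MulAction.exists_smul_eq G F.Q S
    have e : c (g • F.Q) T = c F.Q (g⁻¹ • T) := by
      simp only [c]
      rw [← Finset.card_smul_finset g (nbr F.Q ∩ nbr (g⁻¹ • T)), Finset.smul_finset_inter,
        ← nbr_smul, ← nbr_smul, smul_inv_smul]
    rw [e]
    refine hnon _ (fun h => hne ?_) (fun h => hna ?_)
    · rw [h, smul_inv_smul]
    · have := h.smul g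
      rwa [smul_inv_smul] at this
  -- the matrix
  let A : Matrix (Sylow 3 G) (Sylow 3 G) ℝ := Matrix.of fun S T => if Adj S T then 1 else 0
  refine no_conference (ι := Sylow 3 G) (by rw [← Nat.card_eq_fintype_card, card_sylow hG]) A ?_ ?_
    (fun S => by simp [A, not_adj_self]) ?_
  · intro S
    simp only [A, Matrix.of_apply, Finset.sum_boole]
    have := card_nbr hG S
    rw [nbr] at this
    exact_mod_cast this
  · intro T
    simp only [A, Matrix.of_apply, Finset.sum_boole]
    have := card_nbr hG T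
    rw [nbr] at this
    simp only [adj_comm (S := T)]
    exact_mod_cast this
  · ext S T
    have hAA : (A * A) S T = (c S T : ℝ) := by
      simp only [A, Matrix.mul_apply, Matrix.of_apply, c, ite_mul, one_mul, zero_mul,
        ← ite_and, Finset.sum_boole]
      congr 2
      ext P
      simp only [Finset.mem_filter, Finset.mem_univ, true_and, Finset.mem_inter, mem_nbr]
      exact and_congr_right fun _ => adj_comm
    rw [Matrix.add_apply, hAA]
    simp only [Matrix.smul_apply, Matrix.add_apply, Matrix.of_apply, smul_eq_mul, A, Matrix.one_apply]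
    by_cases hST : S = T
    · subst hST
      have : c S S = 18 := by simp [c, card_nbr hG S]
      rw [this]
      simp [not_adj_self]
      norm_num
    · by_cases hA' : Adj S T
      · rw [hadj S T hA']
        simp [hST, hA']
        norm_num
      · rw [hnon' S T hST hA']
        simp [hST, hA']

theorem alpha_not_beta (hG : Nat.card G = 7920) : F.Alpha ∧ ¬ F.Beta := by
  by_cases ha : F.Alpha
  · exact ⟨ha, fun hb => F.not_alpha_beta hG ha hb⟩
  · by_cases hb : F.Beta
    · exact (F.not_beta_only hG ha hb).elim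
    · exact (F.not_neither hG ha hb).elim

end Frame

end CfsgLib.M11Order
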