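import Cfsg.Agent.Lib.Sporadic.M11Order.ThreeElt

/-!
A simple group of order 7920 acting on its 55 Sylow `3`-subgroups: suborbits 1, 18, 36.
-/

set_option autoImplicit false

open scoped Pointwise

namespace CfsgLib.M11Order

open Subgroup SmallOrder

universe u

variable {G : Type u} [Group G]

/-- An involution inverting a Sylow subgroup. -/
def Inverts (t : G) (Q : Sylow 3 G) : Prop :=
  t ≠ 1 ∧ t * t = 1 ∧ ∀ x ∈ (Q : Subgroup G), t * x * t⁻¹ = x⁻¹

/-- Two Sylow subgroups inverted by a common involution. -/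
def Adj (Q R : Sylow 3 G) : Prop := Q ≠ R ∧ ∃ t, Inverts t Q ∧ Inverts t R

theorem Adj.symm {Q R : Sylow 3 G} (h : Adj Q R) : Adj R Q :=
  ⟨h.1.symm, h.2.imp fun _ h => h.symm⟩

theorem mem_smul_sylow {g x : G} {Q : Sylow 3 G} :
    x ∈ ((g • Q : Sylow 3 G) : Subgroup G) ↔ g⁻¹ * x * g ∈ (Q : Subgroup G) := by
  rw [Sylow.coe_subgroup_smul, Subgroup.mem_pointwise_smul_iff_inv_smul_mem]
  simp [MulAut.smul_def]

theorem Inverts.mem_normalizer {t : G} {Q : Sylow 3 G} (h : Inverts t Q) :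
    t ∈ normalizer ((Q : Subgroup G) : Set G) := by
  refine mem_normalizer_iff.2 fun x => ⟨fun hx => (h.2.2 x hx).symm ▸ inv_mem hx, fun hx => ?_⟩
  have h' := h.2.2 _ hx
  have e : t * (t * x * t⁻¹) * t⁻¹ = x := by
    rw [show t * (t * x * t⁻¹) * t⁻¹ = (t * t) * x * (t * t)⁻¹ by group, h.2.1]; group
  rw [e] at h'
  exact h' ▸ inv_mem hx

theorem Inverts.smul {t : G} {Q : Sylow 3 G} (h : Inverts t Q) (g : G) :
    Inverts (g * t * g⁻¹) (g • Q) := by
  refine ⟨fun e => h.1 (conj_eq_one_iff.1 e), ?_, fun x hx => ?_⟩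
  · rw [show g * t * g⁻¹ * (g * t * g⁻¹) = g * (t * t) * g⁻¹ by group, h.2.1]; group
  · have := h.2.2 _ (mem_smul_sylow.1 hx)
    rw [show g * t * g⁻¹ * x * (g * t * g⁻¹)⁻¹ = g * (t * (g⁻¹ * x * g) * t⁻¹) * g⁻¹ by group, this]
    group

theorem Adj.smul {Q R : Sylow 3 G} (h : Adj Q R) (g : G) : Adj (g • Q) (g • R) := by
  obtain ⟨hne, t, h1, h2⟩ := h
  exact ⟨fun e => hne (smul_left_cancel g e), _, h1.smul g, h2.smul g⟩

theorem adj_smul_iff {Q R : Sylow 3 G} (g : G) : Adj (g • Q) (g • R) ↔ Adj Q R :=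
  ⟨fun h => by simpa using h.smul g⁻¹, fun h => h.smul g⟩

variable [Fintype G] [IsSimpleGroup G] [Fact (Nat.Prime 3)]

theorem Inverts.commute_mem (hG : Nat.card G = 7920) {t : G} {Q : Sylow 3 G} (h : Inverts t Q)
    {x : G} (hx : x ∈ (Q : Subgroup G)) (hc : t * x = x * t) : x = 1 := by
  have h' : x = x⁻¹ := by rw [← h.2.2 x hx, hc, mul_inv_cancel_right]
  exact eq_one_of_sq_of_cube (by nth_rw 2 [h']; exact mul_inv_cancel x)
    ((sylow_three_facts hG Q).2.2 x hx)

/-- The involutions inverting `Q` form one class under `Q`. -/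
theorem Inverts.exists_conj (hG : Nat.card G = 7920) {t s : G} {Q : Sylow 3 G} (ht : Inverts t Q)
    (hs : Inverts s Q) : ∃ y ∈ (Q : Subgroup G), s = t * y ∧ y * t * y⁻¹ = s := by
  obtain ⟨-, -, hexp⟩ := sylow_three_facts hG Q
  have htinv : t⁻¹ = t := inv_eq_of_mul_eq_one_right ht.2.1
  have hy : t * s ∈ (Q : Subgroup G) := by
    rw [← centralizer_sylow_three hG Q]
    refine mem_centralizer_iff.2 fun x hx => ?_
    have : t * s * x * (t * s)⁻¹ = x := by
      rw [show t * s * x * (t * s)⁻¹ = t * (s * x * s⁻¹) * t⁻¹ by group, hs.2.2 x hx,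
        show t * x⁻¹ * t⁻¹ = (t * x * t⁻¹)⁻¹ by group, ht.2.2 x hx, inv_inv]
    exact (mul_inv_eq_iff_eq_mul.1 this).symm
  refine ⟨t * s, hy, by rw [← mul_assoc, ht.2.1, one_mul], ?_⟩
  have h3 := hexp _ hy
  have h1 : t * (t * s) * t = (t * s)⁻¹ := by
    have := ht.2.2 _ hy
    rwa [htinv] at this
  have h2 : t * s * t = t * (t * s)⁻¹ := by
    rw [← h1, ← mul_assoc, ← mul_assoc, ht.2.1, one_mul]
  calc t * s * t * (t * s)⁻¹ = t * ((t * s)⁻¹ * (t * s)⁻¹) := by rw [h2, mul_assoc]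
    _ = t * (t * s) := by
        congr 1
        rw [← mul_inv_rev, inv_eq_iff_mul_eq_one, ← pow_two, ← pow_succ]
        exact h3
    _ = s := by rw [← mul_assoc, ht.2.1, one_mul]

/-- The common inverting involution of an adjacent pair is unique. -/
theorem Inverts.unique (hG : Nat.card G = 7920) {t s : G} {Q R : Sylow 3 G} (hne : Q ≠ R)
    (h1 : Inverts t Q) (h2 : Inverts t R) (h3 : Inverts s Q) (h4 : Inverts s R) : s = t := by
  obtain ⟨y, hy, rfl, -⟩ := h1.exists_conj hG h3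
  obtain ⟨z, hz, e, -⟩ := h2.exists_conj hG h4
  obtain rfl := mul_left_cancel e
  by_cases hy1 : y = 1
  · rw [hy1, mul_one]
  · exact absurd (sylow_eq_of_mem hG hy hz hy1) hne

theorem Inverts.card_stabilizer (hG : Nat.card G = 7920) {t : G} {Q : Sylow 3 G} (h : Inverts t Q) :
    Nat.card ↥(normalizer ((Q : Subgroup G) : Set G) ⊓ centralizer ({t} : Set G)) = 16 := by
  classical
  set N := normalizer ((Q : Subgroup G) : Set G) with hN
  let f : ↥(Q : Subgroup G) × ↥(N ⊓ centralizer ({t} : Set G)) → ↥N := fun p =>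
    ⟨(p.1 : G) * (p.2 : G), mul_mem (Subgroup.le_normalizer p.1.2) p.2.2.1⟩
  have hf : Function.Bijective f := by
    constructor
    · rintro ⟨⟨y, hy⟩, ⟨k, hk⟩⟩ ⟨⟨y', hy'⟩, ⟨k', hk'⟩⟩ e
      have e' : y * k = y' * k' := congrArg Subtype.val e
      have hmem : y'⁻¹ * y = k' * k⁻¹ := by rw [inv_mul_eq_iff_eq_mul, ← mul_assoc, ← e', mul_inv_cancel_right]
      have h1 : y'⁻¹ * y = 1 := by
        refine h.commute_mem hG (mul_mem (inv_mem hy') hy) ?_
        rw [hmem]
        exact (mem_centralizer_singleton_iff.1 (mul_mem hk'.2 (inv_mem hk.2))).symm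
      obtain rfl := inv_mul_eq_one.1 h1
      obtain rfl := mul_left_cancel e'
      rfl
    · intro g
      have hg : (g : G) • Q = Q := Sylow.smul_eq_iff_mem_normalizer.2 g.2
      obtain ⟨y, hy, -, e⟩ := h.exists_conj hG (hg ▸ h.smul (g : G))
      refine ⟨(⟨y, hy⟩, ⟨y⁻¹ * g, Subgroup.mem_inf.2 ⟨mul_mem (inv_mem (Subgroup.le_normalizer hy)) g.2,
        mem_centralizer_singleton_iff.2 ?_⟩⟩), Subtype.ext (mul_inv_cancel_left y _)⟩
      calc y⁻¹ * g * t = y⁻¹ * ((g : G) * t * (g : G)⁻¹) * g := by group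
        _ = y⁻¹ * (y * t * y⁻¹) * g := by rw [e]
        _ = t * (y⁻¹ * g) := by group
  have hc := Nat.card_congr (Equiv.ofBijective f hf)
  rw [Nat.card_prod, (sylow_three_facts hG Q).1, card_normalizer_three hG Q] at hc
  omega

theorem Inverts.exists_smul (hG : Nat.card G = 7920) {t : G} {Q R : Sylow 3 G} (h : Inverts t Q)
    (hR : Inverts t R) : ∃ g ∈ centralizer ({t} : Set G), g • Q = R := by
  obtain ⟨g, rfl⟩ := MulAction.exists_smul_eq G Q R
  have h' := hR.smul g⁻¹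
  rw [inv_smul_smul, inv_inv] at h'
  obtain ⟨y, hy, -, e⟩ := h.exists_conj hG h'
  refine ⟨g * y, mem_centralizer_singleton_iff.2 ?_, by
    rw [mul_smul, Sylow.smul_eq_iff_mem_normalizer.2 (Subgroup.le_normalizer hy)]⟩
  calc g * y * t = g * (y * t * y⁻¹) * y := by group
    _ = g * (g⁻¹ * t * g) * y := by rw [e]
    _ = t * (g * y) := by group

theorem Inverts.card_inverted (hG : Nat.card G = 7920) {t : G} {Q : Sylow 3 G} (h : Inverts t Q) :
    Nat.card {R : Sylow 3 G // Inverts t R} = 3 := by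
  classical
  have ht2 : t ^ 2 = 1 := by rw [pow_two]; exact h.2.1
  have h48 := card_centralizer_involution hG h.1 ht2
  set C := centralizer ({t} : Set G) with hC
  have horb : MulAction.orbit C Q = {R | Inverts t R} := by
    ext R
    constructor
    · rintro ⟨g, rfl⟩
      have := h.smul (g : G)
      rwa [show (g : G) * t * (g : G)⁻¹ = t from
        mul_inv_eq_iff_eq_mul.2 (mem_centralizer_singleton_iff.1 g.2)] at this
    · intro hR
      obtain ⟨g, hg, e⟩ := h.exists_smul hG hR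
      exact ⟨⟨g, hg⟩, e⟩
  have hst : MulAction.stabilizer C Q =
      (normalizer ((Q : Subgroup G) : Set G) ⊓ C).subgroupOf C := by
    ext g
    rw [MulAction.mem_stabilizer_iff, Subgroup.mem_subgroupOf, Subgroup.mem_inf]
    exact ⟨fun e => ⟨Sylow.smul_eq_iff_mem_normalizer.1 e, g.2⟩,
      fun e => Sylow.smul_eq_iff_mem_normalizer.2 e.1⟩
  have hm := Subgroup.card_mul_index (MulAction.stabilizer C Q)
  rw [MulAction.index_stabilizer, horb, hst, Nat.card_congr (Subgroup.subgroupOfEquivOfLe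
    inf_le_right).toEquiv, h.card_stabilizer hG, h48] at hm
  rw [← Nat.card_coe_set_eq] at hm
  change 16 * Nat.card {R : Sylow 3 G // Inverts t R} = 48 at hm
  omega

/-- A triangle: the three Sylow subgroups inverted by one involution. -/
structure Frame (G : Type u) [Group G] where
  /-- the base point -/
  Q : Sylow 3 G
  /-- the second point -/
  R : Sylow 3 G
  /-- the third point -/
  R' : Sylow 3 G
  /-- the involution -/
  t : G
  hQR : Q ≠ R
  hQR' : Q ≠ R'
  hRR' : R ≠ R'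
  iQ : Inverts t Q
  iR : Inverts t R
  iR' : Inverts t R'
  only : ∀ S, Inverts t S → S = Q ∨ S = R ∨ S = R'

theorem exists_frame_of_adj (hG : Nat.card G = 7920) {Q R : Sylow 3 G} (h : Adj Q R) :
    ∃ F : Frame G, F.Q = Q ∧ F.R = R := by
  classical
  obtain ⟨hne, t, h1, h2⟩ := h
  have h3 := h1.card_inverted hG
  rw [Nat.card_eq_fintype_card, Fintype.card_subtype] at h3
  set A := Finset.univ.filter fun S : Sylow 3 G => Inverts t S
  have hQ : Q ∈ A := Finset.mem_filter.2 ⟨Finset.mem_univ _, h1⟩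
  have hR : R ∈ A.erase Q := Finset.mem_erase.2 ⟨hne.symm, Finset.mem_filter.2 ⟨Finset.mem_univ _, h2⟩⟩
  obtain ⟨R', hR'⟩ := Finset.card_eq_one.1 (show ((A.erase Q).erase R).card = 1 by
    rw [Finset.card_erase_of_mem hR, Finset.card_erase_of_mem hQ, h3])
  have hmem := hR'.ge (Finset.mem_singleton_self R')
  simp only [Finset.mem_erase, A, Finset.mem_filter, Finset.mem_univ, true_and] at hmem
  refine ⟨⟨Q, R, R', t, hne, hmem.2.1.symm, hmem.1.symm, h1, h2, hmem.2.2, fun S hS => ?_⟩, rfl, rfl⟩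
  by_cases hSQ : S = Q
  · exact Or.inl hSQ
  by_cases hSR : S = R
  · exact Or.inr (Or.inl hSR)
  · exact Or.inr (Or.inr (Finset.mem_singleton.1 (hR'.le (Finset.mem_erase.2 ⟨hSR,
      Finset.mem_erase.2 ⟨hSQ, Finset.mem_filter.2 ⟨Finset.mem_univ _, hS⟩⟩⟩))))

theorem exists_adj (hG : Nat.card G = 7920) (Q : Sylow 3 G) : ∃ R, Adj Q R := by
  classical
  obtain ⟨t, ht1, ht2, hinv⟩ := exists_inverting_involution hG Q
  have h : Inverts t Q := ⟨ht1, ht2, hinv⟩
  have h3 := h.card_inverted hG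
  have : Nontrivial {R : Sylow 3 G // Inverts t R} :=
    Finite.one_lt_card_iff_nontrivial.1 (by omega)
  obtain ⟨⟨R, hR⟩, hne⟩ := exists_ne (⟨Q, h⟩ : {R : Sylow 3 G // Inverts t R})
  exact ⟨R, fun e => hne (Subtype.ext e.symm), t, h, hR⟩

namespace Frame

variable (F : Frame G)

/-- The centraliser of `t` in the normaliser of `Q`. -/
def K : Subgroup G := normalizer ((F.Q : Subgroup G) : Set G) ⊓ centralizer ({F.t} : Set G)

/-- The kernel on the triangle. -/
def L : Subgroup G := F.K ⊓ normalizer ((F.R : Subgroup G) : Set G)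

omit [Fintype G] [IsSimpleGroup G] in
theorem smul_inverted {g : G} (hg : g ∈ centralizer ({F.t} : Set G)) {S : Sylow 3 G}
    (hS : Inverts F.t S) : Inverts F.t (g • S) := by
  have := hS.smul g
  rwa [show g * F.t * g⁻¹ = F.t from
    mul_inv_eq_iff_eq_mul.2 (mem_centralizer_singleton_iff.1 hg)] at this

omit [Fintype G] [IsSimpleGroup G] in
theorem smul_Q {g : G} (hg : g ∈ F.K) : g • F.Q = F.Q := Sylow.smul_eq_iff_mem_normalizer.2 hg.1

omit [Fintype G] [IsSimpleGroup G] in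
theorem smul_R_cases {g : G} (hg : g ∈ F.K) : g • F.R = F.R ∨ g • F.R = F.R' := by
  rcases F.only _ (F.smul_inverted hg.2 F.iR) with h | h | h
  · exact absurd (smul_left_cancel g (h.trans (F.smul_Q hg).symm)) F.hQR.symm
  · exact Or.inl h
  · exact Or.inr h

omit [Fintype G] [IsSimpleGroup G] in
theorem smul_R'_of_fix {g : G} (hg : g ∈ F.K) (hR : g • F.R = F.R) : g • F.R' = F.R' := by
  rcases F.only _ (F.smul_inverted hg.2 F.iR') with h | h | h
  · exact absurd (smul_left_cancel g (h.trans (F.smul_Q hg).symm)) F.hQR'.symm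
  · exact absurd (smul_left_cancel g (h.trans hR.symm)) F.hRR'.symm
  · exact h

theorem card_K (hG : Nat.card G = 7920) : Nat.card F.K = 16 := F.iQ.card_stabilizer hG

omit [Fintype G] [IsSimpleGroup G] in
theorem t_mem_K : F.t ∈ F.K := ⟨F.iQ.mem_normalizer, mem_centralizer_singleton_iff.2 rfl⟩

omit [Fintype G] [IsSimpleGroup G] in
theorem t_mem_L : F.t ∈ F.L := ⟨F.t_mem_K, F.iR.mem_normalizer⟩

theorem K_inf_centralizer (hG : Nat.card G = 7920) {x : G} (hx : x ∈ (F.Q : Subgroup G))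
    (hx1 : x ≠ 1) : Nat.card ↥(F.K ⊓ centralizer ({x} : Set G)) ≤ 2 := by
  have h1 := Subgroup.card_dvd_of_le (inf_le_left : F.K ⊓ centralizer ({x} : Set G) ≤ F.K)
  have h2 := Subgroup.card_dvd_of_le (inf_le_right : F.K ⊓ centralizer ({x} : Set G) ≤ centralizer {x})
  rw [F.card_K hG] at h1
  rw [card_centralizer_three_elt hG F.Q hx hx1] at h2
  have h : Nat.card ↥(F.K ⊓ centralizer ({x} : Set G)) ∣ 2 := by
    have := Nat.dvd_gcd h1 h2
    exact this
  exact Nat.le_of_dvd (by norm_num) h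

/-- An element of order 3 commuting with `t` allows no further involutions in a subgroup of `K`
which it normalises. -/
theorem eq_t_of_normalized (hG : Nat.card G = 7920) {M : Subgroup G} (hMK : M ≤ F.K) (htM : F.t ∈ M)
    {q : G} (hq : orderOf q = 3) (hqt : q * F.t = F.t * q) (hqM : ∀ m ∈ M, q * m * q⁻¹ ∈ M)
    {s : G} (hs : s ∈ M) (hs2 : s * s = 1) (hs1 : s ≠ 1) : s = F.t := by
  classical
  by_contra hst
  obtain ⟨hQ9, hab, hexp⟩ := sylow_three_facts hG F.Q
  let I : Finset G := Finset.univ.filter fun s => s ∈ M ∧ s * s = 1 ∧ s ≠ 1 ∧ s ≠ F.t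
  have hmemI : ∀ a, a ∈ I ↔ a ∈ M ∧ a * a = 1 ∧ a ≠ 1 ∧ a ≠ F.t := fun a => by simp [I]
  have htt := F.iQ.2.1
  have hct : ∀ a ∈ M, a * F.t = F.t * a := fun a ha => mem_centralizer_singleton_iff.1 (hMK ha).2
  -- closure properties
  have hmulI : ∀ a ∈ I, a * F.t ∈ I := by
    intro a ha
    obtain ⟨haM, ha2, ha1, hat⟩ := (hmemI a).1 ha
    refine (hmemI _).2 ⟨mul_mem haM htM, ?_, fun e => hat ?_, fun e => ha1 ?_⟩
    · rw [mul_assoc a, ← mul_assoc F.t, ← hct a haM, mul_assoc a, ← mul_assoc a a, ha2, htt, mul_one]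
    · rw [eq_inv_of_mul_eq_one_left e, inv_eq_of_mul_eq_one_right htt]
    · exact mul_eq_right.1 e
  have hconjI : ∀ a ∈ I, q * a * q⁻¹ ∈ I := by
    intro a ha
    obtain ⟨haM, ha2, ha1, hat⟩ := (hmemI a).1 ha
    refine (hmemI _).2 ⟨hqM a haM, ?_, fun e => ha1 (conj_eq_one_iff.1 e), fun e => hat ?_⟩
    · rw [show q * a * q⁻¹ * (q * a * q⁻¹) = q * (a * a) * q⁻¹ by group, ha2]; group
    · have h2 : q * a * q⁻¹ = q * F.t * q⁻¹ := by rw [e, hqt, mul_inv_cancel_right]
      exact mul_left_cancel (mul_right_cancel h2)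
  have hfix : ∀ a ∈ I, q * a * q⁻¹ ≠ a := by
    intro a ha e
    obtain ⟨haM, -, ha1, hat⟩ := (hmemI a).1 ha
    set H := F.K ⊓ centralizer ({q} : Set G)
    have h1 := Subgroup.card_dvd_of_le (inf_le_left : H ≤ F.K)
    have h2 := Subgroup.card_dvd_of_le (inf_le_right : H ≤ centralizer ({q} : Set G))
    obtain ⟨Q', hQ'⟩ := (IsPGroup.of_card (n := 1)
      (by rw [Nat.card_zpowers, hq, pow_one]) : IsPGroup 3 ↥(zpowers q)).exists_le_sylow
    rw [F.card_K hG] at h1
    rw [card_centralizer_three_elt hG Q' (hQ' (mem_zpowers q))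
      (fun h => by rw [h, orderOf_one] at hq; omega)] at h2
    have h : Nat.card H ≤ 2 :=
      Nat.le_of_dvd (by norm_num) ((Nat.dvd_gcd h1 h2).trans (dvd_of_eq (by norm_num : Nat.gcd 16 18 = 2)))
    have hsub : ({1, F.t, a} : Finset G) ⊆ Finset.univ.filter (fun g => g ∈ H) := by
      intro g hg
      simp only [Finset.mem_insert, Finset.mem_singleton] at hg
      refine Finset.mem_filter.2 ⟨Finset.mem_univ _, ?_⟩
      rcases hg with rfl | rfl | rfl
      · exact one_mem _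
      · exact ⟨F.t_mem_K, mem_centralizer_singleton_iff.2 hqt.symm⟩
      · exact ⟨hMK haM, mem_centralizer_singleton_iff.2 (mul_inv_eq_iff_eq_mul.1 e).symm⟩
    have h' := Finset.card_le_card hsub
    rw [← Fintype.card_subtype, ← Nat.card_eq_fintype_card,
      Finset.card_insert_of_notMem (by simp [F.iQ.1.symm, Ne.symm ha1]),
      Finset.card_pair (Ne.symm hat)] at h'
    change 2 + 1 ≤ Nat.card H at h'
    omega
  -- at most four
  let B : G → Finset G := fun a =>
    Finset.univ.filter fun x => x ∈ (F.Q : Subgroup G) ∧ x ≠ 1 ∧ a * x = x * a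
  have hB2 : ∀ a ∈ I, 2 ≤ (B a).card := by
    intro a ha
    obtain ⟨haM, ha2, ha1, hat⟩ := (hmemI a).1 ha
    obtain ⟨x0, hx0, hne⟩ : ∃ x ∈ (F.Q : Subgroup G), a * x * a⁻¹ ≠ x⁻¹ := by
      by_contra hall
      push Not at hall
      obtain ⟨y, hy, rfl, -⟩ := F.iQ.exists_conj hG ⟨ha1, ha2, hall⟩
      apply hat
      rw [F.iQ.commute_mem hG hy (by
        have h := hct _ haM
        rw [mul_assoc] at h
        exact (mul_left_cancel h).symm), mul_one]
    set x := x0 * (a * x0 * a⁻¹) with hx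
    have hax : a * x0 * a⁻¹ ∈ (F.Q : Subgroup G) := (mem_normalizer_iff.1 (hMK haM).1 x0).1 hx0
    have hxQ : x ∈ (F.Q : Subgroup G) := mul_mem hx0 hax
    have hx1 : x ≠ 1 := fun h => hne (eq_inv_of_mul_eq_one_right h)
    have hcomm : a * x = x * a := by
      refine mul_inv_eq_iff_eq_mul.1 ?_
      rw [hx, show a * (x0 * (a * x0 * a⁻¹)) * a⁻¹ = (a * x0 * a⁻¹) * ((a * a) * x0 * (a * a)⁻¹) by group,
        ha2, show (1 : G) * x0 * 1⁻¹ = x0 by group, hab _ hax _ hx0]
    have hxi : x⁻¹ ≠ x := fun h =>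
      hx1 (eq_one_of_sq_of_cube (by nth_rw 1 [← h]; exact inv_mul_cancel x) (hexp x hxQ))
    rw [← Finset.card_pair hxi.symm]
    refine Finset.card_le_card ?_
    intro z hz
    simp only [Finset.mem_insert, Finset.mem_singleton] at hz
    simp only [B, Finset.mem_filter, Finset.mem_univ, true_and]
    rcases hz with rfl | rfl
    · exact ⟨hxQ, hx1, hcomm⟩
    · exact ⟨inv_mem hxQ, inv_ne_one.2 hx1, (Commute.inv_right hcomm).eq⟩
  have hdisj : (I : Set G).PairwiseDisjoint B := by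
    intro a ha b hb hab'
    rw [Function.onFun, Finset.disjoint_left]
    intro x hxa hxb
    simp only [B, Finset.mem_filter, Finset.mem_univ, true_and] at hxa hxb
    obtain ⟨haM, -, ha1, -⟩ := (hmemI a).1 ha
    obtain ⟨hbM, -, hb1, -⟩ := (hmemI b).1 hb
    set H := F.K ⊓ centralizer ({x} : Set G)
    have h := F.K_inf_centralizer hG hxa.1 hxa.2.1
    have hsub : ({1, a, b} : Finset G) ⊆ Finset.univ.filter (fun g => g ∈ H) := by
      intro g hg
      simp only [Finset.mem_insert, Finset.mem_singleton] at hg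
      refine Finset.mem_filter.2 ⟨Finset.mem_univ _, ?_⟩
      rcases hg with rfl | rfl | rfl
      · exact one_mem _
      · exact ⟨hMK haM, mem_centralizer_singleton_iff.2 hxa.2.2⟩
      · exact ⟨hMK hbM, mem_centralizer_singleton_iff.2 hxb.2.2⟩
    have h' := Finset.card_le_card hsub
    rw [← Fintype.card_subtype, ← Nat.card_eq_fintype_card,
      Finset.card_insert_of_notMem (by simp [Ne.symm ha1, Ne.symm hb1]), Finset.card_pair hab'] at h'
    change 2 + 1 ≤ Nat.card H at h'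
    change Nat.card H ≤ 2 at h
    omega
  have hI4 : I.card ≤ 4 := by
    have hsum : 2 * I.card ≤ (I.biUnion B).card := by
      rw [Finset.card_biUnion hdisj, mul_comm, ← smul_eq_mul, ← Finset.sum_const]
      exact Finset.sum_le_sum hB2
    have hsub : I.biUnion B ⊆ (Finset.univ.filter fun x => x ∈ (F.Q : Subgroup G)).erase 1 := by
      intro x hx
      obtain ⟨a, -, hxa⟩ := Finset.mem_biUnion.1 hx
      simp only [B, Finset.mem_filter, Finset.mem_univ, true_and] at hxa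
      exact Finset.mem_erase.2 ⟨hxa.2.1, Finset.mem_filter.2 ⟨Finset.mem_univ _, hxa.1⟩⟩
    have h := Finset.card_le_card hsub
    rw [Finset.card_erase_of_mem (by simp), ← Fintype.card_subtype, ← Nat.card_eq_fintype_card] at h
    change (I.biUnion B).card ≤ Nat.card ↥(F.Q : Subgroup G) - 1 at h
    omega
  -- five distinct elements
  have hsI : s ∈ I := (hmemI s).2 ⟨hs, hs2, hs1, hst⟩
  set c := fun a => q * a * q⁻¹ with hc
  have hcc : ∀ a, c (c (c a)) = a := by
    intro a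
    show q * (q * (q * a * q⁻¹) * q⁻¹) * q⁻¹ = a
    have h3 : q * q * q = 1 := by
      rw [← pow_two, ← pow_succ]
      exact orderOf_dvd_iff_pow_eq_one.1 hq.dvd
    rw [show q * (q * (q * a * q⁻¹) * q⁻¹) * q⁻¹ = q * q * q * a * (q * q * q)⁻¹ by group, h3]
    group
  have hcmul : ∀ a, c (a * F.t) = c a * F.t := fun a => by
    show q * (a * F.t) * q⁻¹ = q * a * q⁻¹ * F.t
    rw [show q * (a * F.t) * q⁻¹ = q * a * q⁻¹ * (q * F.t * q⁻¹) by group, hqt, mul_inv_cancel_right]
  have f1 : c s ≠ s := hfix s hsI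
  have f2 : c (c s) ≠ c s := hfix _ (hconjI s hsI)
  have f3 : c (c s) ≠ s := fun e => f1 (by
    have := hcc s
    rwa [e] at this)
  have t1 : ∀ a, a * F.t ≠ a := fun a e => F.iQ.1 (mul_eq_left.1 e)
  have g1 : c s ≠ s * F.t := fun e => f3 (by rw [e, hcmul, e, mul_assoc, htt, mul_one])
  have g2 : c (c s) ≠ s * F.t := fun e => g1 (by
    have h := congrArg c e
    rw [hcc, hcmul] at h
    conv_rhs => rw [h]
    rw [mul_assoc, htt, mul_one])
  have g3 : c (c s) ≠ c s * F.t := fun e => g1 (by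
    have h := congrArg c (congrArg c e)
    rwa [hcc, hcmul, hcmul, hcc] at h)
  have hsub : ({s, s * F.t, c s, c s * F.t, c (c s)} : Finset G) ⊆ I := by
    intro a ha
    simp only [Finset.mem_insert, Finset.mem_singleton] at ha
    rcases ha with rfl | rfl | rfl | rfl | rfl
    · exact hsI
    · exact hmulI s hsI
    · exact hconjI s hsI
    · exact hmulI _ (hconjI s hsI)
    · exact hconjI _ (hconjI s hsI)
  have h5 := Finset.card_le_card hsub
  have g4 : c s * F.t ≠ s := fun e => g1 (by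
    conv_rhs => rw [← e]
    rw [mul_assoc, htt, mul_one])
  have g5 : c s * F.t ≠ s * F.t := fun e => f1 (mul_right_cancel e)
  rw [Finset.card_insert_of_notMem (by simp [(t1 s).symm, f1.symm, g4.symm, f3.symm]),
    Finset.card_insert_of_notMem (by simp [g1.symm, g5.symm, g2.symm]),
    Finset.card_insert_of_notMem (by simp [(t1 (c s)).symm, f2.symm]),
    Finset.card_insert_of_notMem (by simp [g3.symm]), Finset.card_singleton] at h5
  omega

theorem exists_q (hG : Nat.card G = 7920) : ∃ q : G, orderOf q = 3 ∧ q * F.t = F.t * q := by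
  have h48 := card_centralizer_involution hG F.iQ.1 (by rw [pow_two]; exact F.iQ.2.1)
  obtain ⟨⟨q, hq⟩, ho⟩ := exists_prime_orderOf_dvd_card' (G := ↥(centralizer ({F.t} : Set G))) 3
    (by rw [h48]; norm_num)
  rw [Subgroup.orderOf_mk] at ho
  exact ⟨q, ho, mem_centralizer_singleton_iff.1 hq⟩

omit [Fintype G] [IsSimpleGroup G] in
/-- The kernel on the triangle is normalised by the centraliser of `t`. -/
theorem conj_mem_L {q : G} (hq : q ∈ centralizer ({F.t} : Set G)) {m : G} (hm : m ∈ F.L) :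
    q * m * q⁻¹ ∈ F.L := by
  have hfix : ∀ S, Inverts F.t S → (q * m * q⁻¹) • S = S := by
    intro S hS
    have h := F.smul_inverted (inv_mem hq) hS
    have hm' : m • (q⁻¹ • S) = q⁻¹ • S := by
      rcases F.only _ h with e | e | e <;> rw [e]
      · exact F.smul_Q hm.1
      · exact Sylow.smul_eq_iff_mem_normalizer.2 hm.2
      · exact F.smul_R'_of_fix hm.1 (Sylow.smul_eq_iff_mem_normalizer.2 hm.2)
    rw [mul_smul, mul_smul, hm', smul_inv_smul]
  exact Subgroup.mem_inf.2 ⟨Subgroup.mem_inf.2 ⟨Sylow.smul_eq_iff_mem_normalizer.1 (hfix _ F.iQ),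
    mul_mem (mul_mem hq hm.1.2) (inv_mem hq)⟩, Sylow.smul_eq_iff_mem_normalizer.1 (hfix _ F.iR)⟩

theorem exists_swap (hG : Nat.card G = 7920) : ∃ k ∈ F.K, k • F.R = F.R' := by
  classical
  by_contra hcon
  push Not at hcon
  have hKL : F.K = F.L := le_antisymm (fun g hg =>
    ⟨hg, Sylow.smul_eq_iff_mem_normalizer.1 ((F.smul_R_cases hg).resolve_right (hcon g hg))⟩) inf_le_left
  obtain ⟨q, hq, hqt⟩ := F.exists_q hG
  obtain ⟨hQ9, -, -⟩ := sylow_three_facts hG F.Q
  obtain ⟨⟨x, hx⟩, hxo⟩ := exists_prime_orderOf_dvd_card' (G := ↥(F.Q : Subgroup G)) 3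
    (by rw [hQ9]; norm_num)
  rw [Subgroup.orderOf_mk] at hxo
  have hx1 : x ≠ 1 := fun h => by rw [h, orderOf_one] at hxo; omega
  -- some element of `K` fixes `x`
  obtain ⟨k, k', hkk, he⟩ : ∃ k k' : ↥F.K, k ≠ k' ∧
      (k : G) * x * (k : G)⁻¹ = (k' : G) * x * (k' : G)⁻¹ := by
    by_contra hinj
    push Not at hinj
    have h := Nat.card_le_card_of_injective
      (fun k : ↥F.K => (⟨(k : G) * x * (k : G)⁻¹, (mem_normalizer_iff.1 k.2.1 x).1 hx⟩ :
        ↥(F.Q : Subgroup G))) (fun a b e => by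
          by_contra hne
          exact hinj a b hne (congrArg Subtype.val e))
    rw [F.card_K hG, hQ9] at h
    omega
  set s := (k : G)⁻¹ * (k' : G) with hs
  have hsK : s ∈ F.K := mul_mem (inv_mem k.2) k'.2
  have hs1 : s ≠ 1 := fun h => hkk (Subtype.ext (inv_mul_eq_one.1 h))
  have hsx : s * x = x * s := by
    rw [hs]
    calc (k : G)⁻¹ * k' * x = (k : G)⁻¹ * ((k' : G) * x * (k' : G)⁻¹) * k' := by group
      _ = (k : G)⁻¹ * ((k : G) * x * (k : G)⁻¹) * k' := by rw [he]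
      _ = x * ((k : G)⁻¹ * k') := by group
  have hs2 : s * s = 1 := by
    set H := F.K ⊓ centralizer ({x} : Set G)
    have h := F.K_inf_centralizer hG hx hx1
    have hd := Subgroup.orderOf_dvd_natCard H (show s ∈ H from ⟨hsK, mem_centralizer_singleton_iff.2 hsx⟩)
    have hle : orderOf s ≤ 2 := (Nat.le_of_dvd Nat.card_pos hd).trans h
    have h0 := orderOf_pos s
    interval_cases ho : orderOf s
    · exact absurd (orderOf_eq_one_iff.1 ho) hs1
    · rw [← pow_two]; exact ho ▸ pow_orderOf_eq_one s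
  have hst := F.eq_t_of_normalized hG le_rfl F.t_mem_K hq hqt (fun m hm => hKL ▸
    F.conj_mem_L (mem_centralizer_singleton_iff.2 hqt) (hKL ▸ hm)) hsK hs2 hs1
  exact hx1 (F.iQ.commute_mem hG hx (hst ▸ hsx))

theorem card_L (hG : Nat.card G = 7920) : Nat.card F.L = 8 := by
  classical
  obtain ⟨k, hk, hkR⟩ := F.exists_swap hG
  let f : Bool × ↥F.L → ↥F.K := fun p =>
    if p.1 then ⟨k * p.2, mul_mem hk p.2.2.1⟩ else ⟨p.2, p.2.2.1⟩
  have hfix : ∀ l : ↥F.L, (l : G) • F.R = F.R := fun l => Sylow.smul_eq_iff_mem_normalizer.2 l.2.2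
  have hf : Function.Bijective f := by
    constructor
    · rintro ⟨b, l⟩ ⟨b', l'⟩ e
      have e' := congrArg Subtype.val e
      cases b <;> cases b' <;> simp only [f, if_true, Bool.false_eq_true, if_false] at e'
      · exact Prod.ext rfl (Subtype.ext e')
      · exfalso
        have h := hfix l
        rw [e', mul_smul, hfix l', hkR] at h
        exact F.hRR' h.symm
      · exfalso
        have h := hfix l'
        rw [← e', mul_smul, hfix l, hkR] at h
        exact F.hRR' h.symm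
      · exact Prod.ext rfl (Subtype.ext (mul_left_cancel e'))
    · intro g
      rcases F.smul_R_cases g.2 with h | h
      · exact ⟨(false, ⟨g, g.2, Sylow.smul_eq_iff_mem_normalizer.1 h⟩), rfl⟩
      · refine ⟨(true, ⟨k⁻¹ * g, Subgroup.mem_inf.2 ⟨mul_mem (inv_mem hk) g.2,
          Sylow.smul_eq_iff_mem_normalizer.1 ?_⟩⟩),
          Subtype.ext (mul_inv_cancel_left k _)⟩
        rw [mul_smul, h, ← hkR, inv_smul_smul]
  have h := Nat.card_congr (Equiv.ofBijective f hf)
  rw [Nat.card_prod, F.card_K hG, Nat.card_eq_fintype_card, Fintype.card_bool] at h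
  omega

theorem eq_t_of_mem_L (hG : Nat.card G = 7920) {s : G} (hs : s ∈ F.L) (hs2 : s * s = 1)
    (hs1 : s ≠ 1) : s = F.t := by
  obtain ⟨q, hq, hqt⟩ := F.exists_q hG
  exact F.eq_t_of_normalized hG inf_le_left F.t_mem_L hq hqt
    (fun m hm => F.conj_mem_L (mem_centralizer_singleton_iff.2 hqt) hm) hs hs2 hs1

theorem L_semiregular (hG : Nat.card G = 7920) {l x : G} (hl : l ∈ F.L) (hx : x ∈ (F.Q : Subgroup G))
    (hx1 : x ≠ 1) (hc : l * x = x * l) : l = 1 := by
  by_contra hl1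
  have h := F.K_inf_centralizer hG hx hx1
  have hd := Subgroup.orderOf_dvd_natCard (F.K ⊓ centralizer ({x} : Set G))
    (show l ∈ _ from ⟨hl.1, mem_centralizer_singleton_iff.2 hc⟩)
  have hle : orderOf l ≤ 2 := (Nat.le_of_dvd Nat.card_pos hd).trans h
  have h0 := orderOf_pos l
  have hl2 : l * l = 1 := by
    interval_cases ho : orderOf l
    · exact absurd (orderOf_eq_one_iff.1 ho) hl1
    · rw [← pow_two]; exact ho ▸ pow_orderOf_eq_one l
  exact hx1 (F.iQ.commute_mem hG hx (F.eq_t_of_mem_L hG hl hl2 hl1 ▸ hc))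

theorem L_transitive (hG : Nat.card G = 7920) {x y : G} (hx : x ∈ (F.Q : Subgroup G)) (hx1 : x ≠ 1)
    (hy : y ∈ (F.Q : Subgroup G)) (hy1 : y ≠ 1) : ∃ l ∈ F.L, l * x * l⁻¹ = y := by
  classical
  let f : ↥F.L → {z : ↥(F.Q : Subgroup G) // z ≠ 1} := fun l =>
    ⟨⟨(l : G) * x * (l : G)⁻¹, (mem_normalizer_iff.1 l.2.1.1 x).1 hx⟩,
      fun e => hx1 (conj_eq_one_iff.1 (congrArg Subtype.val e))⟩
  have hinj : Function.Injective f := by
    intro l l' e
    have e' : (l : G) * x * (l : G)⁻¹ = (l' : G) * x * (l' : G)⁻¹ :=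
      congrArg (fun z : {z : ↥(F.Q : Subgroup G) // z ≠ 1} => ((z.1 : G))) e
    have h1 := F.L_semiregular hG (mul_mem (inv_mem l'.2) l.2) hx hx1 (by
      calc (l' : G)⁻¹ * l * x = (l' : G)⁻¹ * ((l : G) * x * (l : G)⁻¹) * l := by group
        _ = (l' : G)⁻¹ * ((l' : G) * x * (l' : G)⁻¹) * l := by rw [e']
        _ = x * ((l' : G)⁻¹ * l) := by group)
    exact Subtype.ext (inv_mul_eq_one.1 h1).symm
  have hcard : Nat.card {z : ↥(F.Q : Subgroup G) // z ≠ 1} = 8 := by
    rw [Nat.card_eq_fintype_card, Fintype.card_subtype_compl, Fintype.card_subtype_eq,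
      ← Nat.card_eq_fintype_card, (sylow_three_facts hG F.Q).1]
  obtain ⟨l, hl⟩ := ((Nat.bijective_iff_injective_and_card f).2 ⟨hinj, by rw [F.card_L hG, hcard]⟩).2
    ⟨⟨y, hy⟩, fun e => hy1 (congrArg Subtype.val e)⟩
  exact ⟨l, l.2, congrArg (fun z : {z : ↥(F.Q : Subgroup G) // z ≠ 1} => ((z.1 : G))) hl⟩

theorem stabilizer_pair (hG : Nat.card G = 7920) {g : G} (hQ : g • F.Q = F.Q) (hR : g • F.R = F.R) :
    g ∈ F.L := by
  have h := F.iQ.smul g
  have h' := F.iR.smul g
  rw [hQ] at h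
  rw [hR] at h'
  have e := F.iQ.unique hG F.hQR F.iR h h'
  exact ⟨⟨Sylow.smul_eq_iff_mem_normalizer.1 hQ,
    mem_centralizer_singleton_iff.2 (mul_inv_eq_iff_eq_mul.1 e)⟩, Sylow.smul_eq_iff_mem_normalizer.1 hR⟩

theorem adj_R : Adj F.Q F.R := ⟨F.hQR, F.t, F.iQ, F.iR⟩

theorem adj_R' : Adj F.Q F.R' := ⟨F.hQR', F.t, F.iQ, F.iR'⟩

theorem adj_iff (hG : Nat.card G = 7920) (S : Sylow 3 G) :
    Adj F.Q S ↔ ∃ x ∈ (F.Q : Subgroup G), S = x • F.R ∨ S = x • F.R' := by
  constructor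
  · rintro ⟨hne, s, hsQ, hsS⟩
    obtain ⟨y, hy, -, e⟩ := F.iQ.exists_conj hG hsQ
    have h := hsS.smul y⁻¹
    rw [← e, inv_inv, show y⁻¹ * (y * F.t * y⁻¹) * y = F.t by group] at h
    rcases F.only _ h with h' | h' | h'
    · exfalso
      rw [inv_smul_eq_iff, Sylow.smul_eq_iff_mem_normalizer.2 (Subgroup.le_normalizer hy)] at h'
      exact hne h'.symm
    · exact ⟨y, hy, Or.inl (inv_smul_eq_iff.1 h')⟩
    · exact ⟨y, hy, Or.inr (inv_smul_eq_iff.1 h')⟩
  · rintro ⟨x, hx, rfl | rfl⟩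
    · have := F.adj_R.smul x
      rwa [Sylow.smul_eq_iff_mem_normalizer.2 (Subgroup.le_normalizer hx)] at this
    · have := F.adj_R'.smul x
      rwa [Sylow.smul_eq_iff_mem_normalizer.2 (Subgroup.le_normalizer hx)] at this

theorem orbit_injective (hG : Nat.card G = 7920) {x y : G} (hx : x ∈ (F.Q : Subgroup G))
    (hy : y ∈ (F.Q : Subgroup G)) {S : Sylow 3 G} (hS : F.Q ≠ S) (h : x • S = y • S) : x = y := by
  by_contra hne
  refine hS (eq_of_mem_normalizer hG (mul_mem (inv_mem hy) hx) (fun e => hne (inv_mul_eq_one.1 e).symm) ?_)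
  refine Sylow.smul_eq_iff_mem_normalizer.1 ?_
  rw [mul_smul, h, inv_smul_smul]

theorem orbit_disjoint (hG : Nat.card G = 7920) {x y : G} (hx : x ∈ (F.Q : Subgroup G))
    (hy : y ∈ (F.Q : Subgroup G)) : x • F.R ≠ y • F.R' := by
  intro h
  obtain ⟨k, hk, hkR⟩ := F.exists_swap hG
  set z := y⁻¹ * x with hz
  have hzQ : z ∈ (F.Q : Subgroup G) := mul_mem (inv_mem hy) hx
  have hzR : z • F.R = F.R' := by rw [hz, mul_smul, h, inv_smul_smul]
  have hl := F.stabilizer_pair hG (g := k⁻¹ * z)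
    (by rw [mul_smul, Sylow.smul_eq_iff_mem_normalizer.2 (Subgroup.le_normalizer hzQ),
      inv_smul_eq_iff, F.smul_Q hk])
    (by rw [mul_smul, hzR, ← hkR, inv_smul_smul])
  have hzK : z ∈ F.K := by
    have := mul_mem hk hl.1
    rwa [mul_inv_cancel_left] at this
  have h1 : z = 1 := F.iQ.commute_mem hG hzQ (mem_centralizer_singleton_iff.1 hzK.2).symm
  rw [h1, one_smul] at hzR
  exact F.hRR' hzR

end Frame

/-- The stabiliser of a Sylow subgroup not adjacent to `Q` has order at most 4. -/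
theorem card_stabilizer_nonadj (hG : Nat.card G = 7920) {Q S : Sylow 3 G} (hne : Q ≠ S)
    (hna : ¬ Adj Q S) :
    Nat.card ↥(normalizer ((Q : Subgroup G) : Set G) ⊓ normalizer ((S : Subgroup G) : Set G)) ≤ 4 := by
  classical
  set H := normalizer ((Q : Subgroup G) : Set G) ⊓ normalizer ((S : Subgroup G) : Set G) with hH
  have hd : Nat.card H ∣ 144 := card_normalizer_three hG Q ▸ Subgroup.card_dvd_of_le inf_le_left
  have h3 : ¬ 3 ∣ Nat.card H := by
    intro h
    obtain ⟨⟨u, hu⟩, huo⟩ := exists_prime_orderOf_dvd_card' (G := H) 3 h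
    rw [Subgroup.orderOf_mk] at huo
    obtain ⟨T, hT⟩ := (IsPGroup.of_card (n := 1)
      (by rw [Nat.card_zpowers, huo, pow_one]) : IsPGroup 3 ↥(zpowers u)).exists_le_sylow
    have hu1 : u ≠ 1 := fun e => by rw [e, orderOf_one] at huo; omega
    have e1 := eq_of_mem_normalizer hG (hT (mem_zpowers u)) hu1 hu.1
    exact hne (e1 ▸ eq_of_mem_normalizer hG (hT (mem_zpowers u)) hu1 hu.2)
  have h16 : Nat.card H ∣ 16 := by
    have h : Nat.card H ∣ 16 * 9 := hd
    refine (Nat.Coprime.dvd_of_dvd_mul_right ?_ h)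
    rw [show (9 : ℕ) = 3 ^ 2 by norm_num]
    exact ((Nat.Prime.coprime_iff_not_dvd Nat.prime_three).2 h3).symm.pow_right 2
  by_contra h4
  push Not at h4
  have h44 : 4 ∣ Nat.card H := by
    have := Nat.le_of_dvd (by norm_num) h16
    interval_cases Nat.card H <;> norm_num at *
  have : Fact (Nat.Prime 2) := ⟨Nat.prime_two⟩
  obtain ⟨M', hM'⟩ := Sylow.exists_subgroup_card_pow_prime (G := ↥H) 2 (n := 2) h44
  have hM : Nat.card ↥(M'.map H.subtype) = 4 := by
    rw [← Nat.card_congr (M'.equivMapOfInjective H.subtype H.subtype_injective).toEquiv, hM']; norm_num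
  obtain ⟨t, htM, hinv⟩ := exists_inverting_of_four hG Q hM ((Subgroup.map_subtype_le M').trans inf_le_left)
  have htH : t ∈ H := Subgroup.map_subtype_le M' htM
  obtain ⟨hQ9, -, hexp⟩ := sylow_three_facts hG Q
  have hHQ : ∀ y ∈ H, y ∈ (Q : Subgroup G) → y = 1 := fun y hy hyQ => by
    apply orderOf_eq_one_iff.1
    exact Nat.eq_one_of_dvd_coprimes (show Nat.Coprime 16 9 by norm_num)
      ((Subgroup.orderOf_dvd_natCard _ hy).trans h16) (hQ9 ▸ Subgroup.orderOf_dvd_natCard _ hyQ)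
  have htt : t * t = 1 := by
    refine hHQ _ (mul_mem htH htH) ?_
    rw [← centralizer_sylow_three hG Q]
    refine mem_centralizer_iff.2 fun y hy => ?_
    have : t * t * y * (t * t)⁻¹ = y := by
      rw [show t * t * y * (t * t)⁻¹ = t * (t * y * t⁻¹) * t⁻¹ by group, hinv y hy,
        show t * y⁻¹ * t⁻¹ = (t * y * t⁻¹)⁻¹ by group, hinv y hy, inv_inv]
    exact (mul_inv_eq_iff_eq_mul.1 this).symm
  have ht1 : t ≠ 1 := by
    rintro rfl
    obtain ⟨⟨y, hy⟩, hyo⟩ := exists_prime_orderOf_dvd_card' (G := ↥(Q : Subgroup G)) 3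
      (by rw [hQ9]; norm_num)
    rw [Subgroup.orderOf_mk] at hyo
    have hh : y = y⁻¹ := by simpa using hinv y hy
    rw [eq_one_of_sq_of_cube (by nth_rw 2 [hh]; exact mul_inv_cancel y) (hexp y hy), orderOf_one] at hyo
    omega
  have hIQ : Inverts t Q := ⟨ht1, htt, hinv⟩
  have hcomm : ∀ h ∈ H, h * t = t * h := by
    intro h hh
    have h' := hIQ.smul h
    rw [Sylow.smul_eq_iff_mem_normalizer.2 hh.1] at h'
    obtain ⟨y, hy, e, -⟩ := hIQ.exists_conj hG h'
    have hyH : y ∈ H := by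
      have : y = t⁻¹ * (h * t * h⁻¹) := eq_inv_mul_of_mul_eq e.symm
      rw [this]
      exact mul_mem (inv_mem htH) (mul_mem (mul_mem hh htH) (inv_mem hh))
    rw [hHQ y hyH hy, mul_one] at e
    exact mul_inv_eq_iff_eq_mul.1 e
  -- a fixed element of `S`
  obtain ⟨hS9, habS, hexpS⟩ := sylow_three_facts hG S
  obtain ⟨x0, hx0, hx0ne⟩ : ∃ x ∈ (S : Subgroup G), t * x * t⁻¹ ≠ x⁻¹ := by
    by_contra hall
    push Not at hall
    exact hna ⟨hne, t, hIQ, ht1, htt, hall⟩
  have htx0 : t * x0 * t⁻¹ ∈ (S : Subgroup G) := (mem_normalizer_iff.1 htH.2 x0).1 hx0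
  set x := x0 * (t * x0 * t⁻¹) with hx
  have hxS : x ∈ (S : Subgroup G) := mul_mem hx0 htx0
  have hx1 : x ≠ 1 := fun h => hx0ne (eq_inv_of_mul_eq_one_right h)
  have hxt : t * x = x * t := by
    refine mul_inv_eq_iff_eq_mul.1 ?_
    rw [hx, show t * (x0 * (t * x0 * t⁻¹)) * t⁻¹ = (t * x0 * t⁻¹) * ((t * t) * x0 * (t * t)⁻¹) by group,
      htt, show (1 : G) * x0 * 1⁻¹ = x0 by group, habS _ htx0 _ hx0]
  set Fx := (S : Subgroup G) ⊓ centralizer ({t} : Set G) with hFx
  have hxF : zpowers x ≤ Fx := zpowers_le.2 ⟨hxS, mem_centralizer_singleton_iff.2 hxt.symm⟩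
  have hxo : orderOf x = 3 := orderOf_eq_prime (hexpS x hxS) hx1
  have hF3 : Nat.card Fx = 3 := by
    have hd' : Nat.card Fx ∣ 9 := hS9 ▸ Subgroup.card_dvd_of_le inf_le_left
    have h9 : Nat.card Fx ≠ 9 := by
      intro h
      have htC : t ∈ centralizer ((S : Subgroup G) : Set G) := mem_centralizer_iff.2 fun y hy =>
        mem_centralizer_singleton_iff.1 ((Subgroup.eq_of_le_of_card_ge inf_le_left
          (by rw [h, hS9]) : Fx = _).ge hy).2
      rw [centralizer_sylow_three hG S] at htC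
      exact ht1 (eq_one_of_sq_of_cube htt (hexpS t htC))
    have h3' := Subgroup.card_dvd_of_le hxF
    rw [Nat.card_zpowers, hxo] at h3'
    have := Nat.le_of_dvd (by norm_num) hd'
    interval_cases hc : Nat.card Fx <;> omega
  have hFeq : zpowers x = Fx :=
    Subgroup.eq_of_le_of_card_ge hxF (by rw [hF3, Nat.card_zpowers, hxo])
  have hconj : ∀ h ∈ H, h * x * h⁻¹ = x ∨ h * x * h⁻¹ = x⁻¹ := by
    intro h hh
    have hmem : h * x * h⁻¹ ∈ Fx := by
      refine ⟨(mem_normalizer_iff.1 hh.2 x).1 hxS, mem_centralizer_singleton_iff.2 ?_⟩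
      have hhi : h⁻¹ * t = t * h⁻¹ := hcomm _ (inv_mem hh)
      rw [mul_assoc _ h⁻¹ t, hhi, ← mul_assoc, mul_assoc h x t, ← hxt, ← mul_assoc h t x, hcomm h hh]
      simp only [mul_assoc]
    rw [← hFeq] at hmem
    obtain ⟨k, hk, hk'⟩ := Finset.mem_image.1
      ((IsOfFinOrder.mem_zpowers_iff_mem_range_orderOf (isOfFinOrder_of_finite x)).1 hmem)
    rw [Finset.mem_range, hxo] at hk
    interval_cases k
    · exact absurd (conj_eq_one_iff.1 (hk'.symm.trans (pow_zero x))) hx1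
    · exact Or.inl (by simpa using hk'.symm)
    · right
      rw [← hk']
      apply eq_inv_of_mul_eq_one_left
      rw [← pow_succ]
      exact orderOf_dvd_iff_pow_eq_one.1 hxo.dvd
  set H1 := H ⊓ centralizer ({x} : Set G)
  have h1 : Nat.card H1 ≤ 2 := by
    have a1 : Nat.card H1 ∣ 16 := (Subgroup.card_dvd_of_le inf_le_left).trans h16
    have a2 : Nat.card H1 ∣ 18 := card_centralizer_three_elt hG S hxS hx1 ▸
      Subgroup.card_dvd_of_le inf_le_right
    exact Nat.le_of_dvd (by norm_num) (Nat.dvd_gcd a1 a2 : Nat.card H1 ∣ 2)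
  let f : H → Bool := fun h => decide ((h : G) * x * (h : G)⁻¹ = x)
  have hfib : ∀ b, (Finset.univ.filter fun h => f h = b).card ≤ Nat.card H1 := by
    intro b
    rcases (Finset.univ.filter fun h => f h = b).eq_empty_or_nonempty with he | ⟨g0, hg0⟩
    · rw [he]; simp
    rw [Nat.card_eq_fintype_card, ← Finset.card_univ]
    refine Finset.card_le_card_of_injOn (fun g => if h : (g0 : G)⁻¹ * (g : G) ∈ H1 then
      (⟨(g0 : G)⁻¹ * (g : G), h⟩ : ↥H1) else 1) (fun _ _ => Finset.mem_univ _) ?_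
    have hmem : ∀ g ∈ Finset.univ.filter (fun g => f g = b), (g0 : G)⁻¹ * (g : G) ∈ H1 := by
      intro g hg
      refine Subgroup.mem_inf.2 ⟨mul_mem (inv_mem g0.2) g.2, mem_centralizer_singleton_iff.2 ?_⟩
      have e1 := (Finset.mem_filter.1 hg).2
      have e0 := (Finset.mem_filter.1 hg0).2
      have heq : (g : G) * x * (g : G)⁻¹ = (g0 : G) * x * (g0 : G)⁻¹ := by
        simp only [f] at e1 e0
        rcases hconj g g.2 with c1 | c1 <;> rcases hconj g0 g0.2 with c0 | c0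
        · rw [c1, c0]
        · by_cases hxx : x⁻¹ = x
          · rw [c1, c0, hxx]
          · simp [c1, c0, hxx] at e1 e0; simp [e1] at e0
        · by_cases hxx : x⁻¹ = x
          · rw [c1, c0, hxx]
          · simp [c1, c0, hxx] at e1 e0; simp [e1] at e0
        · rw [c1, c0]
      calc (g0 : G)⁻¹ * g * x = (g0 : G)⁻¹ * ((g : G) * x * (g : G)⁻¹) * g := by group
        _ = (g0 : G)⁻¹ * ((g0 : G) * x * (g0 : G)⁻¹) * g := by rw [heq]
        _ = x * ((g0 : G)⁻¹ * g) := by group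
    intro g hg g' hg' h
    simp only [dif_pos (hmem g hg), dif_pos (hmem g' hg'), Subtype.mk.injEq] at h
    exact Subtype.ext (mul_left_cancel h)
  have hle := Finset.card_le_mul_card_image (f := f) (Finset.univ : Finset H) (Nat.card H1)
    (fun b _ => hfib b)
  rw [Finset.card_univ, ← Nat.card_eq_fintype_card] at hle
  have := Nat.mul_le_mul h1 ((Finset.card_le_univ (Finset.univ.image f)).trans (le_of_eq Fintype.card_bool))
  omega

end CfsgLib.M11Order
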