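import Cfsg.Agent.Lib.Sporadic.M11Order.Values

/-!
A simple group of order 7920: the normalisers of the Sylow `3`-subgroups.
-/

set_option autoImplicit false

open scoped ComplexConjugate

namespace CfsgLib.M11Order

open Subgroup SmallOrder

universe u

variable {G : Type u} [Group G]

/-- Some element of a faithful group of order 4 acting on a group of order 9 of exponent 3 inverts it. -/
theorem exists_inverting [Finite G] {Q K : Subgroup G} (hQ : Nat.card Q = 9) (hexp : ∀ x ∈ Q, x ^ 3 = 1)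
    (hK : Nat.card K = 4) (hnorm : ∀ g ∈ K, ∀ x ∈ Q, g * x * g⁻¹ ∈ Q)
    (hfaith : ∀ g ∈ K, (∀ x ∈ Q, g * x * g⁻¹ = x) → g = 1) :
    ∃ w ∈ K, ∀ x ∈ Q, w * x * w⁻¹ = x⁻¹ := by
  classical
  have : Fact (Nat.Prime 3) := ⟨by norm_num⟩
  have : Fact (Nat.Prime 2) := ⟨by norm_num⟩
  have hQc : ∀ x ∈ Q, ∀ y ∈ Q, x * y = y * x := fun x hx y hy =>
    congrArg Subtype.val ((IsPGroup.isMulCommutative_of_card_eq_prime_sq (p := 3) (G := Q)
      (hQ.trans (by norm_num))).is_comm.comm ⟨x, hx⟩ ⟨y, hy⟩)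
  have hKc : ∀ x ∈ K, ∀ y ∈ K, x * y = y * x := fun x hx y hy =>
    congrArg Subtype.val ((IsPGroup.isMulCommutative_of_card_eq_prime_sq (p := 2) (G := K)
      (hK.trans (by norm_num))).is_comm.comm ⟨x, hx⟩ ⟨y, hy⟩)
  obtain ⟨⟨u, huK⟩, hu⟩ := exists_prime_orderOf_dvd_card' (G := K) 2 (by rw [hK]; norm_num)
  rw [Subgroup.orderOf_mk] at hu
  have hu2 : u * u = 1 := by rw [← pow_two]; exact hu ▸ pow_orderOf_eq_one u
  have hu1 : u ≠ 1 := fun h => by rw [h, orderOf_one] at hu; omega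
  by_cases hall : ∀ x ∈ Q, u * x * u⁻¹ = x⁻¹
  · exact ⟨u, huK, hall⟩
  push Not at hall
  obtain ⟨a0, ha0, hne⟩ := hall
  have huu : ∀ x : G, u * (u * x * u⁻¹) * u⁻¹ = x := fun x => by
    rw [show u * (u * x * u⁻¹) * u⁻¹ = (u * u) * x * (u * u)⁻¹ by group, hu2]; group
  -- a fixed element
  set a := a0 * (u * a0 * u⁻¹) with ha
  have haQ : a ∈ Q := mul_mem ha0 (hnorm u huK a0 ha0)
  have hafix : u * a * u⁻¹ = a := by
    rw [ha, show u * (a0 * (u * a0 * u⁻¹)) * u⁻¹ = (u * a0 * u⁻¹) * (u * (u * a0 * u⁻¹) * u⁻¹) by group,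
      huu, hQc _ (hnorm u huK a0 ha0) _ ha0]
  have ha1 : a ≠ 1 := fun h => hne (eq_inv_of_mul_eq_one_right h)
  -- an inverted element
  obtain ⟨b0, hb0, hb0ne⟩ : ∃ x ∈ Q, u * x * u⁻¹ ≠ x := by
    by_contra h
    push Not at h
    exact hu1 (hfaith u huK h)
  set b := b0⁻¹ * (u * b0 * u⁻¹) with hb
  have hbQ : b ∈ Q := mul_mem (inv_mem hb0) (hnorm u huK b0 hb0)
  have hbinv : u * b * u⁻¹ = b⁻¹ := by
    rw [hb, show u * (b0⁻¹ * (u * b0 * u⁻¹)) * u⁻¹ = (u * b0 * u⁻¹)⁻¹ * (u * (u * b0 * u⁻¹) * u⁻¹) by group,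
      huu]
    group
  have hb1 : b ≠ 1 := fun h => hb0ne (inv_mul_eq_one.1 h).symm
  -- the subgroups generated
  have hne_inv : ∀ x ∈ Q, x ≠ 1 → x⁻¹ ≠ x := by
    intro x hx hx1 h
    apply hx1
    have h2 : x ^ 2 = 1 := by rw [pow_two]; nth_rw 1 [← h]; exact inv_mul_cancel x
    have := hexp x hx
    rw [pow_succ, h2, one_mul] at this
    exact this
  have hord : ∀ x ∈ Q, x ≠ 1 → orderOf x = 3 := fun x hx h1 => orderOf_eq_prime (hexp x hx) h1
  -- a subgroup of `Q` containing `a` and `b` is everything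
  have htop : ∀ S : Subgroup G, a ∈ S → b ∈ S → Q ≤ S := by
    intro S haS hbS x hx
    by_contra hxS
    have hlt : ¬ Q ≤ S := fun h => hxS (h hx)
    have hd : Nat.card ↥(Q ⊓ S) ∣ 9 := hQ ▸ Subgroup.card_dvd_of_le inf_le_left
    have hne9 : Nat.card ↥(Q ⊓ S) ≠ 9 := fun h =>
      hlt (inf_eq_left.1 (Subgroup.eq_of_le_of_card_ge inf_le_left (by rw [h, hQ])))
    have ha3 : zpowers a ≤ Q ⊓ S := zpowers_le.2 ⟨haQ, haS⟩
    have hb3 : b ∈ Q ⊓ S := ⟨hbQ, hbS⟩
    have h3 : Nat.card ↥(Q ⊓ S) = 3 := by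
      have h := Subgroup.card_dvd_of_le ha3
      rw [Nat.card_zpowers, hord a haQ ha1] at h
      have := Nat.le_of_dvd (by norm_num) hd
      interval_cases hc : Nat.card ↥(Q ⊓ S) <;> omega
    have heq : zpowers a = Q ⊓ S :=
      Subgroup.eq_of_le_of_card_ge ha3 (by rw [h3, Nat.card_zpowers, hord a haQ ha1])
    rw [← heq, mem_zpowers_iff] at hb3
    obtain ⟨k, hk⟩ := hb3
    have : u * b * u⁻¹ = b := by
      rw [← hk, ← conj_zpow, hafix]
    exact hne_inv b hbQ hb1 (hbinv.symm.trans this)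
  have heigen : ∀ v ∈ K, (v * a * v⁻¹ = a ∨ v * a * v⁻¹ = a⁻¹) ∧ (v * b * v⁻¹ = b ∨ v * b * v⁻¹ = b⁻¹) := by
    intro v hv
    have hcomm : u * v = v * u := hKc u huK v hv
    have key : ∀ x y : G, u * x * u⁻¹ = y → u * (v * x * v⁻¹) * u⁻¹ = v * y * v⁻¹ := fun x y h => by
      rw [← h, show u * (v * x * v⁻¹) * u⁻¹ = (u * v) * x * (u * v)⁻¹ by group, hcomm]; group
    -- elements fixed by `u` are powers of `a`, elements inverted are powers of `b`
    have pow3 : ∀ x y : G, orderOf x = 3 → y ∈ zpowers x → y ≠ 1 → y = x ∨ y = x⁻¹ := by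
      intro x y hx hy hy1
      obtain ⟨k, hk, rfl⟩ := (IsOfFinOrder.mem_zpowers_iff_mem_range_orderOf (isOfFinOrder_of_finite x)).1 hy
        |> Finset.mem_image.1
      rw [Finset.mem_range, hx] at hk
      interval_cases k
      · exact absurd (pow_zero x) hy1
      · exact Or.inl (pow_one x)
      · right
        apply eq_inv_of_mul_eq_one_left
        rw [← pow_succ]
        exact orderOf_dvd_iff_pow_eq_one.1 hx.dvd
    constructor
    · refine pow3 a _ (hord a haQ ha1) ?_ (by simpa [conj_eq_one_iff] using ha1)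
      by_contra hno
      -- then the fixed subgroup contains two independent elements
      let F : Subgroup G := centralizer {u}
      have h1 : a ∈ F := mem_centralizer_singleton_iff.2 ((mul_inv_eq_iff_eq_mul.1 hafix).symm)
      have h2 : v * a * v⁻¹ ∈ F := mem_centralizer_singleton_iff.2
        ((mul_inv_eq_iff_eq_mul.1 (key a a hafix)).symm)
      have hxQ := hnorm v hv a haQ
      have hd : Nat.card ↥(Q ⊓ F) ∣ 9 := hQ ▸ Subgroup.card_dvd_of_le inf_le_left
      have hlt : zpowers a ≤ Q ⊓ F := zpowers_le.2 ⟨haQ, h1⟩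
      have hne3 : Nat.card ↥(Q ⊓ F) ≠ 3 := fun h => hno (by
        rw [Subgroup.eq_of_le_of_card_ge hlt (by rw [h, Nat.card_zpowers, hord a haQ ha1])]
        exact ⟨hxQ, h2⟩)
      have h9 : Nat.card ↥(Q ⊓ F) = 9 := by
        have h := Subgroup.card_dvd_of_le hlt
        rw [Nat.card_zpowers, hord a haQ ha1] at h
        have := Nat.le_of_dvd (by norm_num) hd
        interval_cases hc : Nat.card ↥(Q ⊓ F) <;> omega
      have hbF : b ∈ F := (inf_eq_left.1 (Subgroup.eq_of_le_of_card_ge inf_le_left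
        (by rw [h9, hQ] : Nat.card ↥Q ≤ Nat.card ↥(Q ⊓ F)))) hbQ
      apply hne_inv b hbQ hb1
      rw [← hbinv, mul_inv_eq_iff_eq_mul]
      exact (mem_centralizer_singleton_iff.1 hbF).symm
    · refine pow3 b _ (hord b hbQ hb1) ?_ (by simpa [conj_eq_one_iff] using hb1)
      by_contra hno
      let I : Subgroup G :=
        { carrier := {x | x ∈ Q ∧ u * x * u⁻¹ = x⁻¹}
          one_mem' := ⟨one_mem Q, by simp⟩
          mul_mem' := fun {x y} hx hy => ⟨mul_mem hx.1 hy.1, by
            rw [show u * (x * y) * u⁻¹ = (u * x * u⁻¹) * (u * y * u⁻¹) by group, hx.2, hy.2, ← mul_inv_rev,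
              hQc y hy.1 x hx.1]⟩
          inv_mem' := fun {x} hx => ⟨inv_mem hx.1, by
            rw [show u * x⁻¹ * u⁻¹ = (u * x * u⁻¹)⁻¹ by group, hx.2]⟩ }
      have h1 : b ∈ I := ⟨hbQ, hbinv⟩
      have h2 : v * b * v⁻¹ ∈ I := ⟨hnorm v hv b hbQ, by rw [key b _ hbinv]; group⟩
      have hIQ : I ≤ Q := fun x hx => hx.1
      have hlt : zpowers b ≤ I := zpowers_le.2 h1
      have hd : Nat.card ↥I ∣ 9 := hQ ▸ Subgroup.card_dvd_of_le hIQ
      have hne3 : Nat.card ↥I ≠ 3 := fun h => hno (by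
        rw [Subgroup.eq_of_le_of_card_ge hlt (by rw [h, Nat.card_zpowers, hord b hbQ hb1])]
        exact h2)
      have h9 : Nat.card ↥I = 9 := by
        have h := Subgroup.card_dvd_of_le hlt
        rw [Nat.card_zpowers, hord b hbQ hb1] at h
        have := Nat.le_of_dvd (by norm_num) hd
        interval_cases hc : Nat.card ↥I <;> omega
      have haI : a ∈ I := (Subgroup.eq_of_le_of_card_ge hIQ (by rw [h9, hQ])).ge haQ
      exact hne_inv a haQ ha1 (haI.2.symm.trans hafix)
  obtain ⟨⟨v, hvK⟩, hv⟩ : ∃ v : K, (v : G) ∉ zpowers u := by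
    by_contra h
    push Not at h
    have hle : K ≤ zpowers u := fun x hx => h ⟨x, hx⟩
    have := Subgroup.card_le_of_le hle
    rw [Nat.card_zpowers, hu, hK] at this
    omega
  -- finish by comparing signs
  have fin : ∀ w ∈ K, w * a * w⁻¹ = a⁻¹ → w * b * w⁻¹ = b⁻¹ → ∀ x ∈ Q, w * x * w⁻¹ = x⁻¹ := by
    intro w hw h1 h2
    let I : Subgroup G :=
      { carrier := {x | x ∈ Q ∧ w * x * w⁻¹ = x⁻¹}
        one_mem' := ⟨one_mem Q, by simp⟩
        mul_mem' := fun {x y} hx hy => ⟨mul_mem hx.1 hy.1, by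
          rw [show w * (x * y) * w⁻¹ = (w * x * w⁻¹) * (w * y * w⁻¹) by group, hx.2, hy.2, ← mul_inv_rev,
            hQc y hy.1 x hx.1]⟩
        inv_mem' := fun {x} hx => ⟨inv_mem hx.1, by
          rw [show w * x⁻¹ * w⁻¹ = (w * x * w⁻¹)⁻¹ by group, hx.2]⟩ }
    exact fun x hx => (htop I ⟨haQ, h1⟩ ⟨hbQ, h2⟩ hx).2
  have triv : ∀ w ∈ K, w * a * w⁻¹ = a → w * b * w⁻¹ = b → w = 1 := by
    intro w hw h1 h2
    refine hfaith w hw fun x hx => ?_
    have := htop (centralizer {w}) (mem_centralizer_singleton_iff.2 (mul_inv_eq_iff_eq_mul.1 h1).symm)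
      (mem_centralizer_singleton_iff.2 (mul_inv_eq_iff_eq_mul.1 h2).symm) hx
    exact mul_inv_eq_iff_eq_mul.2 (mem_centralizer_singleton_iff.1 this).symm
  have hcomp : ∀ x y z : G, v * x * v⁻¹ = y → u * y * u⁻¹ = z → (u * v) * x * (u * v)⁻¹ = z :=
    fun x y z h1 h2 => by rw [← h2, ← h1]; group
  obtain ⟨hva, hvb⟩ := heigen v hvK
  rcases hva with hva | hva <;> rcases hvb with hvb | hvb
  · exact absurd (triv v hvK hva hvb) (fun h => hv (h ▸ one_mem _))
  · exfalso
    apply hv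
    have h := triv (u * v) (mul_mem huK hvK) (hcomp a a a hva hafix)
      (hcomp b b⁻¹ b hvb (by rw [show u * b⁻¹ * u⁻¹ = (u * b * u⁻¹)⁻¹ by group, hbinv, inv_inv]))
    change v ∈ zpowers u
    rw [eq_inv_of_mul_eq_one_right h]
    exact inv_mem (mem_zpowers u)
  · refine ⟨u * v, mul_mem huK hvK, fin _ (mul_mem huK hvK) ?_ (hcomp b b b⁻¹ hvb hbinv)⟩
    exact hcomp a a⁻¹ a⁻¹ hva (by rw [show u * a⁻¹ * u⁻¹ = (u * a * u⁻¹)⁻¹ by group, hafix])
  · exact ⟨v, hvK, fin v hvK hva hvb⟩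

variable [Fintype G] [IsSimpleGroup G]

/-- The value at a real element of order 3. -/
theorem exists_int_value_three {x : G} (hx : orderOf x = 3) (hreal : IsConj x x⁻¹)
    (χ : Cfsg.IrrCharacter G) :
    ∃ z : ℤ, χ.1 x = (z : ℂ) ∧ (3 : ℤ) ∣ z - Char.degree χ.1 := by
  obtain ⟨n, ρ, hρ, hχ⟩ := χ.2
  obtain ⟨μ, hμ, -, hinv, hpow⟩ := Char.exists_eigenvalues ρ x
  have hdeg : Char.degree χ.1 = Module.finrank ℂ (Fin n → ℂ) := by rw [← hχ, Char.degree_character]
  have hsame : ρ.character x⁻¹ = ρ.character x := by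
    obtain ⟨c, hc⟩ := isConj_iff.1 hreal
    rw [← hc, ρ.char_conj]
  have h1 := hpow 1
  rw [pow_one] at h1
  have h2 := hpow 2
  have hx2 : x ^ 2 = x⁻¹ := by
    apply eq_inv_of_mul_eq_one_left
    rw [← pow_succ]
    exact orderOf_dvd_iff_pow_eq_one.1 hx.dvd
  rw [hx2, hsame] at h2
  classical
  set N := (Finset.univ.filter fun i => μ i = 1).card with hN
  have key : (Module.finrank ℂ (Fin n → ℂ) : ℂ) + 2 * ρ.character x = 3 * (N : ℂ) := by
    have hterm : ∀ i, 1 + μ i ^ 1 + μ i ^ 2 = if μ i = 1 then (3 : ℂ) else 0 := by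
      intro i
      split_ifs with h
      · rw [h]; norm_num
      · have h3 : μ i ^ 3 = 1 := hx ▸ hμ i
        apply mul_left_cancel₀ (sub_ne_zero.2 h)
        rw [mul_zero]
        linear_combination h3
    have hs := Finset.sum_congr rfl (fun i (_ : i ∈ Finset.univ) => hterm i)
    rw [Finset.sum_add_distrib, Finset.sum_add_distrib, ← h2, ← Finset.sum_filter, Finset.sum_const,
      Finset.sum_const, Finset.card_univ, Fintype.card_fin, nsmul_one, ← hN, nsmul_eq_mul] at hs
    simp only [pow_one] at hs h1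
    rw [← h1] at hs
    linear_combination hs
  have hr : ρ.character x = ((((3 * (N : ℤ) - Module.finrank ℂ (Fin n → ℂ) : ℤ) : ℚ) / 2 : ℚ) : ℂ) := by
    push_cast
    linear_combination key / 2
  obtain ⟨z, hz⟩ := Char.exists_int_of_isIntegral_ratCast (hr ▸ Char.isIntegral_character ρ x)
  have hzC : ρ.character x = (z : ℂ) := by rw [hr, ← hz]; push_cast; ring
  refine ⟨z, hχ ▸ hzC, ?_⟩
  have hzeq : (Module.finrank ℂ (Fin n → ℂ) : ℤ) + 2 * z = 3 * N := by
    apply Int.cast_injective (α := ℂ)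
    push_cast
    rw [← hzC]; exact key
  rw [hdeg]
  omega

/-- An element of order 3 whose centraliser meets the normaliser of `Q` in `Q` does not exist when
it is real. -/
theorem no_semiregular (hG : Nat.card G = 7920) [Fact (Nat.Prime 3)] (Q : Sylow 3 G) {x : G}
    (hxQ : x ∈ (Q : Subgroup G)) (hx : orderOf x = 3) (hreal : IsConj x x⁻¹)
    (hCN : ∀ g ∈ normalizer ((Q : Subgroup G) : Set G), g * x = x * g → g ∈ (Q : Subgroup G))
    (hQab : ∀ y ∈ (Q : Subgroup G), y * x = x * y) : False := by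
  classical
  set C := centralizer ({x} : Set G) with hC
  have hQC : (Q : Subgroup G) ≤ C := fun y hy => mem_centralizer_singleton_iff.2 (hQab y hy)
  have hQ9 : Nat.card ↥(Q : Subgroup G) = 9 := by
    simpa using card_sylow_eq (p := 3) (e := 2) (m := 880) (by rw [hG]; norm_num) (by norm_num) Q
  let Q' : Sylow 3 ↥C := Q.subtype hQC
  have hQ'9 : Nat.card ↥(Q' : Subgroup ↥C) = 9 := by
    rw [← hQ9]
    exact Nat.card_congr (Subgroup.subgroupOfEquivOfLe hQC).toEquiv
  have hN : normalizer ((Q' : Subgroup ↥C) : Set ↥C) = (Q' : Subgroup ↥C) := by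
    refine le_antisymm (fun g hg => ?_) Subgroup.le_normalizer
    have hgN : (g : G) ∈ normalizer ((Q : Subgroup G) : Set G) := by
      refine mem_normalizer_iff.2 fun y => ?_
      constructor
      · intro hy
        exact (mem_normalizer_iff.1 hg ⟨y, hQC hy⟩).1 hy
      · intro hy
        have hyC : y ∈ C := by
          have := mul_mem (mul_mem (inv_mem g.2) (hQC hy)) g.2
          simpa [mul_assoc] using this
        exact (mem_normalizer_iff.1 hg ⟨y, hyC⟩).2 hy
    exact hCN g hgN (mem_centralizer_singleton_iff.1 g.2)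
  have hmod := card_sylow_modEq_one 3 ↥C
  set m := Nat.card (Sylow 3 ↥C)
  have hCm : Nat.card ↥C = 9 * m := by
    have := card_normalizer_mul Q'
    rw [hN, hQ'9] at this
    exact this.symm
  have hmdvd : m ∣ 880 := by
    have h : 9 * m ∣ 9 * 880 := hCm ▸ (Subgroup.card_subgroup_dvd_card C).trans (dvd_of_eq hG)
    exact Nat.dvd_of_mul_dvd_mul_left (by norm_num) h
  have hno : ∀ r : ℕ, r.Prime → (∀ y : G, orderOf y = r → Nat.card ↥(centralizer ({y} : Set G)) = r) →
      r ≠ 3 → ¬ r ∣ m := by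
    intro r hr hcen hr3 hdvd
    have : Fact r.Prime := ⟨hr⟩
    obtain ⟨⟨y, hy⟩, hyo⟩ := exists_prime_orderOf_dvd_card' (G := C) r (hCm ▸ dvd_mul_of_dvd_right hdvd 9)
    rw [Subgroup.orderOf_mk] at hyo
    have hmem : x ∈ centralizer ({y} : Set G) :=
      mem_centralizer_singleton_iff.2 (mem_centralizer_singleton_iff.1 hy).symm
    have h := Subgroup.orderOf_dvd_natCard _ hmem
    rw [hx, hcen y hyo] at h
    exact hr3 ((Nat.prime_dvd_prime_iff_eq Nat.prime_three hr).1 h).symm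
  have h5 := hno 5 (by norm_num) (fun y hy => card_centralizer_five_elt hG hy) (by norm_num)
  have h11 := hno 11 (by norm_num) (fun y hy => card_centralizer_eleven_elt hG hy) (by norm_num)
  have hm : m = 1 ∨ m = 4 ∨ m = 16 := by
    have h16 : m ∣ 16 := by
      have h880 : m ∣ 16 * (5 * 11) := hmdvd
      exact (Nat.Coprime.mul_right ((Nat.Prime.coprime_iff_not_dvd (by norm_num)).2 h5).symm
        ((Nat.Prime.coprime_iff_not_dvd (by norm_num)).2 h11).symm).dvd_of_dvd_mul_right h880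
    have hle := Nat.le_of_dvd (by norm_num) h16
    unfold Nat.ModEq at hmod
    interval_cases m <;> omega
  obtain ⟨T⟩ := exists_table hG
  have hx11 : ¬ 11 ∣ orderOf x := by rw [hx]; norm_num
  obtain ⟨he, ho11⟩ := T.orth11 x hx11
  obtain ⟨z1, e1, c1⟩ := exists_int_value_three hx hreal T.a1
  obtain ⟨z2, e2, c2⟩ := exists_int_value_three hx hreal T.a2
  obtain ⟨z3, e3, c3⟩ := exists_int_value_three hx hreal T.a3
  obtain ⟨z4, e4, c4⟩ := exists_int_value_three hx hreal T.b
  obtain ⟨z0, e0, c0⟩ := exists_int_value_three hx hreal T.e1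
  obtain ⟨zg, eg, cg⟩ := exists_int_value_three hx hreal T.g
  obtain ⟨zh, eh, ch⟩ := exists_int_value_three hx hreal T.h
  obtain ⟨zi, ei, ci⟩ := exists_int_value_three hx hreal T.i
  rw [T.ha1] at c1
  rw [T.ha2] at c2
  rw [T.ha3] at c3
  rw [T.hb] at c4
  rw [T.he1] at c0
  rw [T.hg] at cg
  rw [T.hh] at ch
  rw [T.hi] at ci
  have hnorm := Char.sum_mul_conj (G := G) x x
  rw [if_pos (IsConj.refl x), T.sum_eq, ← hC, hCm] at hnorm
  simp only [Char.principalIrr_apply, e1, e2, e3, e4, e0, he, eg, eh, ei, map_one, map_intCast] at hnorm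
  rw [e1, e2, e3, e4, e0] at ho11
  have q1 : -1 + z1 + z2 + z3 - z4 + z0 = 0 := by
    apply Int.cast_injective (α := ℂ)
    push_cast
    linear_combination ho11
  have q5 : 1 + z1 ^ 2 + z2 ^ 2 + z3 ^ 2 + z4 ^ 2 + 2 * z0 ^ 2 + zg ^ 2 + zh ^ 2 + zi ^ 2 =
      ((9 * m : ℕ) : ℤ) := by
    apply Int.cast_injective (α := ℂ)
    push_cast
    push_cast at hnorm
    linear_combination hnorm
  push_cast at q5
  have one_le : ∀ z : ℤ, ¬ (3 : ℤ) ∣ z → 1 ≤ z ^ 2 := fun z hz => by
    have : z ≠ 0 := fun h => hz (h ▸ dvd_zero 3)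
    have := Int.one_le_abs this
    nlinarith [sq_abs z]
  have b1 := one_le z1 (by omega)
  have b2 := one_le z2 (by omega)
  have b3 := one_le z3 (by omega)
  have b0 := one_le z0 (by omega)
  have bg := one_le zg (by omega)
  have bh := one_le zh (by omega)
  have bi := one_le zi (by omega)
  -- integrality of the central character of a character of degree 16
  obtain ⟨n, ρ, hρ, hχ⟩ := T.e1.2
  have hdiv : ∀ k : ℕ, C.index = k → ∃ w : ℤ, (k : ℤ) * z0 = 16 * w := by
    intro k hk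
    have h := Char.isIntegral_index_mul_char_div ρ x
    have hd : (Module.finrank ℂ (Fin n → ℂ)) = 16 := by
      rw [← Char.degree_character ρ, hχ, T.he1]
    rw [hk, hd, hχ, e0] at h
    have h' : IsIntegral ℤ (((((k : ℤ) * z0 : ℤ) : ℚ) / 16 : ℚ) : ℂ) := by push_cast; simpa using h
    obtain ⟨w, hw⟩ := Char.exists_int_of_isIntegral_ratCast h'
    refine ⟨w, ?_⟩
    apply Int.cast_injective (α := ℚ)
    push_cast at hw ⊢
    linarith
  have hidx := Subgroup.card_mul_index C
  rw [hCm, hG] at hidx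
  rcases hm with hm | hm | hm <;> rw [hm] at q5 hidx <;> push_cast at q5
  · -- all values are units
    have h1 : z1 ^ 2 = 1 := by nlinarith [sq_nonneg z4]
    have h2 : z2 ^ 2 = 1 := by nlinarith [sq_nonneg z4]
    have h3 : z3 ^ 2 = 1 := by nlinarith [sq_nonneg z4]
    have h0 : z0 ^ 2 = 1 := by nlinarith [sq_nonneg z4]
    have h4 : z4 ^ 2 = 0 := by nlinarith [sq_nonneg z4]
    rcases sq_eq_one_iff.1 h1 with h | h <;> rcases sq_eq_one_iff.1 h2 with h' | h' <;>
      rcases sq_eq_one_iff.1 h3 with h'' | h'' <;> rcases sq_eq_one_iff.1 h0 with h0 | h0 <;>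
      rw [pow_eq_zero_iff two_ne_zero] at h4 <;> omega
  · obtain ⟨w, hw⟩ := hdiv 220 (by omega)
    have : z0 ≤ -4 ∨ 4 ≤ z0 := by omega
    rcases this with h | h <;> nlinarith [sq_nonneg z4]
  · obtain ⟨w, hw⟩ := hdiv 55 (by omega)
    have : z0 ≤ -16 ∨ 16 ≤ z0 := by omega
    rcases this with h | h <;> nlinarith [sq_nonneg z4]

/-- `C(Q) = Q` for a Sylow `3`-subgroup. -/
theorem centralizer_sylow_three (hG : Nat.card G = 7920) [Fact (Nat.Prime 3)] (Q : Sylow 3 G) :
    centralizer ((Q : Subgroup G) : Set G) = (Q : Subgroup G) := by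
  classical
  have hQ9 : Nat.card ↥(Q : Subgroup G) = 9 := by
    simpa using card_sylow_eq (p := 3) (e := 2) (m := 880) (by rw [hG]; norm_num) (by norm_num) Q
  have hab := isMulCommutative_of_card_eq_prime_or_sq Q (Or.inr (by rw [hQ9]; norm_num))
  have hle : (Q : Subgroup G) ≤ centralizer ((Q : Subgroup G) : Set G) := fun x hx =>
    mem_centralizer_iff.2 fun y hy => congrArg Subtype.val (hab.is_comm.comm ⟨y, hy⟩ ⟨x, hx⟩)
  refine (Subgroup.eq_of_le_of_card_ge hle ?_).symm
  set C := centralizer ((Q : Subgroup G) : Set G) with hC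
  obtain ⟨j, hj⟩ := hQ9 ▸ Subgroup.card_dvd_of_le hle
  have hj880 : j ∣ 880 := by
    have h : 9 * j ∣ 9 * 880 := hj ▸ (Subgroup.card_subgroup_dvd_card C).trans (dvd_of_eq hG)
    exact Nat.dvd_of_mul_dvd_mul_left (by norm_num) h
  suffices j = 1 by rw [hj, this, hQ9]
  by_contra hj1
  obtain ⟨r, hr, hrj⟩ := Nat.exists_prime_and_dvd hj1
  have : Fact r.Prime := ⟨hr⟩
  obtain ⟨⟨y, hy⟩, hyo⟩ := exists_prime_orderOf_dvd_card' (G := C) r (hj ▸ dvd_mul_of_dvd_right hrj 9)
  rw [Subgroup.orderOf_mk] at hyo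
  have hQy : (Q : Subgroup G) ≤ centralizer ({y} : Set G) := fun x hx =>
    mem_centralizer_singleton_iff.2 (mem_centralizer_iff.1 hy x hx)
  have h9 := hQ9 ▸ Subgroup.card_dvd_of_le hQy
  have hr' : r = 2 ∨ r = 5 ∨ r = 11 := by
    have h : r ∣ 2 ^ 4 * (5 * 11) := hrj.trans hj880
    rcases hr.dvd_mul.1 h with h | h
    · exact Or.inl ((Nat.prime_dvd_prime_iff_eq hr Nat.prime_two).1 (hr.dvd_of_dvd_pow h))
    · rcases hr.dvd_mul.1 h with h | h
      · exact Or.inr (Or.inl ((Nat.prime_dvd_prime_iff_eq hr (by norm_num)).1 h))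
      · exact Or.inr (Or.inr ((Nat.prime_dvd_prime_iff_eq hr (by norm_num)).1 h))
  rcases hr' with rfl | rfl | rfl
  · have hy1 : y ≠ 1 := fun h => by rw [h, orderOf_one] at hyo; omega
    rw [card_centralizer_involution hG hy1 (hyo ▸ pow_orderOf_eq_one y)] at h9
    norm_num at h9
  · rw [card_centralizer_five_elt hG hyo] at h9; norm_num at h9
  · rw [card_centralizer_eleven_elt hG hyo] at h9; norm_num at h9

theorem card_normalizer_three (hG : Nat.card G = 7920) [Fact (Nat.Prime 3)] (Q : Sylow 3 G) :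
    Nat.card ↥(normalizer ((Q : Subgroup G) : Set G)) = 144 := by
  classical
  have hQ9 : Nat.card ↥(Q : Subgroup G) = 9 := by
    simpa using card_sylow_eq (p := 3) (e := 2) (m := 880) (by rw [hG]; norm_num) (by norm_num) Q
  have hab := isMulCommutative_of_card_eq_prime_or_sq Q (Or.inr (by rw [hQ9]; norm_num))
  have hCQ := centralizer_sylow_three hG Q
  set N := normalizer ((Q : Subgroup G) : Set G) with hNdef
  obtain ⟨k, hk⟩ : ∃ k, Nat.card ↥N = 9 * k :=
    hQ9 ▸ Subgroup.card_dvd_of_le (Subgroup.le_normalizer : (Q : Subgroup G) ≤ N)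
  -- the action on `Q`
  set φ := Subgroup.normalizerMonoidHom (Q : Subgroup G) with hφdef
  have hker : Nat.card φ.ker = 9 := by
    rw [hφdef, Subgroup.normalizerMonoidHom_ker, hCQ,
      Nat.card_congr (Subgroup.subgroupOfEquivOfLe (Subgroup.le_normalizer : (Q : Subgroup G) ≤ N)).toEquiv, hQ9]
  have hkaut : k ∣ Nat.card (MulAut ↥(Q : Subgroup G)) := by
    have h := Subgroup.card_mul_index φ.ker
    rw [hker, Subgroup.index_ker] at h
    have he : Nat.card φ.range = k := Nat.eq_of_mul_eq_mul_left (by norm_num : 0 < 9) (h.trans hk)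
    exact he ▸ Subgroup.card_subgroup_dvd_card _
  have hmul := card_normalizer_mul Q
  rw [← hNdef, hk, hG] at hmul
  have hn := card_sylow_mem_sylowCands (p := 3) (e := 2) (m := 880) hG (by norm_num) (by norm_num)
    two_pos (by norm_num)
  have hlist : sylowCands 7920 3 880 = [16, 22, 40, 55, 88, 220, 880] := by decide +kernel
  rw [hlist] at hn
  have haut : ∀ r : ℕ, r.Prime → r ∣ k → r ∣ 3 * ((3 - 1) * (3 + 1)) := fun r hr h =>
    prime_dvd_card_mulAut Nat.prime_three hr (by rw [hQ9]; norm_num) (h.trans hkaut)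
  have hk16 : k = 16 ∨ k = 4 := by
    simp only [List.mem_cons, List.not_mem_nil, or_false] at hn
    rcases hn with hn | hn | hn | hn | hn | hn | hn <;> rw [hn] at hmul
    · have := haut 5 (by norm_num) (by omega); norm_num at this
    · have := haut 5 (by norm_num) (by omega); norm_num at this
    · have := haut 11 (by norm_num) (by omega); norm_num at this
    · exact Or.inl (by omega)
    · have := haut 5 (by norm_num) (by omega); norm_num at this
    · exact Or.inr (by omega)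
    · exfalso
      have hk1 : k = 1 := by omega
      have hQne : (Q : Subgroup G) ≠ ⊤ := fun h => by
        rw [h, Subgroup.card_top, hG] at hQ9; omega
      refine not_normalizer_le_centralizer (by rw [hG]; norm_num) Q hQne ?_
      rw [hCQ]
      exact (Subgroup.eq_of_le_of_card_ge Subgroup.le_normalizer (by rw [hQ9, ← hNdef, hk, hk1])).ge
  rcases hk16 with rfl | rfl
  · rw [hk]
  exfalso
  -- exponent three
  have hexp : ∀ x ∈ (Q : Subgroup G), x ^ 3 = 1 := by
    intro x hx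
    by_contra hne
    have hord : orderOf (⟨x, hx⟩ : ↥(Q : Subgroup G)) = 9 := by
      rw [Subgroup.orderOf_mk]
      exact orderOf_eq_prime_pow (p := 3) (n := 1) (by rwa [pow_one]) (by
        rw [show (3 : ℕ) ^ (1 + 1) = 9 by norm_num]
        exact orderOf_dvd_iff_pow_eq_one.1 (hQ9 ▸ Subgroup.orderOf_dvd_natCard _ hx))
    have : IsCyclic ↥(Q : Subgroup G) := isCyclic_of_orderOf_eq_card _ (hord.trans hQ9.symm)
    rw [IsCyclic.card_mulAut, hQ9, show Nat.totient 9 = 6 from Nat.totient_prime_pow (p := 3) Nat.prime_three (n := 2) two_pos] at hkaut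
    norm_num at hkaut
  have : Fact (Nat.Prime 2) := ⟨Nat.prime_two⟩
  obtain ⟨K', hK'⟩ := Sylow.exists_subgroup_card_pow_prime (G := ↥N) 2 (n := 2)
    (by rw [hk]; norm_num)
  set K := K'.map N.subtype with hKdef
  have hK : Nat.card K = 4 := by
    rw [hKdef, ← Nat.card_congr (K'.equivMapOfInjective N.subtype N.subtype_injective).toEquiv, hK']
    norm_num
  have hKN : K ≤ N := Subgroup.map_subtype_le K'
  have hKQ : ∀ g ∈ K, g ∈ (Q : Subgroup G) → g = 1 := by
    intro g hg hgQ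
    apply orderOf_eq_one_iff.1
    refine Nat.eq_one_of_dvd_coprimes (show Nat.Coprime 4 9 by norm_num) ?_ ?_
    · exact hK ▸ Subgroup.orderOf_dvd_natCard _ hg
    · exact hQ9 ▸ Subgroup.orderOf_dvd_natCard _ hgQ
  have hfaith : ∀ g ∈ K, (∀ x ∈ (Q : Subgroup G), g * x * g⁻¹ = x) → g = 1 := by
    intro g hg h
    refine hKQ g hg (hCQ ▸ mem_centralizer_iff.2 fun y hy => ?_)
    exact (mul_inv_eq_iff_eq_mul.1 (h y hy)).symm
  obtain ⟨w, hwK, hw⟩ := exists_inverting hQ9 hexp hK
    (fun g hg x hx => (mem_normalizer_iff.1 (hKN hg) x).1 hx) hfaith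
  -- an element with trivial stabiliser
  obtain ⟨x, hxQ, hx1, hfix⟩ : ∃ x ∈ (Q : Subgroup G), x ≠ 1 ∧ ∀ g ∈ K, g ≠ 1 → g * x * g⁻¹ ≠ x := by
    by_contra hcon
    push Not at hcon
    have := Fintype.ofFinite ↥(Q : Subgroup G)
    have := Fintype.ofFinite ↥K
    let S := Finset.univ.filter fun x : ↥(Q : Subgroup G) => (x : G) ≠ 1
    let B : ↥K → Finset ↥(Q : Subgroup G) := fun g =>
      S.filter fun x => (g : G) * (x : G) * (g : G)⁻¹ = (x : G)
    have hsub : S ⊆ ((Finset.univ.filter fun g : ↥K => (g : G) ≠ 1 ∧ (g : G) ≠ w)).biUnion B := by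
      intro x hxS
      obtain ⟨g, hg, hg1, hgx⟩ := hcon x x.2 (Finset.mem_filter.1 hxS).2
      refine Finset.mem_biUnion.2 ⟨⟨g, hg⟩, Finset.mem_filter.2 ⟨Finset.mem_univ _, hg1, ?_⟩,
        Finset.mem_filter.2 ⟨hxS, hgx⟩⟩
      rintro rfl
      have h2 : (x : G)⁻¹ = x := (hw x x.2).symm.trans hgx
      apply (Finset.mem_filter.1 hxS).2
      have h22 : (x : G) ^ 2 = 1 := by rw [pow_two]; nth_rw 1 [← h2]; exact inv_mul_cancel _
      have := hexp x x.2
      rwa [pow_succ, h22, one_mul] at this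
    have hB : ∀ g ∈ (Finset.univ.filter fun g : ↥K => (g : G) ≠ 1 ∧ (g : G) ≠ w), (B g).card ≤ 2 := by
      intro g hg
      obtain ⟨-, hg1, -⟩ := Finset.mem_filter.1 hg
      set F := (Q : Subgroup G) ⊓ centralizer ({(g : G)} : Set G)
      have hF : Nat.card F ≤ 3 := by
        have hd : Nat.card F ∣ 9 := hQ9 ▸ Subgroup.card_dvd_of_le inf_le_left
        have hne : Nat.card F ≠ 9 := fun h => hg1 (hfaith g g.2 fun y hy => by
          have hy' : y ∈ F := (Subgroup.eq_of_le_of_card_ge inf_le_left (by rw [h, hQ9])).ge hy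
          exact mul_inv_eq_iff_eq_mul.2 (mem_centralizer_singleton_iff.1 hy'.2).symm)
        have := Nat.le_of_dvd (by norm_num) hd
        interval_cases hc : Nat.card F <;> omega
      have := Fintype.ofFinite F
      have hcard : (B g).card + 1 ≤ Nat.card F := by
        rw [Nat.card_eq_fintype_card, ← Finset.card_univ,
          ← Finset.card_insert_of_notMem (show (1 : ↥(Q : Subgroup G)) ∉ B g by simp [B, S])]
        refine Finset.card_le_card_of_injOn (fun y => if h : (y : G) ∈ F then ⟨y, h⟩ else ⟨1, one_mem F⟩)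
          (fun _ _ => Finset.mem_univ _) ?_
        have hmem : ∀ y ∈ insert (1 : ↥(Q : Subgroup G)) (B g), (y : G) ∈ F := by
          intro y hy
          refine ⟨y.2, mem_centralizer_singleton_iff.2 ?_⟩
          rcases Finset.mem_insert.1 hy with rfl | hy
          · simp
          · exact (mul_inv_eq_iff_eq_mul.1 (Finset.mem_filter.1 hy).2).symm
        intro y hy y' hy' h
        simp only [dif_pos (hmem y hy), dif_pos (hmem y' hy')] at h
        exact Subtype.ext (congrArg (fun z : ↥F => (z : G)) h)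
      omega
    have hKcard : (Finset.univ.filter fun g : ↥K => (g : G) ≠ 1 ∧ (g : G) ≠ w).card ≤ 2 := by
      have hw1 : w ≠ 1 := by
        rintro rfl
        obtain ⟨⟨y, hy⟩, hyo⟩ := exists_prime_orderOf_dvd_card' (G := ↥(Q : Subgroup G)) 3
          (by rw [hQ9]; norm_num)
        rw [Subgroup.orderOf_mk] at hyo
        have h := hw y hy
        simp only [one_mul, inv_one, mul_one] at h
        have h2 : y ^ 2 = 1 := by rw [pow_two]; nth_rw 2 [h]; exact mul_inv_cancel y
        have := orderOf_dvd_of_pow_eq_one h2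
        rw [hyo] at this
        norm_num at this
      have hle : ((Finset.univ : Finset ↥K) \ {1, ⟨w, hwK⟩}).card ≤ 2 := by
        rw [Finset.card_univ_diff, ← Nat.card_eq_fintype_card, hK, Finset.card_pair (fun h => hw1
          (congrArg Subtype.val h).symm)]
      refine le_trans (Finset.card_le_card ?_) hle
      intro g hg
      obtain ⟨-, h1, h2⟩ := Finset.mem_filter.1 hg
      simp [Subtype.ext_iff, h1, h2]
    have hS : S.card = 8 := by
      have : S = Finset.univ.erase 1 := by ext y; simp [S]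
      rw [this, Finset.card_erase_of_mem (Finset.mem_univ _), Finset.card_univ, ← Nat.card_eq_fintype_card,
        hQ9]
    have := Finset.card_le_card hsub
    have := Finset.card_biUnion_le_card_mul _ B 2 hB
    omega
  refine no_semiregular hG Q hxQ (orderOf_eq_prime (hexp x hxQ) hx1) (isConj_iff.2 ⟨w, hw x hxQ⟩) ?_
    (fun y hy => congrArg Subtype.val (hab.is_comm.comm ⟨y, hy⟩ ⟨x, hxQ⟩))
  intro g hg hgx
  have hsup : (Q : Subgroup G).subgroupOf N ⊔ K' = ⊤ := by
    apply Subgroup.eq_top_of_card_eq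
    have h1 := Subgroup.card_dvd_of_le (le_sup_left : (Q : Subgroup G).subgroupOf N ≤ _ ⊔ K')
    have h2 := Subgroup.card_dvd_of_le (le_sup_right : K' ≤ (Q : Subgroup G).subgroupOf N ⊔ K')
    rw [Nat.card_congr (Subgroup.subgroupOfEquivOfLe (Subgroup.le_normalizer : (Q : Subgroup G) ≤ N)).toEquiv,
      hQ9] at h1
    rw [hK', show (2 : ℕ) ^ 2 = 4 by norm_num] at h2
    have h3 := Subgroup.card_subgroup_dvd_card ((Q : Subgroup G).subgroupOf N ⊔ K')
    rw [hk] at h3 ⊢
    exact Nat.dvd_antisymm h3 (Nat.Coprime.mul_dvd_of_dvd_of_dvd (by norm_num) h1 h2)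
  have : ((Q : Subgroup G).subgroupOf N).Normal := Subgroup.normal_subgroupOf_of_le_normalizer le_rfl
  obtain ⟨y, hy, s, hs, hys⟩ := Subgroup.mem_sup_of_normal_left.1 (hsup.ge (mem_top (⟨g, hg⟩ : ↥N)))
  have hgeq : g = (y : G) * (s : G) := (congrArg Subtype.val hys).symm
  have hyQ : (y : G) ∈ (Q : Subgroup G) := hy
  have hsK : (s : G) ∈ K := ⟨s, hs, rfl⟩
  have hs1 : (s : G) = 1 := by
    by_contra hne
    apply hfix s hsK hne
    have hyx : (y : G) * x = x * (y : G) :=
      congrArg Subtype.val (hab.is_comm.comm ⟨_, hyQ⟩ ⟨x, hxQ⟩)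
    have h1 : (y : G) * ((s : G) * x) = (y : G) * (x * (s : G)) := by
      rw [← mul_assoc, ← hgeq, hgx, hgeq, ← mul_assoc, ← hyx, mul_assoc]
    exact mul_inv_eq_iff_eq_mul.2 (mul_left_cancel h1)
  rw [hgeq, hs1, mul_one]
  exact hyQ

end CfsgLib.M11Order
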