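import Cfsg.Agent.Lib.Sporadic.M11Order.Three

/-!
A simple group of order 7920: elements of order 3 and the inverting involutions of a Sylow `3`-subgroup.
-/

set_option autoImplicit false

open scoped Pointwise ComplexConjugate

namespace CfsgLib.M11Order

open Subgroup SmallOrder

universe u

variable {G : Type u} [Group G] [Fintype G] [IsSimpleGroup G]

variable [Fact (Nat.Prime 3)]

/-- A Sylow `3`-subgroup has order 9, is abelian and has exponent 3. -/
theorem sylow_three_facts (hG : Nat.card G = 7920) (Q : Sylow 3 G) :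
    Nat.card ↥(Q : Subgroup G) = 9 ∧
      (∀ x ∈ (Q : Subgroup G), ∀ y ∈ (Q : Subgroup G), x * y = y * x) ∧
      ∀ x ∈ (Q : Subgroup G), x ^ 3 = 1 := by
  have hQ9 : Nat.card ↥(Q : Subgroup G) = 9 := by
    simpa using card_sylow_eq (p := 3) (e := 2) (m := 880) (by rw [hG]; norm_num) (by norm_num) Q
  have hab := isMulCommutative_of_card_eq_prime_or_sq Q (Or.inr (by rw [hQ9]; norm_num))
  refine ⟨hQ9, fun x hx y hy => congrArg Subtype.val (hab.is_comm.comm ⟨x, hx⟩ ⟨y, hy⟩), ?_⟩
  intro x hx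
  by_contra hne
  have hord : orderOf (⟨x, hx⟩ : ↥(Q : Subgroup G)) = 9 := by
    rw [Subgroup.orderOf_mk]
    exact orderOf_eq_prime_pow (p := 3) (n := 1) (by rwa [pow_one]) (by
      rw [show (3 : ℕ) ^ (1 + 1) = 9 by norm_num]
      exact orderOf_dvd_iff_pow_eq_one.1 (hQ9 ▸ Subgroup.orderOf_dvd_natCard _ hx))
  have hcyc : IsCyclic ↥(Q : Subgroup G) := isCyclic_of_orderOf_eq_card _ (hord.trans hQ9.symm)
  have h1 : Nat.card (Subgroup.normalizerMonoidHom (Q : Subgroup G)).ker = 9 := by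
    rw [Subgroup.normalizerMonoidHom_ker, centralizer_sylow_three hG Q,
      Nat.card_congr (Subgroup.subgroupOfEquivOfLe (Subgroup.le_normalizer)).toEquiv, hQ9]
  have h := Subgroup.card_mul_index (Subgroup.normalizerMonoidHom (Q : Subgroup G)).ker
  rw [h1, Subgroup.index_ker, card_normalizer_three hG Q] at h
  have hd := Subgroup.card_subgroup_dvd_card (Subgroup.normalizerMonoidHom (Q : Subgroup G)).range
  rw [IsCyclic.card_mulAut, hQ9, show Nat.totient 9 = 6 from
    Nat.totient_prime_pow (p := 3) Nat.prime_three (n := 2) two_pos] at hd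
  have := Nat.le_of_dvd (by norm_num) hd
  omega

theorem eq_one_of_sq_of_cube {x : G} (h2 : x * x = 1) (h3 : x ^ 3 = 1) : x = 1 := by
  rwa [pow_succ, pow_two, h2, one_mul] at h3

/-- A subgroup of order 4 of the normaliser contains an element inverting `Q`. -/
theorem exists_inverting_of_four (hG : Nat.card G = 7920) (Q : Sylow 3 G) {M : Subgroup G}
    (hM : Nat.card M = 4) (hMN : M ≤ normalizer ((Q : Subgroup G) : Set G)) :
    ∃ w ∈ M, ∀ x ∈ (Q : Subgroup G), w * x * w⁻¹ = x⁻¹ := by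
  obtain ⟨hQ9, -, hexp⟩ := sylow_three_facts hG Q
  refine exists_inverting hQ9 hexp hM (fun g hg x hx => (mem_normalizer_iff.1 (hMN hg) x).1 hx) ?_
  intro g hg h
  have hgQ : g ∈ (Q : Subgroup G) := by
    rw [← centralizer_sylow_three hG Q]
    exact mem_centralizer_iff.2 fun y hy => (mul_inv_eq_iff_eq_mul.1 (h y hy)).symm
  apply orderOf_eq_one_iff.1
  exact Nat.eq_one_of_dvd_coprimes (show Nat.Coprime 4 9 by norm_num)
    (hM ▸ Subgroup.orderOf_dvd_natCard _ hg) (hQ9 ▸ Subgroup.orderOf_dvd_natCard _ hgQ)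

theorem sylow_le_centralizer (hG : Nat.card G = 7920) (Q : Sylow 3 G) {x : G}
    (hx : x ∈ (Q : Subgroup G)) : (Q : Subgroup G) ≤ centralizer ({x} : Set G) := fun y hy =>
  mem_centralizer_singleton_iff.2 ((sylow_three_facts hG Q).2.1 y hy x hx)

/-- The normaliser is transitive on the non-trivial elements of `Q`. -/
theorem normalizer_transitive (hG : Nat.card G = 7920) (Q : Sylow 3 G) {x : G}
    (hx : x ∈ (Q : Subgroup G)) (hx1 : x ≠ 1) :
    Nat.card ↥(normalizer ((Q : Subgroup G) : Set G) ⊓ centralizer ({x} : Set G)) = 18 ∧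
      ∀ y ∈ (Q : Subgroup G), y ≠ 1 →
        ∃ g ∈ normalizer ((Q : Subgroup G) : Set G), g * x * g⁻¹ = y := by
  classical
  obtain ⟨hQ9, hab, hexp⟩ := sylow_three_facts hG Q
  set N := normalizer ((Q : Subgroup G) : Set G) with hN
  set L := N ⊓ centralizer ({x} : Set G) with hL
  have hN144 : Nat.card N = 144 := card_normalizer_three hG Q
  have hQL : (Q : Subgroup G) ≤ L := le_inf Subgroup.le_normalizer (sylow_le_centralizer hG Q hx)
  obtain ⟨j, hj⟩ := hQ9 ▸ Subgroup.card_dvd_of_le hQL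
  have hjd : j ∣ 16 := by
    have h : 9 * j ∣ 9 * 16 := hj ▸
      (Subgroup.card_dvd_of_le (inf_le_left : L ≤ N)).trans (dvd_of_eq (by rw [hN144]))
    exact Nat.dvd_of_mul_dvd_mul_left (by norm_num) h
  have hj4 : ¬ 4 ∣ j := by
    intro h4
    have : Fact (Nat.Prime 2) := ⟨Nat.prime_two⟩
    obtain ⟨M', hM'⟩ := Sylow.exists_subgroup_card_pow_prime (G := ↥L) 2 (n := 2)
      (by rw [hj]; exact dvd_mul_of_dvd_right h4 9)
    have hM : Nat.card ↥(M'.map L.subtype) = 4 := by
      rw [← Nat.card_congr (M'.equivMapOfInjective L.subtype L.subtype_injective).toEquiv, hM']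
      norm_num
    obtain ⟨w, hw, hinv⟩ := exists_inverting_of_four hG Q hM
      ((Subgroup.map_subtype_le M').trans inf_le_left)
    have hwC : w ∈ centralizer ({x} : Set G) := (Subgroup.map_subtype_le M' hw).2
    have h : x⁻¹ = x := (hinv x hx).symm.trans
      (mul_inv_eq_iff_eq_mul.2 (mem_centralizer_singleton_iff.1 hwC))
    exact hx1 (eq_one_of_sq_of_cube (by nth_rw 1 [← h]; exact inv_mul_cancel x) (hexp x hx))
  have hj12 : j = 1 ∨ j = 2 := by
    have := Nat.le_of_dvd (by norm_num) hjd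
    interval_cases j <;> omega
  let f : N → ↥(Q : Subgroup G) := fun g =>
    ⟨(g : G) * x * (g : G)⁻¹, (mem_normalizer_iff.1 g.2 x).1 hx⟩
  have hf1 : ∀ g, (f g : G) ≠ 1 := fun g h => hx1 (conj_eq_one_iff.1 h)
  have hfib : ∀ y : ↥(Q : Subgroup G), (Finset.univ.filter fun g => f g = y).card ≤ 9 * j := by
    intro y
    rcases (Finset.univ.filter fun g => f g = y).eq_empty_or_nonempty with he | ⟨g0, hg0⟩
    · rw [he]; simp
    · rw [← hj, Nat.card_eq_fintype_card, ← Finset.card_univ]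
      refine Finset.card_le_card_of_injOn (fun g => if h : (g0 : G)⁻¹ * (g : G) ∈ L then
        (⟨(g0 : G)⁻¹ * (g : G), h⟩ : ↥L) else 1) (fun _ _ => Finset.mem_univ _) ?_
      have hmem : ∀ g ∈ Finset.univ.filter (fun g => f g = y), (g0 : G)⁻¹ * (g : G) ∈ L := by
        intro g hg
        refine Subgroup.mem_inf.2 ⟨mul_mem (inv_mem g0.2) g.2, mem_centralizer_singleton_iff.2 ?_⟩
        have h : (g : G) * x * (g : G)⁻¹ = (g0 : G) * x * (g0 : G)⁻¹ := congrArg Subtype.val
          ((Finset.mem_filter.1 hg).2.trans (Finset.mem_filter.1 hg0).2.symm)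
        calc (g0 : G)⁻¹ * g * x = (g0 : G)⁻¹ * ((g : G) * x * (g : G)⁻¹) * g := by group
          _ = (g0 : G)⁻¹ * ((g0 : G) * x * (g0 : G)⁻¹) * g := by rw [h]
          _ = x * ((g0 : G)⁻¹ * g) := by group
      intro g hg g' hg' h
      simp only [dif_pos (hmem g hg), dif_pos (hmem g' hg'), Subtype.mk.injEq] at h
      exact Subtype.ext (mul_left_cancel h)
  have hcount : Nat.card N ≤ 9 * j * (Finset.univ.image f).card := by
    rw [Nat.card_eq_fintype_card, ← Finset.card_univ]
    exact Finset.card_le_mul_card_image _ _ (fun y _ => hfib y)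
  have himg : Finset.univ.image f ⊆ Finset.univ.erase 1 := fun y hy => by
    obtain ⟨g, -, rfl⟩ := Finset.mem_image.1 hy
    exact Finset.mem_erase.2 ⟨fun h => hf1 g (congrArg Subtype.val h), Finset.mem_univ _⟩
  have h8 : (Finset.univ.erase (1 : ↥(Q : Subgroup G))).card = 8 := by
    rw [Finset.card_erase_of_mem (Finset.mem_univ _), Finset.card_univ, ← Nat.card_eq_fintype_card, hQ9]
  have hle := Finset.card_le_card himg
  rw [h8] at hle
  rcases hj12 with rfl | rfl
  · omega
  refine ⟨by rw [hj], fun y hy hy1 => ?_⟩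
  have heq : Finset.univ.image f = Finset.univ.erase 1 :=
    Finset.eq_of_subset_of_card_le himg (by rw [h8]; omega)
  obtain ⟨g, -, hg⟩ := Finset.mem_image.1 (heq.ge (Finset.mem_erase.2
    ⟨fun h => hy1 (congrArg Subtype.val h), Finset.mem_univ (⟨y, hy⟩ : ↥(Q : Subgroup G))⟩))
  exact ⟨g, g.2, congrArg Subtype.val hg⟩

/-- The centraliser of an element of order 3. -/
theorem card_centralizer_three_elt (hG : Nat.card G = 7920) (Q : Sylow 3 G) {x : G}
    (hxQ : x ∈ (Q : Subgroup G)) (hx1 : x ≠ 1) :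
    Nat.card ↥(centralizer ({x} : Set G)) = 18 := by
  classical
  obtain ⟨hQ9, hab, hexp⟩ := sylow_three_facts hG Q
  obtain ⟨hL, htr⟩ := normalizer_transitive hG Q hxQ hx1
  have hx : orderOf x = 3 := orderOf_eq_prime (hexp x hxQ) hx1
  have hreal : IsConj x x⁻¹ := by
    obtain ⟨g, -, hg⟩ := htr x⁻¹ (inv_mem hxQ) (inv_ne_one.2 hx1)
    exact isConj_iff.2 ⟨g, hg⟩
  set C := centralizer ({x} : Set G) with hC
  have hQC : (Q : Subgroup G) ≤ C := sylow_le_centralizer hG Q hxQ
  let Q' : Sylow 3 ↥C := Q.subtype hQC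
  have hN : Nat.card ↥(normalizer ((Q' : Subgroup ↥C) : Set ↥C)) = 18 := by
    rw [← hL, ← Nat.card_congr (Subgroup.subgroupOfEquivOfLe
      (inf_le_right : normalizer ((Q : Subgroup G) : Set G) ⊓ C ≤ C)).toEquiv]
    refine Nat.card_congr (Equiv.subtypeEquivRight fun g => ?_)
    constructor
    · intro hg
      refine ⟨mem_normalizer_iff.2 fun y => ⟨fun hy => (mem_normalizer_iff.1 hg ⟨y, hQC hy⟩).1 hy,
        fun hy => ?_⟩, g.2⟩
      have hyC : y ∈ C := by
        have := mul_mem (mul_mem (inv_mem g.2) (hQC hy)) g.2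
        simpa [mul_assoc] using this
      exact (mem_normalizer_iff.1 hg ⟨y, hyC⟩).2 hy
    · intro hg
      exact mem_normalizer_iff.2 fun y => mem_normalizer_iff.1 hg.1 (y : G)
  have hmod := card_sylow_modEq_one 3 ↥C
  set m := Nat.card (Sylow 3 ↥C)
  have hCm : Nat.card ↥C = 18 * m := by
    have := card_normalizer_mul Q'
    rw [hN] at this
    exact this.symm
  have hmdvd : m ∣ 440 := by
    have h : 18 * m ∣ 18 * 440 := hCm ▸ (Subgroup.card_subgroup_dvd_card C).trans (dvd_of_eq hG)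
    exact Nat.dvd_of_mul_dvd_mul_left (by norm_num) h
  have hno : ∀ r : ℕ, r.Prime → (∀ y : G, orderOf y = r → Nat.card ↥(centralizer ({y} : Set G)) = r) →
      r ≠ 3 → ¬ r ∣ m := by
    intro r hr hcen hr3 hdvd
    have : Fact r.Prime := ⟨hr⟩
    obtain ⟨⟨y, hy⟩, hyo⟩ := exists_prime_orderOf_dvd_card' (G := C) r
      (hCm ▸ dvd_mul_of_dvd_right hdvd 18)
    rw [Subgroup.orderOf_mk] at hyo
    have hmem : x ∈ centralizer ({y} : Set G) :=
      mem_centralizer_singleton_iff.2 (mem_centralizer_singleton_iff.1 hy).symm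
    have h := Subgroup.orderOf_dvd_natCard _ hmem
    rw [hx, hcen y hyo] at h
    exact hr3 ((Nat.prime_dvd_prime_iff_eq Nat.prime_three hr).1 h).symm
  have h5 := hno 5 (by norm_num) (fun y hy => card_centralizer_five_elt hG hy) (by norm_num)
  have h11 := hno 11 (by norm_num) (fun y hy => card_centralizer_eleven_elt hG hy) (by norm_num)
  have hm : m = 1 ∨ m = 4 := by
    have h8 : m ∣ 8 := by
      have h440 : m ∣ 8 * (5 * 11) := hmdvd
      exact (Nat.Coprime.mul_right ((Nat.Prime.coprime_iff_not_dvd (by norm_num)).2 h5).symm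
        ((Nat.Prime.coprime_iff_not_dvd (by norm_num)).2 h11).symm).dvd_of_dvd_mul_right h440
    have hle := Nat.le_of_dvd (by norm_num) h8
    unfold Nat.ModEq at hmod
    interval_cases m <;> omega
  rcases hm with hm | hm
  · rw [hCm, hm]
  exfalso
  rw [hm] at hCm
  obtain ⟨T⟩ := exists_table hG
  obtain ⟨z, e0, c0⟩ := exists_int_value_three hx hreal T.e1
  rw [T.he1] at c0
  obtain ⟨n, ρ, hρ, hχ⟩ := T.e1.2
  have hidx := Subgroup.card_mul_index C
  rw [hCm, hG] at hidx
  have h := Char.isIntegral_index_mul_char_div ρ x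
  have hd : (Module.finrank ℂ (Fin n → ℂ)) = 16 := by rw [← Char.degree_character ρ, hχ, T.he1]
  rw [show C.index = 110 by omega, hd, hχ, e0] at h
  have h' : IsIntegral ℤ (((((110 : ℤ) * z : ℤ) : ℚ) / 16 : ℚ) : ℂ) := by push_cast; simpa using h
  obtain ⟨w, hw⟩ := Char.exists_int_of_isIntegral_ratCast h'
  have hw' : (110 : ℤ) * z = 16 * w := by
    apply Int.cast_injective (α := ℚ)
    push_cast at hw ⊢
    linarith
  have hz : z ≤ -8 ∨ 8 ≤ z := by omega
  -- the norm of the column is at least twice the square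
  obtain ⟨he, -⟩ := T.orth11 x (by rw [hx]; norm_num)
  have hnorm := Char.sum_mul_conj (G := G) x x
  rw [if_pos (IsConj.refl x), ← hC, hCm] at hnorm
  have hre := congrArg Complex.re hnorm
  rw [Complex.re_sum] at hre
  have hsub := Finset.sum_le_sum_of_subset_of_nonneg
    (Finset.subset_univ ({T.e1, T.e2} : Finset (Cfsg.IrrCharacter G)))
    (f := fun χ : Cfsg.IrrCharacter G => (χ.1 x * conj (χ.1 x)).re)
    (fun χ _ _ => by rw [Complex.mul_conj]; exact Complex.normSq_nonneg _)
  have hne : T.e1 ≠ T.e2 := by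
    intro h12
    have hc := T.sum_eq fun χ => if χ = T.e1 then 1 else 0
    have hone : ∀ {a : Cfsg.IrrCharacter G} {d : ℕ}, Char.degree a.1 = d → d ≠ 16 → a ≠ T.e1 :=
      fun ha hd h => hd (by rw [← ha, h, T.he1])
    simp [← h12, hone principal_degree (by norm_num), hone T.ha1 (by norm_num),
      hone T.ha2 (by norm_num), hone T.ha3 (by norm_num), hone T.hb (by norm_num),
      hone T.hg (by norm_num), hone T.hh (by norm_num), hone T.hi (by norm_num)] at hc
  rw [Finset.sum_pair hne, he, e0, hre] at hsub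
  norm_num at hsub
  have h64 : (64 : ℝ) ≤ (z : ℝ) * z := by
    have : (64 : ℤ) ≤ z * z := by rcases hz with h | h <;> nlinarith
    exact_mod_cast this
  linarith

/-- An element of order 3 lies in only one Sylow subgroup. -/
theorem sylow_eq_of_mem (hG : Nat.card G = 7920) {Q R : Sylow 3 G} {x : G}
    (hxQ : x ∈ (Q : Subgroup G)) (hxR : x ∈ (R : Subgroup G)) (hx1 : x ≠ 1) : Q = R := by
  classical
  set C := centralizer ({x} : Set G) with hC
  have h18 : Nat.card ↥C = 18 := card_centralizer_three_elt hG Q hxQ hx1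
  have hQC : (Q : Subgroup G) ≤ C := sylow_le_centralizer hG Q hxQ
  have hRC : (R : Subgroup G) ≤ C := sylow_le_centralizer hG R hxR
  have h1 : Nat.card (Sylow 3 ↥C) = 1 := by
    have hmod := card_sylow_modEq_one 3 ↥C
    have hQ9 : Nat.card ↥((Q.subtype hQC : Sylow 3 ↥C) : Subgroup ↥C) = 9 := by
      rw [← (sylow_three_facts hG Q).1]
      exact Nat.card_congr (Subgroup.subgroupOfEquivOfLe hQC).toEquiv
    have hd := (Q.subtype hQC).card_dvd_index
    have hmul := Subgroup.card_mul_index ((Q.subtype hQC : Sylow 3 ↥C) : Subgroup ↥C)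
    rw [hQ9, h18] at hmul
    rw [show ((Q.subtype hQC : Sylow 3 ↥C) : Subgroup ↥C).index = 2 by omega] at hd
    have := Nat.le_of_dvd (by norm_num) hd
    unfold Nat.ModEq at hmod
    interval_cases h : Nat.card (Sylow 3 ↥C) <;> omega
  have hsub : Subsingleton (Sylow 3 ↥C) := (Nat.card_eq_one_iff_unique.1 h1).1
  exact Sylow.subtype_injective (hsub.elim (Q.subtype hQC) (R.subtype hRC))

/-- An element of `Q` other than `1` normalises no other Sylow subgroup. -/
theorem eq_of_mem_normalizer (hG : Nat.card G = 7920) {Q R : Sylow 3 G} {x : G}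
    (hxQ : x ∈ (Q : Subgroup G)) (hx1 : x ≠ 1) (hxR : x ∈ normalizer ((R : Subgroup G) : Set G)) :
    Q = R := by
  have hp : IsPGroup 3 ↥(zpowers x) := IsPGroup.of_card (n := 1) (by
    rw [Nat.card_zpowers, pow_one, orderOf_eq_prime ((sylow_three_facts hG Q).2.2 x hxQ) hx1])
  have h := IsPGroup.inf_normalizer_sylow hp R
  have hmem : x ∈ zpowers x ⊓ normalizer ((R : Subgroup G) : Set G) := ⟨mem_zpowers x, hxR⟩
  exact sylow_eq_of_mem hG hxQ (h.le hmem).2 hx1

/-- Some involution inverts `Q`. -/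
theorem exists_inverting_involution (hG : Nat.card G = 7920) (Q : Sylow 3 G) :
    ∃ t : G, t ≠ 1 ∧ t * t = 1 ∧ ∀ x ∈ (Q : Subgroup G), t * x * t⁻¹ = x⁻¹ := by
  obtain ⟨hQ9, -, hexp⟩ := sylow_three_facts hG Q
  set N := normalizer ((Q : Subgroup G) : Set G) with hN
  have : Fact (Nat.Prime 2) := ⟨Nat.prime_two⟩
  obtain ⟨M', hM'⟩ := Sylow.exists_subgroup_card_pow_prime (G := ↥N) 2 (n := 2)
    (by rw [card_normalizer_three hG Q]; norm_num)
  have hM : Nat.card ↥(M'.map N.subtype) = 4 := by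
    rw [← Nat.card_congr (M'.equivMapOfInjective N.subtype N.subtype_injective).toEquiv, hM']
    norm_num
  obtain ⟨w, hw, hinv⟩ := exists_inverting_of_four hG Q hM (Subgroup.map_subtype_le M')
  obtain ⟨⟨x, hx⟩, hxo⟩ := exists_prime_orderOf_dvd_card' (G := ↥(Q : Subgroup G)) 3
    (by rw [hQ9]; norm_num)
  rw [Subgroup.orderOf_mk] at hxo
  refine ⟨w, fun h => ?_, ?_, hinv⟩
  · have hh : x = x⁻¹ := by simpa [h] using hinv x hx
    have := eq_one_of_sq_of_cube (by nth_rw 2 [hh]; exact mul_inv_cancel x) (hexp x hx)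
    rw [this, orderOf_one] at hxo
    omega
  · have hwQ : w * w ∈ (Q : Subgroup G) := by
      rw [← centralizer_sylow_three hG Q]
      refine mem_centralizer_iff.2 fun y hy => ?_
      have : w * w * y * (w * w)⁻¹ = y := by
        rw [show w * w * y * (w * w)⁻¹ = w * (w * y * w⁻¹) * w⁻¹ by group, hinv y hy,
          show w * y⁻¹ * w⁻¹ = (w * y * w⁻¹)⁻¹ by group, hinv y hy, inv_inv]
      exact (mul_inv_eq_iff_eq_mul.1 this).symm
    apply orderOf_eq_one_iff.1
    exact Nat.eq_one_of_dvd_coprimes (show Nat.Coprime 4 9 by norm_num)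
      (hM ▸ Subgroup.orderOf_dvd_natCard _ (mul_mem hw hw))
      (hQ9 ▸ Subgroup.orderOf_dvd_natCard _ hwQ)

end CfsgLib.M11Order
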