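import Cfsg.Agent.Lib.Sporadic.M11Order.Table

/-!
A simple group of order 7920: degrees, centralisers of involutions and of elements of order 5 and 11.
-/

set_option autoImplicit false

open scoped ComplexConjugate

namespace CfsgLib.M11Order

open Subgroup SmallOrder

universe u

variable {G : Type u} [Group G] [Fintype G] [IsSimpleGroup G]

theorem Table.degree_count (T : Table G) (n : ℕ) :
    Nat.card {χ : Cfsg.IrrCharacter G // Char.degree χ.1 = n} =
      (if n = 1 ∨ n = 11 ∨ n = 44 ∨ n = 45 ∨ n = 55 then 1 else if n = 10 then 3 else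
        if n = 16 then 2 else 0) := by
  classical
  apply Nat.cast_injective (R := ℂ)
  rw [Nat.card_eq_fintype_card, Fintype.card_subtype, Finset.natCast_card_filter, T.sum_eq]
  simp only [principal_degree, T.ha1, T.ha2, T.ha3, T.hb, T.he1, T.he2, T.hg, T.hh, T.hi]
  by_cases h : n ∈ [1, 10, 11, 16, 44, 45, 55]
  · simp only [List.mem_cons, List.not_mem_nil, or_false] at h
    rcases h with rfl | rfl | rfl | rfl | rfl | rfl | rfl <;> norm_num
  · simp only [List.mem_cons, List.not_mem_nil, or_false, not_or] at h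
    obtain ⟨h1, h10, h11, h16, h44, h45, h55⟩ := h
    simp [h1, h10, h11, h16, h44, h45, h55, Ne.symm h1, Ne.symm h10, Ne.symm h11, Ne.symm h16,
      Ne.symm h44, Ne.symm h45, Ne.symm h55]

theorem Table.card_irr (T : Table G) : Nat.card (Cfsg.IrrCharacter G) = 10 := by
  classical
  apply Nat.cast_injective (R := ℂ)
  rw [Nat.card_eq_fintype_card, ← Finset.card_univ, Finset.card_eq_sum_ones, Nat.cast_sum, T.sum_eq]
  norm_num

theorem card_centralizer_involution (hG : Nat.card G = 7920) {y : G} (hy1 : y ≠ 1) (hy2 : y ^ 2 = 1) :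
    Nat.card ↥(centralizer ({y} : Set G)) = 48 := by
  classical
  obtain ⟨T⟩ := exists_table hG
  have hord : orderOf y = 2 := orderOf_eq_prime hy2 hy1
  obtain ⟨he, ho11⟩ := T.orth11 y (by rw [hord]; norm_num)
  have ho5 := T.orth5 y (by rw [hord]; norm_num)
  have hinv := T.invol y hy1 hy2
  have val : ∀ {χ : Cfsg.IrrCharacter G} {d : ℕ}, Char.degree χ.1 = d → 1 < d →
      ∃ z ∈ bVals d, χ.1 y = (z : ℂ) := fun {χ d} hd h1 => by
    have := exists_int_value hG χ (fun h => by rw [h, principal_degree] at hd; omega) hy1 hy2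
    rwa [hd] at this
  obtain ⟨z1, hz1, e1⟩ := val T.ha1 (by norm_num)
  obtain ⟨z2, hz2, e2⟩ := val T.ha2 (by norm_num)
  obtain ⟨z3, hz3, e3⟩ := val T.ha3 (by norm_num)
  obtain ⟨z4, hz4, e4⟩ := val T.hb (by norm_num)
  obtain ⟨z0, hz0, e0⟩ := val T.he1 (by norm_num)
  obtain ⟨zg, hzg, eg⟩ := val T.hg (by norm_num)
  obtain ⟨zh, hzh, eh⟩ := val T.hh (by norm_num)
  obtain ⟨zi, hzi, ei⟩ := val T.hi (by norm_num)
  have hcol := Char.sum_apply_one_mul (G := G) y
  rw [if_neg hy1, T.sum_eq] at hcol
  have hnorm := Char.sum_mul_conj (G := G) y y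
  rw [if_pos (IsConj.refl y), T.sum_eq] at hnorm
  simp only [Char.principalIrr_apply, ← Char.IsCharacter.degree_cast
    (Char.IsIrrCharacter.isCharacter (Subtype.prop _)), T.ha1, T.ha2, T.ha3, T.hb, T.he1, T.he2,
    T.hg, T.hh, T.hi, e1, e2, e3, e4, e0, he, eg, eh, ei] at hcol
  simp only [Char.principalIrr_apply, e1, e2, e3, e4, e0, he, eg, eh, ei, map_one,
    map_intCast] at hnorm
  rw [e1, e2, e3, e4, e0] at ho11 hinv
  rw [he, e0, eg, eh] at ho5
  have q1 : -1 + z1 + z2 + z3 - z4 + z0 = 0 := by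
    apply Int.cast_injective (α := ℂ)
    push_cast
    linear_combination ho11
  have q2 : -720 + 72 * (z1 * z1 + z2 * z2 + z3 * z3) - 16 * (z4 * z4) + 45 * (z0 * z0) = 0 := by
    apply Int.cast_injective (α := ℂ)
    push_cast
    linear_combination hinv
  have q3 : -1 - 2 * z0 - zg + zh = 0 := by
    apply Int.cast_injective (α := ℂ)
    push_cast
    linear_combination ho5
  have q4 : 1 + 10 * (z1 + z2 + z3) + 45 * z4 + 32 * z0 + 11 * zg + 44 * zh + 55 * zi = 0 := by
    apply Int.cast_injective (α := ℂ)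
    push_cast
    push_cast [principal_degree] at hcol
    linear_combination hcol
  set c := Nat.card ↥(centralizer ({y} : Set G)) with hc
  have q5 : 1 + z1 * z1 + z2 * z2 + z3 * z3 + z4 * z4 + 2 * (z0 * z0) + zg * zg + zh * zh + zi * zi =
      (c : ℤ) := by
    apply Int.cast_injective (α := ℂ)
    push_cast
    linear_combination hnorm
  have hcheck : ((bVals 10).all fun z1 => (bVals 10).all fun z2 => (bVals 10).all fun z3 =>
      (bVals 45).all fun z4 => (bVals 16).all fun z0 =>
        !(decide (-1 + z1 + z2 + z3 - z4 + z0 = 0) &&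
          decide (-720 + 72 * (z1 * z1 + z2 * z2 + z3 * z3) - 16 * (z4 * z4) + 45 * (z0 * z0) = 0)) ||
        (decide (z4 = -3) && decide (z0 = 0) && decide (z1 * z1 + z2 * z2 + z3 * z3 = 12))) = true := by
    decide +kernel
  have hA := List.all_eq_true.1 (List.all_eq_true.1 (List.all_eq_true.1 (List.all_eq_true.1
    (List.all_eq_true.1 hcheck z1 hz1) z2 hz2) z3 hz3) z4 hz4) z0 hz0
  simp only [q1, q2, decide_true, Bool.and_self, Bool.not_true, Bool.false_or, Bool.and_eq_true,
    decide_eq_true_eq] at hA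
  obtain ⟨⟨rfl, rfl⟩, hsq⟩ := hA
  have hi : zi = 2 - zg := by omega
  have hh : zh = zg + 1 := by omega
  subst hi hh
  have hcN : (c : ℤ) ∣ 7920 :=
    Int.natCast_dvd_natCast.2 ((Subgroup.card_subgroup_dvd_card (centralizer ({y} : Set G))).trans (dvd_of_eq hG))
  have hcheck2 : ((bVals 11).all fun zg =>
      let c : ℤ := 22 + zg * zg + (zg + 1) * (zg + 1) + (2 - zg) * (2 - zg)
      !(decide ((7920 : ℤ) % c = 0)) || decide (c = 48)) = true := by decide +kernel
  have hB := List.all_eq_true.1 hcheck2 zg hzg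
  have hcval : (c : ℤ) = 22 + zg * zg + (zg + 1) * (zg + 1) + (2 - zg) * (2 - zg) := by
    rw [← q5]; linear_combination hsq
  simp only [Bool.or_eq_true, Bool.not_eq_true', decide_eq_false_iff_not, decide_eq_true_eq,
    ← hcval] at hB
  rcases hB with hB | hB
  · exact absurd (Int.emod_eq_zero_of_dvd hcN) hB
  · exact_mod_cast hB

/-- Centralisers of elements of order `5`. -/
theorem card_centralizer_five_elt (hG : Nat.card G = 7920) {x : G} (hx : orderOf x = 5) :
    Nat.card ↥(centralizer ({x} : Set G)) = 5 := by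
  have : Fact (Nat.Prime 5) := ⟨by norm_num⟩
  have hz : Nat.card ↥(zpowers x) = 5 := by rw [Nat.card_zpowers, hx]
  obtain ⟨P, hP⟩ := (IsPGroup.of_card (n := 1) (by rw [hz, pow_one]) : IsPGroup 5 ↥(zpowers x)).exists_le_sylow
  have hP5 : Nat.card ↥(P : Subgroup G) = 5 := by
    simpa using card_sylow_eq (e := 1) (m := 1584) (by rw [hG]; norm_num) (by norm_num) P
  have hPeq : zpowers x = (P : Subgroup G) := eq_of_le_of_card_ge hP (by rw [hz, hP5])
  have h := card_centralizer_five hG P
  rwa [← hPeq, zpowers_eq_closure, centralizer_closure] at h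

/-- Centralisers of elements of order `11`. -/
theorem card_centralizer_eleven_elt (hG : Nat.card G = 7920) {x : G} (hx : orderOf x = 11) :
    Nat.card ↥(centralizer ({x} : Set G)) = 11 := by
  have : Fact (Nat.Prime 11) := ⟨by norm_num⟩
  have hz : Nat.card ↥(zpowers x) = 11 := by rw [Nat.card_zpowers, hx]
  obtain ⟨P, hP⟩ := (IsPGroup.of_card (n := 1) (by rw [hz, pow_one]) : IsPGroup 11 ↥(zpowers x)).exists_le_sylow
  have hP11 : Nat.card ↥(P : Subgroup G) = 11 := by
    simpa using card_sylow_eq (e := 1) (m := 720) (by rw [hG]; norm_num) (by norm_num) P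
  have hPeq : zpowers x = (P : Subgroup G) := eq_of_le_of_card_ge hP (by rw [hz, hP11])
  obtain ⟨S⟩ := exists_csplit P hP11
  have h := S.card_centralizer
  rw [(sylow_eleven hG P S).1] at h
  rwa [← hPeq, zpowers_eq_closure, centralizer_closure] at h

end CfsgLib.M11Order
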